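import Cfsg.Agent.Lib.LocalEven.Amalgam33.OddCrit

/-!
# Amalgams of index (3, 3): no odd critical distance above three
-/

set_option autoImplicit false
set_option linter.style.haveILetI false

open Cfsg.Agent.Solv.Amalgam
open Cfsg.Agent.Solv.Amalgam.Data

namespace Cfsg.Agent.LocalEven.Amalgam33

universe u

variable {G : Type u} [Group G] {X : Data G} {i : Bool} {b : ℕ}

theorem not_Zv_le (hM : Main X i) {β α : X.Vtx} (h : X.Adj β α) (hβ : β.1 = !i) :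
    ∃ e ∈ X.Zv α, e ∉ X.Zv β := by
  obtain ⟨τ, hτ, hτne⟩ := exists_other hM.three (adj_symm h)
  obtain ⟨e, he, he1⟩ := hM.exists_ne (typeB hτ (typeA h hβ))
  exact ⟨e, hM.Zv_mono hτ (typeA h hβ) he,
    fun hh => he1 (hM.inter (adj_symm h) hτ hτne (typeA h hβ) hh he)⟩

variable (hM : Main X i) (hb : NearA X i b) (hb5 : 5 ≤ b) (hbo : Odd b)
include hM hb hb5 hbo

/-- A critical walk can be shifted back by two. -/
theorem Main.exists_shift {f : ℕ → X.Vtx} (hf : CritA X i b f) :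
    ∃ β' ν₀, X.Adj (f 0) β' ∧ β' ≠ f 1 ∧ X.Adj β' ν₀ ∧ ν₀ ≠ f 0 ∧ CritA X i b (X.cons ν₀ (X.cons β' f)) := by
  have hb3 : 3 ≤ b := by omega
  obtain ⟨hB, hμA, hlast⟩ := hM.end_type hbo hf
  have hnb := hf.nb hb
  have hw := hf.1
  have hα := hf.2.1
  have hadj : X.Adj (f 0) (f 1) := hw 0 (by omega)
  by_contra hcon
  push Not at hcon
  have hcrit0 : ∀ β' ν₀, X.Adj (f 0) β' → β' ≠ f 1 → X.Adj β' ν₀ →
      X.Zv ν₀ ≤ X.Qv (f (b - 2)) := by
    intro β' ν₀ h1 h2 h3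
    by_cases he : ν₀ = f 0
    · subst he
      exact hb (f 0) (f (b - 2)) (b - 2) (by omega) hα (by simpa using Reach.seg hw (Nat.zero_le (b - 2)) (by omega))
    by_contra hle
    refine hcon β' ν₀ h1 h2 h3 he ⟨walk_le (walk_cons (adj_symm h3) (walk_cons (adj_symm h1) hw)) (by omega),
      typeA h3 (typeB h1 hα), ?_⟩
    rw [show b = b - 2 + 2 by omega]
    exact hle
  obtain ⟨β', hβ', hβ'ne⟩ := exists_other hM.three hadj
  obtain ⟨ν₀, hν₀, hν₀ne⟩ := exists_other hM.three (adj_symm hβ')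
  obtain ⟨ν, hν, hνne⟩ := exists_other hM.three hlast
  have hνA := typeA hν hB
  obtain ⟨a, ha, haQ⟩ := SetLike.not_le_iff_exists.1 hf.2.2
  obtain ⟨v, hv, hvQ⟩ := hM.exists_v hb hb3 hbo hf hν hνne
  have hvfix : ∀ k, 1 ≤ k → k ≤ b → v ∈ X.St (f k) := fun k h1 h2 =>
    hM.fix hb (n := 1 + (b - k)) (by omega) hνA ((Reach.one (adj_symm hν)).trans (Reach.seg hw h2 le_rfl).symm) hv
  have haT : a ∈ X.Tv (f b) (f (b - 1)) := ⟨hM.fix_walk hb hf ha le_rfl, hM.fix_walk hb hf ha (by omega)⟩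
  have h12 : X.Adj (f 1) (f 2) := hw 1 (by omega)
  have hvmv : X.act v (f 0) ≠ f 0 :=
    move h12 (adj_symm hadj) (hnb.2 0 (by omega)) ⟨hvfix 1 le_rfl (by omega), hvfix 2 (by omega) (by omega)⟩ hvQ
  -- a third mover gives transitivity
  suffices hthird : ∀ j m, 3 ≤ m → m ≤ b → (j = i ∧ Odd m ∨ j = (!i) ∧ Even m) → Witness X j m by
    have htr : ∀ m, m ≤ b → ∀ j, Trans X j m := by
      refine trans_le hM.three fun j m hm3 hm => ?_
      have hev : j = i ∧ Even m ∨ j = (!i) ∧ Odd m → Witness X j m := by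
        intro hjm
        obtain ⟨n, rfl⟩ : ∃ n, b = n + 1 := ⟨b - 1, by omega⟩
        simp only [Nat.add_sub_cancel] at hlast haT hνne
        refine witness_end (N := n + 2) (hnb.snoc hν hνne) (u := a) (fun k hk => ?_) ?_ (by omega) ?_
        · rw [snoc_le (by omega)]; exact mem_St_iff.1 (hM.fix_walk hb hf ha (by omega))
        · rw [snoc_last]; exact move hlast hν hνne haT haQ
        · rw [snoc_le (by omega)]
          rcases hjm with ⟨rfl, he⟩ | ⟨rfl, ho⟩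
          · refine (type_of_even hw (by omega) ?_).trans hα
            rw [Nat.odd_iff] at hbo; rw [Nat.even_iff] at he ⊢; omega
          · rw [type_of_odd hw (by omega) (by rw [Nat.odd_iff] at hbo ho ⊢; omega), hα]
      rcases Bool.eq_or_eq_not j i with hj | hj <;> rcases Nat.even_or_odd m with he | ho
      exacts [hev (Or.inl ⟨hj, he⟩), hthird j m hm3 hm (Or.inl ⟨hj, ho⟩), hthird j m hm3 hm (Or.inr ⟨hj, he⟩),
        hev (Or.inr ⟨hj, ho⟩)]
    have hg : NB X (X.cons ν₀ (X.cons β' f)) b :=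
      ((hnb.cons (adj_symm hβ') hβ'ne).cons (adj_symm hν₀) hν₀ne).le (by omega)
    refine (crit_of_trans hb hf (htr b le_rfl i) hg (typeA hν₀ (typeB hβ' hα))).2.2 ?_
    rw [show b = b - 2 + 2 by omega]
    exact hcrit0 β' ν₀ hβ' hβ'ne hν₀
  intro j m hm3 hm hjm
  have hA2 : ∀ {η σ}, X.Adj (f 0) σ → X.Adj σ η → η.1 = i := fun h1 h2 => typeA h2 (typeB h1 hα)
  have hμρ : X.Adj (f (b - 1)) (f (b - 2)) := by
    have := hw (b - 2) (by omega)
    rw [show b - 2 + 1 = b - 1 by omega] at this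
    exact adj_symm this
  have hfixj : ∀ σ η, X.Adj (f 0) σ → X.Adj σ η → ∀ z ∈ X.Zv η, ∀ k ≤ b - 2, z ∈ X.St (f k) :=
    fun σ η h1 h2 z hz k hk => hM.fix hb (n := 2 + k) (by omega) (hA2 h1 h2)
      ((Reach.two (adj_symm h2) (adj_symm h1)).trans (by simpa using Reach.seg hw (Nat.zero_le k) (by omega))) hz
  by_cases hcase : ∀ σ η, X.Adj (f 0) σ → X.Adj σ η → X.Zv η ≤ X.Qv (f (b - 1))
  swap
  · push Not at hcase
    obtain ⟨σ, η, hσ, hη, hnle⟩ := hcase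
    obtain ⟨w, hw', hwQ⟩ := SetLike.not_le_iff_exists.1 hnle
    have hσne : σ ≠ f 1 := by
      rintro rfl
      exact hnle (hb η (f (b - 1)) (1 + (b - 1 - 1)) (by omega) (hA2 hσ hη)
        ((Reach.one (adj_symm hη)).trans (Reach.seg hw (by omega) (by omega))))
    have hwμ : w ∈ X.St (f (b - 1)) := Qv_le_St_nbr (adj_symm hμρ) (hcrit0 σ η hσ hσne hη hw')
    have hg : NB X (X.cons σ f) (b + 1) := hnb.cons (adj_symm hσ) hσne
    refine witness_end hg (u := w) (fun k hk => ?_) ?_ (by omega) ?_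
    · rcases k with _ | k
      · exact hM.fix_act hb (n := 1) (by omega) (hA2 hσ hη) (Reach.one (adj_symm hη)) hw'
      · show X.act w (f k) = f k
        rcases Nat.lt_or_ge k (b - 1) with hk' | hk'
        · exact mem_St_iff.1 (hfixj σ η hσ hη w hw' k (by omega))
        · rw [show k = b - 1 by omega]; exact mem_St_iff.1 hwμ
    · show X.act w (f b) ≠ f b
      refine move hμρ (adj_symm hlast) ?_ ⟨hwμ, hfixj σ η hσ hη w hw' _ le_rfl⟩ hwQ
      have := hnb.2 (b - 2) (by omega)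
      rw [show b - 2 + 2 = b by omega] at this
      exact this.symm
    · rcases hjm with ⟨rfl, ho⟩ | ⟨rfl, he⟩
      · rw [type_of_odd hg.1 (by omega) (by rw [Nat.odd_iff] at hbo ho ⊢; omega)]
        show (!σ.1) = _
        rw [typeB hσ hα, Bool.not_not]
      · exact (type_of_even hg.1 (by omega) (by rw [Nat.odd_iff] at hbo; rw [Nat.even_iff] at he ⊢; omega)).trans
          (typeB hσ hα)
  -- the module spanned at distance two
  set W : Subgroup G := Subgroup.closure {z | ∃ σ η, X.Adj (f 0) σ ∧ X.Adj σ η ∧ z ∈ X.Zv η} with hW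
  have hWμ : W ≤ X.Qv (f (b - 1)) := by
    rw [hW, Subgroup.closure_le]
    rintro z ⟨σ, η, h1, h2, hz⟩
    exact hcase σ η h1 h2 hz
  have hWα : W ≤ X.Qv (f 0) := by
    rw [hW, Subgroup.closure_le]
    rintro z ⟨σ, η, h1, h2, hz⟩
    exact hb η (f 0) 2 (by omega) (hA2 h1 h2) (Reach.two (adj_symm h2) (adj_symm h1)) hz
  have hWfix : ∀ x ∈ W, ∀ k ≤ b, X.act x (f k) = f k := by
    intro x hx k hk
    refine mem_St_iff.1 (?_ : x ∈ X.St (f k))
    rcases Nat.lt_or_ge k (b - 1) with hk' | hk'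
    · refine (show W ≤ X.St (f k) from (Subgroup.closure_le _).2 ?_) hx
      rintro z ⟨σ, η, h1, h2, hz⟩
      exact hfixj σ η h1 h2 z hz k (by omega)
    · rcases Nat.lt_or_eq_of_le hk with hk'' | rfl
      · rw [show k = b - 1 by omega]; exact Qv_le_St _ (hWμ hx)
      · exact Qv_le_St_nbr (adj_symm hlast) (hWμ hx)
  by_cases hnc : ∀ x ∈ W, x ∈ X.Qv (f b) → ∀ η, X.Adj (f b) η → x ∈ X.Qv η
  swap
  · push Not at hnc
    obtain ⟨x, hxW, hxQ, η, hη, hxη⟩ := hnc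
    have hηne : η ≠ f (b - 1) := fun e => hxη (e ▸ hWμ hxW)
    obtain ⟨τ, hτ, hτne⟩ := exists_other hM.three (adj_symm hη)
    obtain ⟨n, rfl⟩ : ∃ n, b = n + 1 := ⟨b - 1, by omega⟩
    simp only [Nat.add_sub_cancel] at hηne
    have hF1 : NB X (snoc f (n + 1) η) (n + 2) := hnb.snoc hη hηne
    have hF2 : NB X (snoc (snoc f (n + 1) η) (n + 2) τ) (n + 3) := hF1.snoc (by rw [snoc_last]; exact hτ)
      (by rw [snoc_le le_rfl]; exact hτne)
    refine witness_end hF2 (u := x) (fun k hk => ?_) ?_ (by omega) ?_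
    · rw [snoc_le (by omega)]
      rcases Nat.lt_or_ge k (n + 2) with hk' | hk'
      · rw [snoc_le (by omega)]; exact hWfix x hxW k (by omega)
      · rw [show k = n + 1 + 1 by omega, snoc_last]; exact Qv_fix hη hxQ
    · rw [show n + 3 = n + 2 + 1 by omega, snoc_last]
      exact move (adj_symm hη) hτ hτne ⟨Qv_le_St_nbr hη hxQ, Qv_le_St _ hxQ⟩ hxη
    · rw [snoc_le (by omega), snoc_le (by omega)]
      rcases hjm with ⟨rfl, ho⟩ | ⟨rfl, he⟩
      · refine (type_of_even hw (by omega) ?_).trans hα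
        rw [Nat.odd_iff] at hbo ho; rw [Nat.even_iff]; omega
      · rw [type_of_odd hw (by omega) (by rw [Nat.odd_iff] at hbo ⊢; rw [Nat.even_iff] at he; omega), hα]
  -- otherwise a normal subgroup
  exfalso
  have hgen : ∀ p, (∀ σ η, X.Adj (f 0) σ → X.Adj σ η → ∀ z ∈ X.Zv η, p * z * p⁻¹ ∈ W) →
      p ∈ Subgroup.normalizer (W : Set G) := by
    intro p hp
    haveI : Finite W := finite_le_St (hWα.trans (Qv_le_St _))
    refine mem_normalizer_of_finite fun x hx => ?_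
    refine (Subgroup.closure_le (W.comap (MulAut.conj p).toMonoidHom)).2 ?_ hx
    rintro z ⟨σ, η, h1, h2, hz⟩
    exact hp σ η h1 h2 z hz
  have hSt : X.St (f 0) ≤ Subgroup.normalizer (W : Set G) := fun p hp => hgen p fun σ η h1 h2 z hz =>
    Subgroup.subset_closure ⟨X.act p σ, X.act p η, adj_act_fix h1 hp, adj_act h2 p,
      by rw [Zv_act]; exact cnj_conj_mem.2 hz⟩
  have hvβ : v ∈ X.St (f 1) := hvfix 1 le_rfl (by omega)
  have hva : v * a * v⁻¹ ∈ W := Subgroup.subset_closure ⟨f 1, X.act v (f 0), hadj,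
    adj_act_fix (adj_symm hadj) hvβ, by rw [Zv_act]; exact cnj_conj_mem.2 ha⟩
  have haW : a ∈ W := Subgroup.subset_closure ⟨f 1, f 0, hadj, adj_symm hadj, ha⟩
  have hcq : ∀ x ∈ W, x ∈ X.Qv (f b) → v * x * v⁻¹ = x := fun x hx hxQ => by
    rw [← hM.Zv_central hv (hnc x hx hxQ ν hν), mul_inv_cancel_right]
  have hvn : v ∈ Subgroup.normalizer (W : Set G) := hgen v fun σ η h1 h2 z hz => by
    have hzW : z ∈ W := Subgroup.subset_closure ⟨σ, η, h1, h2, hz⟩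
    by_cases hzQ : z ∈ X.Qv (f b)
    · rw [hcq z hzW hzQ]; exact hzW
    · have hzT : z ∈ X.Tv (f b) (f (b - 1)) :=
        ⟨mem_St_iff.2 (hWfix z hzW b le_rfl), mem_St_iff.2 (hWfix z hzW (b - 1) (by omega))⟩
      rw [show v * z * v⁻¹ = (v * a * v⁻¹) * (v * (a⁻¹ * z) * v⁻¹) by group,
        hcq _ (mul_mem (inv_mem haW) hzW) (Qv_two hlast haT hzT haQ hzQ)]
      exact mul_mem hva (mul_mem (inv_mem haW) hzW)
  have hStβ : X.St (f 1) ≤ Subgroup.normalizer (W : Set G) :=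
    gen hM.three (adj_symm hadj) ((inf_le_right : X.Tv (f 1) (f 0) ≤ X.St (f 0)).trans hSt) hvβ hvmv hvn
  have hbot := edge_faithful hadj (hWα.trans (Qv_le_Tv hadj))
    (fun p hp x hx => (Subgroup.mem_normalizer_iff.1 (hSt hp) x).1 hx)
    (fun p hp x hx => (Subgroup.mem_normalizer_iff.1 (hStβ hp) x).1 hx)
  rw [hbot, Subgroup.mem_bot] at haW
  exact haQ (haW ▸ one_mem _)

/-- Commutators along a shift. -/
theorem Main.shift_R {f : ℕ → X.Vtx} (hf : CritA X i b f) {β' ν₀ : X.Vtx} (hβ' : X.Adj (f 0) β')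
    (hne : β' ≠ f 1) (hν₀ : X.Adj β' ν₀) (hg : CritA X i b (X.cons ν₀ (X.cons β' f))) {a₀ y : G}
    (ha₀ : a₀ ∈ X.Zv ν₀) (ha₀Q : a₀ ∉ X.Qv (f (b - 2))) (hy : y ∈ X.Zv (f (b - 1)))
    (hy' : y ∉ X.Zv (f (b - 2))) :
    Natural X i ∧ a₀ * y * a₀⁻¹ * y⁻¹ ∈ X.Zv (f 1) ∧ a₀ * y * a₀⁻¹ * y⁻¹ ≠ 1 := by
  have hb3 : 3 ≤ b := by omega
  obtain ⟨hB, hμA, hlast⟩ := hM.end_type hbo hf
  obtain ⟨hk, hY⟩ := hM.odd_two hb hb3 hbo hf
  have hnb := hf.nb hb
  have hw := hf.1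
  have hα := hf.2.1
  have hadj : X.Adj (f 0) (f 1) := hw 0 (by omega)
  have hβ : (f 1).1 = !i := typeB hadj hα
  have hβ'B : β'.1 = !i := typeB hβ' hα
  have hμρ : X.Adj (f (b - 1)) (f (b - 2)) := by
    have := hw (b - 2) (by omega)
    rw [show b - 2 + 1 = b - 1 by omega] at this
    exact adj_symm this
  have hρB : (f (b - 2)).1 = !i := typeB hμρ hμA
  obtain ⟨ν, hν, hνne⟩ := exists_other hM.three hlast
  have hνA := typeA hν hB
  obtain ⟨v, hv, hvQ⟩ := hM.exists_v hb hb3 hbo hf hν hνne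
  -- the mover at the end of the shift
  have hend : X.cons ν₀ (X.cons β' f) (b - 2 + 2) = f (b - 2) := rfl
  have hend3 : X.cons ν₀ (X.cons β' f) (b - 3 + 2) = f (b - 3) := rfl
  have hgn := hg.nb hb
  have h32 : X.Adj (f (b - 2)) (f (b - 3)) := by
    have := hw (b - 3) (by omega)
    rw [show b - 3 + 1 = b - 2 by omega] at this
    exact adj_symm this
  have ha₀T : a₀ ∈ X.Tv (f (b - 2)) (f (b - 3)) := by
    have h1 : a₀ ∈ X.St (X.cons ν₀ (X.cons β' f) (b - 2 + 2)) :=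
      hM.fix_walk hb hg (by exact ha₀) (by omega)
    have h2 : a₀ ∈ X.St (X.cons ν₀ (X.cons β' f) (b - 3 + 2)) :=
      hM.fix_walk hb hg (by exact ha₀) (by omega)
    exact ⟨hend ▸ h1, hend3 ▸ h2⟩
  have hne31 : f (b - 1) ≠ f (b - 3) := by
    have := hnb.2 (b - 3) (by omega)
    rw [show b - 3 + 2 = b - 1 by omega] at this
    exact this.symm
  have ha₀mv : X.act a₀ (f (b - 1)) ≠ f (b - 1) := move h32 (adj_symm hμρ) hne31 ha₀T ha₀Q
  set R := a₀ * y * a₀⁻¹ * y⁻¹ with hR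
  have hRρ : R ∈ Vb X (f (b - 2)) := mul_mem
    (mem_Vb (adj_act_fix (adj_symm hμρ) ha₀T.1) (by rw [Zv_act]; exact cnj_conj_mem.2 hy))
    (inv_mem (mem_Vb (adj_symm hμρ) hy))
  have hR1 : R ≠ 1 := fun e => hy' (hM.inter_A (adj_symm hμρ) (adj_act_fix (adj_symm hμρ) ha₀T.1) ha₀mv hρB hy
    (by rw [Zv_act, ← mul_inv_eq_one.1 (hR ▸ e : a₀ * y * a₀⁻¹ * y⁻¹ = 1)]; exact cnj_conj_mem.2 (by
      rwa [mul_inv_eq_one.1 (hR ▸ e : a₀ * y * a₀⁻¹ * y⁻¹ = 1)] at *)))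
  have hseg : Reach X (f (b - 1)) (f 0) (b - 1) := by
    simpa using (Reach.seg hw (Nat.zero_le (b - 1)) (by omega)).symm
  have hyβ' : y ∈ X.St β' :=
    hM.fix hb (n := b - 1 + 1) (by omega) hμA (hseg.trans (Reach.one hβ')) hy
  have hyT : y ∈ X.Tv β' (f 0) := ⟨hyβ', hM.fix hb (n := b - 1) (by omega) hμA hseg hy⟩
  have hRν : v * R * v⁻¹ = R := by
    rw [mul_inv_eq_iff_eq_mul]
    refine (Subgroup.mem_centralizer_singleton_iff.1
      ((show Vb X (f (b - 2)) ≤ Subgroup.centralizer ({v} : Set G) from (Subgroup.closure_le _).2 ?_) hRρ)).symm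
    rintro z ⟨η, hη, hz⟩
    exact Subgroup.mem_centralizer_singleton_iff.2 (hM.comm_near hb (n := 3 + 1) (by omega) hνA
      ((Reach.step (adj_symm hν) (Reach.two hlast hμρ)).trans (Reach.one hη)) hv hz).symm
  have hRQ : R ∈ X.Qv (f b) := by
    refine (show Vb X (f (b - 2)) ≤ X.Qv (f b) from (Subgroup.closure_le _).2 ?_) hRρ
    rintro z ⟨η, hη, hz⟩
    exact hb η (f b) (1 + (b - (b - 2))) (by omega) (typeA hη hρB)
      ((Reach.one (adj_symm hη)).trans (Reach.seg hw (by omega) le_rfl)) hz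
  have hvT : v ∈ X.Tv (f 1) (f 2) :=
    ⟨hM.fix hb (n := 1 + (b - 1)) (by omega) hνA ((Reach.one (adj_symm hν)).trans (Reach.seg hw (by omega) le_rfl).symm) hv,
     hM.fix hb (n := 1 + (b - 2)) (by omega) hνA ((Reach.one (adj_symm hν)).trans (Reach.seg hw (by omega) le_rfl).symm) hv⟩
  have hεne : X.act v (f 0) ≠ f 0 := move (hw 1 (by omega)) (adj_symm hadj) (hnb.2 0 (by omega)) hvT hvQ
  have hεadj : X.Adj (f 1) (X.act v (f 0)) := adj_act_fix (adj_symm hadj) hvT.1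
  have hRpair : R ∈ Pair X β' (f 0) := by
    have h1 := hM.comm_Pair hb hb3 hk (adj_symm hβ') hβ'B hyT (mem_Vb hν₀ ha₀)
    have e : y * a₀ * y⁻¹ * a₀⁻¹ = R := by
      rw [← hM.Vb_inv hb hb3 hρB hRρ, hR]; group
    rw [e] at h1
    refine h1.resolve_left fun hh => ?_
    have h2 : R ∈ X.Zv (X.act v (f 0)) := by
      rw [← hRν, Zv_act]; exact cnj_conj_mem.2 (hM.Zv_mono hβ' hα hh)
    exact hR1 (hM.inter hadj hβ' hne hα
      (hM.inter_A (adj_symm hadj) hεadj hεne hβ (hM.Zv_mono hβ' hα hh) h2) hh)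
  have hRcos : R ∈ Cos X β' (f 0) := ⟨R, hRpair, 1, one_mem _, (mul_one _).symm⟩
  -- the modules are natural
  have hnat : Natural X i := by
    by_contra hnot
    set ε := X.act v (f 0) with hε
    set σ := X.act v β' with hσ
    have hεA : ε.1 = i := hα
    have hσε : X.Adj σ ε := adj_act (adj_symm hβ') v
    have hRσ : R ∈ Cos X σ ε := by
      rw [← hRν]; exact Cos_act v hRcos
    have hσne : σ ≠ f 1 := fun e => hne (act_inj (e.trans (mem_St_iff.1 hvT.1).symm))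
    obtain ⟨q, hq, hqε⟩ := SetLike.not_le_iff_exists.1
      (hM.not_same hb hb3 (adj_symm hadj) hεadj hεne hβ)
    have hqT : q ∈ X.Tv ε (f 1) := ⟨Qv_le_St_nbr hεadj hq.2, Qv_le_St _ hq.2⟩
    set σ' := X.act q σ with hσ'
    have hσ'ne : σ' ≠ σ := move (adj_symm hεadj) (adj_symm hσε) hσne hqT hqε
    have hσ'ε : X.Adj σ' ε := by
      have := adj_act hσε q
      rwa [mem_St_iff.1 hqT.1] at this
    have hR' : q * R * q⁻¹ ∈ Cos X σ' ε := by
      have := Cos_act q hRσ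
      rwa [mem_St_iff.1 hqT.1] at this
    have hR'p : q * R * q⁻¹ ∈ Pair X β' (f 0) := by
      have := Pair_act q hRpair
      rwa [Qv_fix hβ' hq.1, mem_St_iff.1 (Qv_le_St _ hq.1)] at this
    set n := R⁻¹ * (q * R * q⁻¹) with hn
    have hnZ : n ∈ X.Zv β' := hM.Pair_diff hb hb3 hk (adj_symm hβ') hβ'B hRpair hR'p
    by_cases hn1 : n = 1
    · rw [← inv_mul_eq_one.1 hn1] at hR'
      exact hnot (hM.natural_of_eq hb hb3 hk hσε hσ'ε hσ'ne hεA hRσ hR')
    obtain ⟨p, hpε, hpT, hpQ⟩ := exists_refl hεadj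
    have hpα : X.act p (f 0) ≠ f 0 := move hεadj (adj_symm hadj) hεne.symm hpT hpQ
    have hpσ : X.act p σ = σ := Qv_fix (adj_symm hσε) hpε
    have hpσ' : X.act p σ' = σ' := Qv_fix (adj_symm hσ'ε) hpε
    have hpe : X.act p ε = ε := mem_St_iff.1 (Qv_le_St _ hpε)
    have e1 := hM.Cos_diff hb hb3 hk hσε (typeB (adj_symm hσε) hεA) hRσ
      (by have := Cos_act p hRσ; rwa [hpσ, hpe] at this : p * R * p⁻¹ ∈ Cos X σ ε)
    have e2 := hM.Cos_diff hb hb3 hk hσ'ε (typeB (adj_symm hσ'ε) hεA) hR'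
      (by have := Cos_act p hR'; rwa [hpσ', hpe] at this : p * (q * R * q⁻¹) * p⁻¹ ∈ Cos X σ' ε)
    have hnα : n ∈ X.Zv (f 0) := hM.Zv_mono hβ' hα hnZ
    have hnn : n⁻¹ * (p * n * p⁻¹) ∈ X.Zv ε := by
      have hc : n * (R⁻¹ * (p * R * p⁻¹))⁻¹ = (R⁻¹ * (p * R * p⁻¹))⁻¹ * n :=
        hM.Vb_comm hb hb3 hβ (mem_Vb (adj_symm hadj) hnα) (mem_Vb hεadj (inv_mem e1))
      rw [show n⁻¹ * (p * n * p⁻¹) = n⁻¹ * ((R⁻¹ * (p * R * p⁻¹))⁻¹ * n) *
        ((q * R * q⁻¹)⁻¹ * (p * (q * R * q⁻¹) * p⁻¹)) by rw [hn]; group, ← hc, inv_mul_cancel_left]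
      exact mul_mem (inv_mem e1) e2
    have hn' : n ∉ X.Zv (f 1) := fun hh => hn1 (hM.inter hadj hβ' hne hα hh hnZ)
    have hn'' : p * n * p⁻¹ ∉ X.Zv (f 1) := fun hh => hn' (by
      have := hM.St_B_conj hβ (inv_mem hpT.1) hh
      rw [inv_inv, show p⁻¹ * (p * n * p⁻¹) * p = n by group] at this
      rw [this]; exact hh)
    refine hnot (hM.natural_of_mem hb hb3 hk hεadj hβ (s := n⁻¹ * (p * n * p⁻¹)) ⟨n⁻¹ * (p * n * p⁻¹),
      ⟨f 0, X.act p (f 0), adj_symm hadj, adj_act_fix (adj_symm hadj) hpT.1, hεne.symm, ?_, hpα, n⁻¹,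
        inv_mem hnα, p * n * p⁻¹, by rw [Zv_act]; exact cnj_conj_mem.2 hnα,
        fun hh => hn' (by simpa using inv_mem hh), hn'', rfl⟩, 1, one_mem _, (mul_one _).symm⟩ hnn)
    exact fun e => hεne.symm (act_inj (e.trans hpe.symm))
  exact ⟨hnat, hY R (hnat β' (f 0) hβ'B (adj_symm hβ') R hRpair) hRQ, hR1⟩

/-- Distance five is impossible. -/
theorem Main.not_five {f : ℕ → X.Vtx} (hb5' : b = 5) (hf : CritA X i b f) : False := by
  subst hb5'
  have hb3 : 3 ≤ 5 := by omega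
  obtain ⟨hB, hμA, hlast⟩ := hM.end_type hbo hf
  obtain ⟨hk, -⟩ := hM.odd_two hb hb3 hbo hf
  have hnb := hf.nb hb
  have hw := hf.1
  have hα := hf.2.1
  have h01 : X.Adj (f 0) (f 1) := hw 0 (by omega)
  have h12 : X.Adj (f 1) (f 2) := hw 1 (by omega)
  have h23 : X.Adj (f 2) (f 3) := hw 2 (by omega)
  have h34 : X.Adj (f 3) (f 4) := hw 3 (by omega)
  obtain ⟨β', ν₀, hβ', hβ'ne, hν₀, hν₀ne, hg⟩ := hM.exists_shift hb le_rfl hbo hf
  obtain ⟨a₀, ha₀, ha₀Q⟩ := SetLike.not_le_iff_exists.1 hg.2.2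
  change a₀ ∈ X.Zv ν₀ at ha₀
  change a₀ ∉ X.Qv (f 3) at ha₀Q
  have hρB : (f 3).1 = !i := typeB (adj_symm h34) hμA
  obtain ⟨y₀, hy₀, hy₀'⟩ := not_Zv_le hM h34 hρB
  have hnat := (hM.shift_R hb le_rfl hbo hf hβ' hβ'ne hν₀ hg ha₀ ha₀Q hy₀ hy₀').1
  obtain ⟨ν, hν, hνne⟩ := exists_other hM.three hlast
  have hνA := typeA hν hB
  obtain ⟨v, hv, hvQ⟩ := hM.exists_v hb hb3 hbo hf hν hνne
  obtain ⟨a, ha, haQ⟩ := SetLike.not_le_iff_exists.1 hf.2.2
  have haT : a ∈ X.Tv (f 5) (f 4) := ⟨hM.fix_walk hb hf ha le_rfl, hM.fix_walk hb hf ha (by omega)⟩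
  -- transitivity
  have hF : NB X (snoc f 5 ν) 6 := hnb.snoc hν hνne
  have hafix : ∀ k ≤ 5, X.act a (snoc f 5 ν k) = snoc f 5 ν k := fun k hk => by
    rw [snoc_le hk]; exact mem_St_iff.1 (hM.fix_walk hb hf ha hk)
  have hamv : X.act a (snoc f 5 ν 6) ≠ snoc f 5 ν 6 := by
    rw [snoc_last]; exact move hlast hν hνne haT haQ
  have tb3 : Trans X (!i) 3 := by
    refine trans_step hM.three (m := 1) (trans_two hM.three _) hF 3 (by omega) ?_ (u := a)
      (fun k _ hk => hafix k (by omega)) hamv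
    rw [snoc_le (by omega)]; exact hρB
  obtain ⟨x, hx, hxQ⟩ := SetLike.not_le_iff_exists.1
    (hM.not_same hb hb3 (adj_symm h01) h12 (hnb.2 0 (by omega)).symm (typeB h01 hα))
  have hg4 : NB X (X.cons β' f) 4 := (hnb.cons (adj_symm hβ') hβ'ne).le (by omega)
  have tb4 : Trans X (!i) 4 := by
    refine trans_step hM.three (m := 2) tb3 hg4 0 le_rfl (typeB hβ' hα) (u := x) (fun k _ hk => ?_) ?_
    · rcases k with _ | _ | _ | _ | k
      · exact Qv_fix hβ' hx.1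
      · exact mem_St_iff.1 (Qv_le_St _ hx.1)
      · exact mem_St_iff.1 (Qv_le_St _ hx.2)
      · exact Qv_fix h12 hx.2
      · omega
    · exact move (adj_symm h12) h23 (hnb.2 1 (by omega)).symm ⟨Qv_le_St_nbr h12 hx.2, Qv_le_St _ hx.2⟩ hxQ
  have tb5 : Trans X (!i) 5 := by
    refine trans_step hM.three (m := 3) tb4 hF 1 le_rfl ?_ (u := a) (fun k _ hk => hafix k (by omega)) hamv
    rw [snoc_le (by omega)]; exact typeB h01 hα
  have ta5 : Trans X i 5 := by simpa using trans_rev_odd ⟨2, rfl⟩ tb5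
  -- the middle
  have mid : ∀ s : ℕ → X.Vtx, NB X s 6 → (s 0).1 = i → ∀ p ∈ X.Zv (s 0), p ∉ X.Zv (s 1) →
      ∀ r ∈ X.Zv (s 6), r ∉ X.Zv (s 5) → r * p * r⁻¹ * p⁻¹ ∈ X.Zv (s 3) ∧ r * p * r⁻¹ * p⁻¹ ≠ 1 := by
    intro s hs hs0 p hp hp' r hr hr'
    have key : ∀ s : ℕ → X.Vtx, NB X s 6 → (s 0).1 = i → ∀ p ∈ X.Zv (s 0), p ∉ X.Zv (s 1) →
        ∀ r ∈ X.Zv (s 6), r ∉ X.Zv (s 5) → r * p * r⁻¹ * p⁻¹ ∈ X.Zv (s 2) ∧ r * p * r⁻¹ * p⁻¹ ≠ 1 := by
      intro s hs hs0 p hp hp' r hr hr'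
      have h6A : (s 6).1 = i := (type_of_even hs.1 le_rfl ⟨3, rfl⟩).trans hs0
      have hc := crit_of_trans hb hf ta5 (hs.rev.le (by omega : 5 ≤ 6)) h6A
      have hr1 : r ∉ X.Qv (s 1) := fun hh => hr' ((hM.odd_two hb hb3 hbo hc).2 r hr hh)
      have h1B : (s 1).1 = !i := typeB (hs.1 0 (by omega)) hs0
      have h2A : (s 2).1 = i := (type_of_even hs.1 (by omega) even_two).trans hs0
      have hrT : r ∈ X.Tv (s 1) (s 2) :=
        ⟨hM.fix hb (n := 5) le_rfl h6A (Reach.seg hs.1 (by omega : 1 ≤ 6) le_rfl).symm hr,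
         hM.fix hb (n := 4) (by omega) h6A (Reach.seg hs.1 (by omega : 2 ≤ 6) le_rfl).symm hr⟩
      have h10 : X.Adj (s 1) (s 0) := adj_symm (hs.1 0 (by omega))
      rcases hM.comm_Pair hb hb3 hk (hs.1 1 (by omega)) h1B hrT (mem_Vb h10 hp) with hc' | hc'
      · refine absurd ?_ hp'
        have h' : r * p * r⁻¹ ∈ X.Zv (s 0) := by
          have := mul_mem (hM.Zv_mono (hs.1 0 (by omega)) hs0 hc') hp
          rwa [inv_mul_cancel_right] at this
        have h'' : r * p * r⁻¹ ∈ X.Zv (s 1) := hM.inter_A h10 (adj_act_fix h10 hrT.1)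
          (move (hs.1 1 (by omega)) h10 (hs.2 0 (by omega)) hrT hr1) h1B h' (by rw [Zv_act]; exact cnj_conj_mem.2 hp)
        have := hM.St_B_conj h1B (inv_mem hrT.1) h''
        rw [inv_inv, show r⁻¹ * (r * p * r⁻¹) * r = p by group] at this
        rwa [this]
      · exact ⟨hnat _ _ h1B (hs.1 1 (by omega)) _ hc', fun e => hM.Pair_not_mem h1B hc' (e ▸ one_mem _)⟩
    obtain ⟨c2, c1⟩ := key s hs hs0 p hp hp' r hr hr'
    have h6A : (s 6).1 = i := (type_of_even hs.1 le_rfl ⟨3, rfl⟩).trans hs0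
    obtain ⟨c4, -⟩ := key (fun k => s (6 - k)) hs.rev h6A r hr hr' p hp hp'
    change p * r * p⁻¹ * r⁻¹ ∈ X.Zv (s 4) at c4
    have c4' : r * p * r⁻¹ * p⁻¹ ∈ X.Zv (s 4) := by
      rw [show r * p * r⁻¹ * p⁻¹ = (p * r * p⁻¹ * r⁻¹)⁻¹ by group]; exact inv_mem c4
    exact ⟨hM.inter_A (adj_symm (hs.1 2 (by omega))) (hs.1 3 (by omega)) (hs.2 2 (by omega)).symm
      (by rw [type_of_odd hs.1 (k := 2 + 1) (by omega) ⟨1, by omega⟩, hs0]) c2 c4', c1⟩
  -- two walks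
  have hvT : v ∈ X.Tv (f 1) (f 2) :=
    ⟨hM.fix hb (n := 1 + 4) le_rfl hνA ((Reach.one (adj_symm hν)).trans (Reach.seg hw (by omega : 1 ≤ 5) le_rfl).symm) hv,
     hM.fix hb (n := 1 + 3) (by omega) hνA ((Reach.one (adj_symm hν)).trans (Reach.seg hw (by omega : 2 ≤ 5) le_rfl).symm) hv⟩
  have hvβ : X.act v (f 1) = f 1 := mem_St_iff.1 hvT.1
  have hεne : X.act v (f 0) ≠ f 0 := move h12 (adj_symm h01) (hnb.2 0 (by omega)) hvT hvQ
  have ha₀T : a₀ ∈ X.Tv (f 3) (f 2) :=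
    ⟨hM.fix_walk hb hg (k := 5) (by exact ha₀) le_rfl, hM.fix_walk hb hg (k := 4) (by exact ha₀) (by omega)⟩
  have ha₀ρ : X.act a₀ (f 3) = f 3 := mem_St_iff.1 ha₀T.1
  have hμne : X.act a₀ (f 4) ≠ f 4 := move (adj_symm h23) h34 (hnb.2 2 (by omega)).symm ha₀T ha₀Q
  have hs1 : NB X (X.cons ν₀ (X.cons β' (X.cons (f 0) (X.cons (f 1) (X.cons (X.act v (f 0))
      (X.cons (X.act v β') fun _ => X.act v ν₀)))))) 6 := by
    refine ⟨fun k hk => ?_, fun k hk => ?_⟩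
    · rcases k with _ | _ | _ | _ | _ | _ | k
      exacts [adj_symm hν₀, adj_symm hβ', h01, adj_act_fix (adj_symm h01) hvT.1, adj_act hβ' v, adj_act hν₀ v,
        absurd hk (by omega)]
    · rcases k with _ | _ | _ | _ | _ | k
      · exact hν₀ne
      · exact hβ'ne
      · exact hεne.symm
      · show f 1 ≠ X.act v β'
        exact fun e => hβ'ne (act_inj (e.symm.trans hvβ.symm))
      · show X.act v (f 0) ≠ X.act v ν₀
        exact fun e => hν₀ne (act_inj e).symm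
      · omega
  have hs2 : NB X (X.cons ν (X.cons (f 5) (X.cons (f 4) (X.cons (f 3) (X.cons (X.act a₀ (f 4))
      (X.cons (X.act a₀ (f 5)) fun _ => X.act a₀ ν)))))) 6 := by
    refine ⟨fun k hk => ?_, fun k hk => ?_⟩
    · rcases k with _ | _ | _ | _ | _ | _ | k
      exacts [adj_symm hν, hlast, adj_symm h34, adj_act_fix h34 ha₀T.1, adj_act (adj_symm hlast) a₀,
        adj_act hν a₀, absurd hk (by omega)]
    · rcases k with _ | _ | _ | _ | _ | k
      · exact hνne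
      · exact (hnb.2 3 (by omega)).symm
      · exact hμne.symm
      · show f 3 ≠ X.act a₀ (f 5)
        exact fun e => hnb.2 3 (by omega) (act_inj (ha₀ρ.trans e))
      · show X.act a₀ (f 4) ≠ X.act a₀ ν
        exact fun e => hνne (act_inj e).symm
      · omega
  have ha₀' : a₀ ∉ X.Zv β' := fun hh => ha₀Q (hb (f 0) (f 3) 3 (by omega) hα
    (Reach.seg hw (Nat.zero_le 3) (by omega)) (hM.Zv_mono hβ' hα hh))
  have hv' : v ∉ X.Zv (f 5) := fun hh => hvQ (hb (f 4) (f 1) 3 (by omega) hμA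
    (Reach.seg hw (by omega : 1 ≤ 4) (by omega)).symm (hM.Zv_mono (adj_symm hlast) hμA hh))
  obtain ⟨c1, c1'⟩ := mid _ hs1 (typeA hν₀ (typeB hβ' hα)) a₀ ha₀ ha₀' (v * a₀ * v⁻¹)
    (by show v * a₀ * v⁻¹ ∈ X.Zv (X.act v ν₀); rw [Zv_act]; exact cnj_conj_mem.2 ha₀)
    (by show v * a₀ * v⁻¹ ∉ X.Zv (X.act v β'); rw [Zv_act]; exact fun hh => ha₀' (cnj_conj_mem.1 hh))
  obtain ⟨c2, -⟩ := mid _ hs2 hνA v hv hv' (a₀ * v * a₀⁻¹)
    (by show a₀ * v * a₀⁻¹ ∈ X.Zv (X.act a₀ ν); rw [Zv_act]; exact cnj_conj_mem.2 hv)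
    (by show a₀ * v * a₀⁻¹ ∉ X.Zv (X.act a₀ (f 5)); rw [Zv_act]; exact fun hh => hv' (cnj_conj_mem.1 hh))
  have hvi := hM.Zv_inv hv
  have hai := hM.Zv_inv ha₀
  set z₁ := v * a₀ * v⁻¹ * a₀ * (v * a₀ * v⁻¹)⁻¹ * a₀⁻¹ with hz₁
  set z₂ := a₀ * v * a₀⁻¹ * v * (a₀ * v * a₀⁻¹)⁻¹ * v⁻¹ with hz₂
  change z₁ ∈ X.Zv (f 1) at c1
  change z₂ ∈ X.Zv (f 3) at c2
  have e : z₁⁻¹ = z₂ := by
    rw [hz₁, hz₂]
    simp only [mul_inv_rev, inv_inv, hvi, hai, mul_assoc]
  rw [← e, hM.Zv_inv c1] at c2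
  exact c1' (hM.inter (adj_symm h12) h23 (hnb.2 1 (by omega)).symm
    ((type_of_even hw (by omega) even_two).trans hα) c1 c2)

/-- Distance at least seven is impossible. -/
theorem Main.not_seven {f : ℕ → X.Vtx} (hb7 : 7 ≤ b) (hf : CritA X i b f) : False := by
  have hb3 : 3 ≤ b := by omega
  -- the commutator of a critical pair is the centre three steps in
  have hthree : ∀ f : ℕ → X.Vtx, CritA X i b f → ∀ ν, X.Adj (f b) ν → ν ≠ f (b - 1) →
      ∀ a ∈ X.Zv (f 0), a ∉ X.Qv (f b) → ∀ y ∈ X.Zv ν, y ∉ X.Zv (f b) →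
        a * y * a⁻¹ * y⁻¹ ∈ X.Zv (f 3) ∧ a * y * a⁻¹ * y⁻¹ ≠ 1 := by
    intro f hf ν hν hνne a ha haQ y hy hy'
    have hnb := hf.nb hb
    set h := X.cons ν fun k => f (b - k) with hh
    have hcr : CritA X i b h := hM.rev_crit hb hb3 hbo hf hν hνne
    obtain ⟨σ, ν₁, hσ, hσne, hν₁, -, hg⟩ := hM.exists_shift hb hb5 hbo hcr
    set g := X.cons ν₁ (X.cons σ h) with hgdef
    have hgv : ∀ k, g (k + 3) = f (b - k) := fun k => rfl
    have e3 : g b = f 3 := by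
      have := hgv (b - 3)
      rwa [show b - 3 + 3 = b by omega, show b - (b - 3) = 3 by omega] at this
    have e4 : g (b - 1) = f 4 := by
      have := hgv (b - 4)
      rwa [show b - 4 + 3 = b - 1 by omega, show b - (b - 4) = 4 by omega] at this
    have h2 : X.Adj (f 2) (f 3) := hf.1 2 (by omega)
    set h' := X.cons (f 2) fun k => g (b - k) with hh'
    have hcr' : CritA X i b h' := hM.rev_crit hb hb3 hbo hg (e3.symm ▸ adj_symm h2)
      (e4.symm ▸ hnb.2 2 (by omega))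
    have hval : ∀ j, 1 ≤ j → j ≤ b - 2 → h' j = f (j + 2) := by
      intro j hj1 hj
      obtain ⟨j, rfl⟩ := Nat.exists_eq_add_of_le' hj1
      show g (b - j) = _
      have := hgv (b - j - 3)
      rwa [show b - j - 3 + 3 = b - j by omega, show b - (b - j - 3) = j + 1 + 2 by omega] at this
    have eb : h' (b - 2) = f b := by rw [hval _ (by omega) le_rfl, show b - 2 + 2 = b by omega]
    have eν : h' (b - 1) = ν := by
      obtain ⟨n, hn⟩ : ∃ n, b - 1 = n + 1 := ⟨b - 2, by omega⟩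
      rw [hn]
      show g (b - n) = ν
      rw [show b - n = 2 by omega]
      rfl
    have hcg : CritA X i b (X.cons (f 0) (X.cons (f 1) h')) := by
      refine ⟨walk_le (walk_cons (hf.1 0 (by omega)) (walk_cons (hf.1 1 (by omega)) hcr'.1)) (by omega),
        hf.2.1, ?_⟩
      have : X.cons (f 0) (X.cons (f 1) h') b = f b := by
        conv_lhs => rw [show b = b - 2 + 2 by omega]
        exact eb
      rw [this]
      exact hf.2.2
    have := hM.shift_R hb hb5 hbo hcr' (β' := f 1) (ν₀ := f 0) (adj_symm (hf.1 1 (by omega)))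
      (by rw [hval 1 le_rfl (by omega)]; exact hnb.2 1 (by omega)) (adj_symm (hf.1 0 (by omega))) hcg
      ha (by rw [eb]; exact haQ) (y := y) (by rw [eν]; exact hy) (by rw [eb]; exact hy')
    rw [hval 1 le_rfl (by omega)] at this
    exact this.2
  have hkey : ∀ f : ℕ → X.Vtx, CritA X i b f → X.Zv (f 3) = X.Zv (f (b - 2)) := by
    intro f hf
    have hnb := hf.nb hb
    obtain ⟨hB, hμA, hlast⟩ := hM.end_type hbo hf
    obtain ⟨hk, hY⟩ := hM.odd_two hb hb3 hbo hf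
    obtain ⟨ν, hν, hνne⟩ := exists_other hM.three hlast
    obtain ⟨v, hv, hvQ⟩ := hM.exists_v hb hb3 hbo hf hν hνne
    obtain ⟨a, ha, haQ⟩ := SetLike.not_le_iff_exists.1 hf.2.2
    have h01 : X.Adj (f 0) (f 1) := hf.1 0 (by omega)
    have haβ : a ∉ X.Zv (f 1) := fun hh => haQ (hM.Zv_mono (adj_symm (hf.1 1 (by omega)))
      ((type_of_even hf.1 (by omega) even_two).trans hf.2.1) hh |> hb (f 2) (f b) (b - 2) (by omega)
        ((type_of_even hf.1 (by omega) even_two).trans hf.2.1) (Reach.seg hf.1 (by omega) le_rfl))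
    have hvB : v ∉ X.Zv (f b) := fun hh => hvQ (hb (f (b - 1)) (f 1) (b - 1 - 1) (by omega) hμA
      (Reach.seg hf.1 (by omega) (by omega)).symm (hM.Zv_mono (adj_symm hlast) hμA hh))
    obtain ⟨c3, c1⟩ := hthree f hf ν hν hνne a ha haQ v hv hvB
    set h := X.cons ν fun k => f (b - k) with hh
    have hcr : CritA X i b h := hM.rev_crit hb hb3 hbo hf hν hνne
    have hhv : ∀ k, h (k + 1) = f (b - k) := fun k => rfl
    have e1 : h b = f 1 := by
      have := hhv (b - 1)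
      rwa [show b - 1 + 1 = b by omega, show b - (b - 1) = 1 by omega] at this
    have e2 : h (b - 1) = f 2 := by
      have := hhv (b - 2)
      rwa [show b - 2 + 1 = b - 1 by omega, show b - (b - 2) = 2 by omega] at this
    obtain ⟨d3, -⟩ := hthree h hcr (f 0) (e1.symm ▸ adj_symm h01) (e2.symm ▸ hnb.2 0 (by omega))
      v hv (e1.symm ▸ hvQ) a ha (e1.symm ▸ haβ)
    rw [show h 3 = f (b - 2) from hhv 2] at d3
    have d3' : a * v * a⁻¹ * v⁻¹ ∈ X.Zv (f (b - 2)) := by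
      rw [show a * v * a⁻¹ * v⁻¹ = (v * a * v⁻¹ * a⁻¹)⁻¹ by group]; exact inv_mem d3
    have h3B : (f 3).1 = !i := by rw [type_of_odd hf.1 (k := 3) (by omega) ⟨1, by omega⟩, hf.2.1]
    have hρB : (f (b - 2)).1 = !i := by
      rw [type_of_odd hf.1 (by omega) (by rw [Nat.odd_iff] at hbo ⊢; omega), hf.2.1]
    exact le_antisymm (hM.B_le hk h3B c3 c1 d3') (hM.B_le hk hρB d3' c1 c3)
  obtain ⟨β', ν₀, hβ', hβ'ne, hν₀, -, hg⟩ := hM.exists_shift hb hb5 hbo hf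
  obtain ⟨σ, ν₁, -, -, -, -, hg'⟩ := hM.exists_shift hb hb5 hbo hg
  have k1 := hkey _ hg
  have k2 := hkey _ hg'
  rw [show b - 2 = b - 4 + 2 by omega] at k1
  rw [show b - 2 = b - 6 + 2 + 2 by omega] at k2
  change X.Zv (f 1) = X.Zv (f (b - 4)) at k1
  change X.Zv β' = X.Zv (f (b - 6)) at k2
  have hw := hf.1
  have h5A : (f (b - 5)).1 = i :=
    (type_of_even hw (by omega) (by rw [Nat.odd_iff] at hbo; rw [Nat.even_iff]; omega)).trans hf.2.1
  have h54 : X.Adj (f (b - 5)) (f (b - 4)) := by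
    have := hw (b - 5) (by omega)
    rwa [show b - 5 + 1 = b - 4 by omega] at this
  have h56 : X.Adj (f (b - 5)) (f (b - 6)) := by
    have := hw (b - 6) (by omega)
    rw [show b - 6 + 1 = b - 5 by omega] at this
    exact adj_symm this
  refine hf.2.2 ((hM.Zv_le_of_two (hw 0 (by omega)) hβ' hβ'ne hf.2.1 ?_ ?_).trans
    (hb (f (b - 5)) (f b) (b - (b - 5)) (by omega) h5A (Reach.seg hw (by omega) le_rfl)))
  · rw [k1]; exact hM.Zv_mono h54 h5A
  · rw [k2]; exact hM.Zv_mono h56 h5A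

end Cfsg.Agent.LocalEven.Amalgam33
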