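import Cfsg.Agent.Lib.LocalEven.Amalgam33.Walks

/-!
# Amalgams of index (3, 3): the critical distance one
-/

set_option autoImplicit false
set_option linter.style.haveILetI false

open Cfsg.Agent.Solv.Amalgam
open Cfsg.Agent.Solv.Amalgam.Data

namespace Cfsg.Agent.LocalEven.Amalgam33

universe u

variable {G : Type u} [Group G] {X : Data G} {i : Bool}

theorem Main.bound_one (hM : Main X i) {f : ℕ → X.Vtx} (hf : CritA X i 1 f) : Nat.card X.T ≤ 32 := by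
  obtain ⟨hw, hα, hn⟩ := hf
  have hadj : X.Adj (f 0) (f 1) := hw 0 (by omega)
  set α := f 0
  set β := f 1
  have hβ : β.1 = !i := typeB hadj hα
  have hab : X.Adj β α := adj_symm hadj
  obtain ⟨a, ha, haβ⟩ := SetLike.not_le_iff_exists.1 hn
  have haT : a ∈ X.Tv β α := (Tv_comm α β) ▸ Zv_le_Tv' hadj (hM.Zv_le α) ha
  obtain ⟨γ, hγ, hγα⟩ := exists_other hM.three hab
  -- a conjugate on the other neighbour
  obtain ⟨g, hg, hgα⟩ := exists_act_nbr hab hγ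
  set c := g * a * g⁻¹ with hc
  have hcZ : c ∈ X.Zv γ := by rw [← hgα, Zv_act]; exact cnj_conj_mem.2 ha
  have hcT : c ∈ X.Tv β γ := (Tv_comm γ β) ▸ Zv_le_Tv' (adj_symm hγ) (hM.Zv_le γ) hcZ
  have hcβ : c ∉ X.Qv β := fun h => haβ (by
    have := Qv_normal (inv_mem hg) h
    rwa [inv_inv, hc, show g⁻¹ * (g * a * g⁻¹) * g = a by group] at this)
  have hcmv : X.act c α ≠ α := move hγ hab hγα.symm hcT hcβ
  haveI := hM.Zv_finite α
  haveI := hM.Zv_finite β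
  haveI : Finite ↥(X.Zv α ⊓ X.Qv β) := finite_le_St (inf_le_right.trans (Qv_le_St β))
  haveI : Finite ↥(X.Zv α ⊓ X.Qv β ⊓ X.Qv γ) := finite_le_St (inf_le_right.trans (Qv_le_St γ))
  have h1 : Nat.card (X.Zv α) ≤ 2 * Nat.card ↥(X.Zv α ⊓ X.Qv β) :=
    card_le_two (· ∈ X.Qv β) fun x hx y hy e => by
      refine ⟨(X.Zv α).mul_mem ((X.Zv α).inv_mem hx) hy, ?_⟩
      by_cases hyβ : y ∈ X.Qv β
      · exact (X.Qv β).mul_mem ((X.Qv β).inv_mem (e.2 hyβ)) hyβ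
      · exact Qv_two hab ((Tv_comm α β) ▸ Zv_le_Tv' hadj (hM.Zv_le α) hx)
          ((Tv_comm α β) ▸ Zv_le_Tv' hadj (hM.Zv_le α) hy) (fun hh => hyβ (e.1 hh)) hyβ
  have h2 : Nat.card ↥(X.Zv α ⊓ X.Qv β) ≤ 2 * Nat.card ↥(X.Zv α ⊓ X.Qv β ⊓ X.Qv γ) :=
    card_le_two (· ∈ X.Qv γ) fun x hx y hy e =>
      ⟨(X.Zv α ⊓ X.Qv β).mul_mem ((X.Zv α ⊓ X.Qv β).inv_mem hx) hy, Qv_two' hγ hx.2 hy.2 e⟩
  have h3 : Nat.card ↥(X.Zv α ⊓ X.Qv β ⊓ X.Qv γ) ≤ Nat.card (X.Zv β) := by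
    refine Nat.le_of_dvd Nat.card_pos (Subgroup.card_dvd_of_le ?_)
    rintro y ⟨⟨hy, -⟩, hyγ⟩
    refine hM.inter_A hab (adj_act_fix hab hcT.1) hcmv hβ hy ?_
    have h4 : c * y * c⁻¹ ∈ X.Zv (X.act c α) := by rw [Zv_act]; exact cnj_conj_mem.2 hy
    rwa [← hM.Zv_central hcZ hyγ, mul_inv_cancel_right] at h4
  obtain ⟨β', hβ', hβ'ne⟩ := exists_other hM.three hadj
  have hcard := (hM.structure_A hadj hβ' hβ'ne hα).1
  have hcB := hM.card_B hβ
  rw [hcB] at h3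
  have hn4 : Nat.card (X.V (!i)) ≤ 4 := by
    have : Nat.card (X.V (!i)) * Nat.card (X.V (!i)) ≤ 4 * Nat.card (X.V (!i)) := by omega
    exact Nat.le_of_mul_le_mul_right this (by have := hM.one_lt_card; omega)
  -- squares
  haveI := Qv_finite α
  set S : Subgroup G := Subgroup.closure {y | ∃ q ∈ X.Qv α, y = q * q} with hS
  have hSQ : S ≤ X.Qv α := by
    rw [hS, Subgroup.closure_le]
    rintro _ ⟨q, hq, rfl⟩
    exact mul_mem hq hq
  haveI : Finite S := finite_le_St (hSQ.trans (Qv_le_St α))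
  have hSn : X.St α ≤ Subgroup.normalizer (S : Set G) := fun p hp => mem_normalizer_of_finite fun s hs => by
    refine (Subgroup.closure_le (S.comap (MulAut.conj p).toMonoidHom)).2 ?_ hs
    rintro _ ⟨q, hq, rfl⟩
    exact Subgroup.subset_closure ⟨p * q * p⁻¹, Qv_normal hp hq, conj_mul.symm⟩
  have hcS : ∀ s ∈ S, c * s * c⁻¹ = s := by
    intro s hs
    induction hs using Subgroup.closure_induction with
    | mem y hy =>
      obtain ⟨q, hq, rfl⟩ := hy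
      obtain ⟨d, hd, hdq⟩ : ∃ d ∈ X.Qv β, q * q = d * d := by
        by_cases hqβ : q ∈ X.Qv β
        · exact ⟨q, hqβ, rfl⟩
        refine ⟨a⁻¹ * q, Qv_two hab haT ((Tv_comm α β) ▸ Qv_le_Tv hadj hq) haβ hqβ, ?_⟩
        calc q * q = (a * a)⁻¹ * (q * q) := by rw [hM.Zv_sq ha, inv_one, one_mul]
          _ = a⁻¹ * (a⁻¹ * q) * q := by group
          _ = a⁻¹ * (q * a⁻¹) * q := by rw [hM.Zv_central (inv_mem ha) hq]
          _ = _ := by group
      rw [hdq]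
      have hdd : d * d ∈ X.Qv γ := sq_mem (adj_symm hγ) ((Tv_comm β γ) ▸ Qv_le_Tv hγ hd)
      rw [← hM.Zv_central hcZ hdd, mul_inv_cancel_right]
    | one => group
    | mul x y _ _ hx hy => rw [← conj_mul, hx, hy]
    | inv x _ hx => rw [← conj_inv, hx]
  have hSβ : X.St β ≤ Subgroup.normalizer (S : Set G) :=
    gen hM.three hab ((Tv_comm α β) ▸ (inf_le_left.trans hSn : X.Tv α β ≤ _)) hcT.1 hcmv
      (mem_normalizer_of_finite fun s hs => by rw [hcS s hs]; exact hs)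
  have hSbot : S = ⊥ := edge_faithful hadj (hSQ.trans (Qv_le_Tv hadj))
    (fun p hp n hn => (Subgroup.mem_normalizer_iff.1 (hSn hp) n).1 hn)
    (fun p hp n hn => (Subgroup.mem_normalizer_iff.1 (hSβ hp) n).1 hn)
  have hsq : ∀ q ∈ X.Qv α, q * q = 1 := fun q hq =>
    Subgroup.mem_bot.1 (hSbot ▸ Subgroup.subset_closure ⟨q, hq, rfl⟩)
  have hinv : ∀ q ∈ X.Qv α, q⁻¹ = q := fun q hq => inv_eq_of_mul_eq_one_right (hsq q hq)
  have hcomm : ∀ p ∈ X.Qv α, ∀ q ∈ X.Qv α, p * q = q * p := fun p hp q hq => by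
    calc p * q = (p * q)⁻¹ := (hinv _ (mul_mem hp hq)).symm
      _ = q * p := by rw [mul_inv_rev, hinv p hp, hinv q hq]
  -- counting
  obtain ⟨t, -, ht, htQ⟩ := exists_refl hadj
  have hfix : ∀ w ∈ X.Qv α, t * w = w * t → w ∈ X.Zv β := by
    intro w hw hwt
    refine hM.central_mem hadj hα (Qv_le_Tv hadj hw) (hsq w hw) fun s hs => ?_
    have : X.Tv α β ≤ Subgroup.centralizer ({w} : Set G) :=
      Tv_le_of_mem hadj (fun q hq => Subgroup.mem_centralizer_singleton_iff.2 (hcomm q hq w hw)) ht htQ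
        (Subgroup.mem_centralizer_singleton_iff.2 hwt)
    exact Subgroup.mem_centralizer_singleton_iff.1 (this hs)
  have hQ : Nat.card (X.Qv α) ≤ Nat.card (X.Zv β) * Nat.card (X.Zv β) := by
    refine card_le_mul (fun q => q * t * q⁻¹ * t⁻¹) (fun q hq => ?_) (fun x hx y hy e => ?_)
    · have hu : t * q * t⁻¹ ∈ X.Qv α := Qv_normal ht.1 hq
      have e : q * t * q⁻¹ * t⁻¹ = q * (t * q * t⁻¹) := by
        conv_rhs => rw [← hinv _ hu]
        group
      show q * t * q⁻¹ * t⁻¹ ∈ X.Zv β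
      rw [e]
      refine hfix _ (mul_mem hq hu) (mul_inv_eq_iff_eq_mul.1 ?_)
      calc t * (q * (t * q * t⁻¹)) * t⁻¹ = (t * q * t⁻¹) * ((t * t) * q * (t * t)⁻¹) := by group
        _ = (t * q * t⁻¹) * q := by rw [hcomm _ (sq_mem hadj ht) q hq, mul_inv_cancel_right]
        _ = _ := hcomm _ hu _ hq
    · refine hfix _ (mul_mem (inv_mem hx) hy) ?_
      have e' : x * t * x⁻¹ = y * t * y⁻¹ := mul_right_cancel e
      calc t * (x⁻¹ * y) = x⁻¹ * (x * t * x⁻¹) * y := by group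
        _ = x⁻¹ * (y * t * y⁻¹) * y := by rw [e']
        _ = _ := by group
  rw [hcB] at hQ
  have h16 : Nat.card (X.V (!i)) * Nat.card (X.V (!i)) ≤ 16 :=
    (Nat.mul_le_mul hn4 hn4).trans (by norm_num)
  have := card_T_Qv hadj
  omega

end Cfsg.Agent.LocalEven.Amalgam33
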