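import Cfsg.Agent.Lib.LocalEven.Amalgam33.OddCrit

/-!
# Amalgams of index (3, 3): critical distance three
-/

set_option autoImplicit false
set_option linter.style.haveILetI false

open Cfsg.Agent.Solv.Amalgam
open Cfsg.Agent.Solv.Amalgam.Data

namespace Cfsg.Agent.LocalEven.Amalgam33

universe u

variable {G : Type u} [Group G] {X : Data G} {i : Bool}

theorem Vb_act {v : X.Vtx} (g : G) {x : G} (hx : x ∈ Vb X v) : g * x * g⁻¹ ∈ Vb X (X.act g v) := by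
  refine (Subgroup.closure_le ((Vb X (X.act g v)).comap (MulAut.conj g).toMonoidHom)).2 ?_ hx
  rintro z ⟨η, hη, hz⟩
  exact mem_Vb (adj_act hη g) (by rw [Zv_act]; exact cnj_conj_mem.2 hz)

/-- The data at critical distance three. -/
structure Three3 (X : Data G) (i : Bool) : Prop where
  main : Main X i
  near : NearA X i 3
  two : Nat.card (X.V (!i)) = 2
  natural : Natural X i
  meet : ∀ α σ₁ γ σ₂, X.Adj α σ₁ → X.Adj σ₁ γ → X.Adj γ σ₂ → α ≠ γ → σ₂ ≠ σ₁ → α.1 = i →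
    ∀ x ∈ X.Zv α, x ∈ X.Qv σ₂ → x ∈ X.Zv σ₁

theorem Main.three_data (hM : Main X i) (hb : NearA X i 3) {f : ℕ → X.Vtx} (hf : CritA X i 3 f) :
    Three3 X i := by
  have hbo : Odd 3 := ⟨1, rfl⟩
  obtain ⟨hk, hY⟩ := hM.odd_two hb le_rfl hbo hf
  obtain ⟨hB, hμA, hlast⟩ := hM.end_type hbo hf
  have hnb := hf.nb hb
  have h01 : X.Adj (f 0) (f 1) := hf.1 0 (by omega)
  have h12 : X.Adj (f 1) (f 2) := hf.1 1 (by omega)
  have hne02 : f 0 ≠ f 2 := hnb.2 0 (by omega)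
  have hne13 : f 1 ≠ f 3 := hnb.2 1 le_rfl
  have hβ : (f 1).1 = !i := typeB h01 hf.2.1
  -- all walks of length three are critical
  have htr : Trans X i 3 := by
    obtain ⟨x, hx, hx2⟩ := SetLike.not_le_iff_exists.1
      (hM.not_same hb le_rfl (adj_symm h01) h12 hne02.symm hβ)
    refine trans_succ hM.three (trans_two hM.three i) hnb hf.2.1 (u := x) (fun k hk => ?_) ?_
    · rcases k with _ | _ | _ | k
      · exact mem_St_iff.1 (Qv_le_St _ hx.1)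
      · exact mem_St_iff.1 (Qv_le_St _ hx.2)
      · exact Qv_fix h12 hx.2
      · omega
    · exact move (adj_symm h12) (adj_symm hlast) hne13.symm ⟨Qv_le_St_nbr h12 hx.2, Qv_le_St _ hx.2⟩ hx2
  have hmeet : ∀ α σ₁ γ σ₂, X.Adj α σ₁ → X.Adj σ₁ γ → X.Adj γ σ₂ → α ≠ γ → σ₂ ≠ σ₁ → α.1 = i →
      ∀ x ∈ X.Zv α, x ∈ X.Qv σ₂ → x ∈ X.Zv σ₁ := by
    intro α σ₁ γ σ₂ h1 h2 h3 n1 n2 hα
    have hg : NB X (X.cons α (X.cons σ₁ (X.cons γ fun _ => σ₂))) 3 := by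
      refine ⟨fun k hk => ?_, fun k hk => ?_⟩
      · rcases k with _ | _ | _ | k
        exacts [h1, h2, h3, absurd hk (by omega)]
      · rcases k with _ | _ | k
        exacts [n1, n2.symm, absurd hk (by omega)]
    exact (hM.odd_two hb le_rfl hbo (crit_of_trans hb hf htr hg hα)).2
  refine ⟨hM, hb, hk, ?_, hmeet⟩
  obtain ⟨a, ha, haQ⟩ := SetLike.not_le_iff_exists.1 hf.2.2
  obtain ⟨ν, hν, hne⟩ := exists_other hM.three hlast
  obtain ⟨v, hv, hvQ⟩ := hM.exists_v hb le_rfl hbo hf hν hne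
  have hνA := typeA hν hB
  have h23 : X.Adj (f 2) (f 3) := adj_symm hlast
  have hvT : v ∈ X.Tv (f 1) (f 2) :=
    ⟨hM.fix hb (n := 3) le_rfl hνA
      (Reach.step (adj_symm hν) (Reach.two (adj_symm h23) (adj_symm h12))) hv,
     hM.fix hb (n := 2) (by omega) hνA (Reach.two (adj_symm hν) (adj_symm h23)) hv⟩
  have haT : a ∈ X.Tv (f 3) (f 2) := ⟨hM.fix_walk hb hf ha le_rfl, hM.fix_walk hb hf ha (by omega)⟩
  have h1 : v * a * v⁻¹ * a⁻¹ ∈ Pair X (f 1) (f 2) := by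
    refine (hM.comm_Pair hb le_rfl hk h12 hβ hvT (mem_Vb (adj_symm h01) ha)).resolve_left fun h => haQ ?_
    have h' : v * a * v⁻¹ ∈ X.Zv (f 0) := by
      have := mul_mem (hM.Zv_mono h01 hf.2.1 h) ha
      rwa [inv_mul_cancel_right] at this
    have h'' : v * a * v⁻¹ ∈ X.Zv (f 1) := hM.inter_A (adj_symm h01) (adj_act_fix (adj_symm h01) hvT.1)
      (move h12 (adj_symm h01) hne02 hvT hvQ) hβ h' (by rw [Zv_act]; exact cnj_conj_mem.2 ha)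
    have haβ : a ∈ X.Zv (f 1) := by
      have := hM.St_B_conj hβ (inv_mem hvT.1) h''
      rw [inv_inv, show v⁻¹ * (v * a * v⁻¹) * v = a by group] at this
      rwa [this]
    exact hb (f 2) (f 3) 1 (by omega) hμA (Reach.one h23) (hM.Zv_mono (adj_symm h12) hμA haβ)
  have h2 : a * v * a⁻¹ * v⁻¹ ∈ X.Zv (f 3) ∨ a * v * a⁻¹ * v⁻¹ ∈ Pair X (f 3) (f 2) :=
    hM.comm_Pair hb le_rfl hk hlast hB haT (mem_Vb hν hv)
  have e : a * v * a⁻¹ * v⁻¹ = v * a * v⁻¹ * a⁻¹ := by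
    rw [← hM.Vb_inv hb le_rfl hβ (Pair_sub h1)]; group
  rw [e] at h2
  rcases h2 with h2 | h2
  · exact hM.natural_of_mem hb le_rfl hk h12 hβ ⟨_, h1, 1, one_mem _, (mul_one _).symm⟩
      (hM.Zv_mono h23 hμA h2)
  · exact hM.natural_of_eq hb le_rfl hk h12 hlast hne13.symm hμA ⟨_, h1, 1, one_mem _, (mul_one _).symm⟩
      ⟨_, h2, 1, one_mem _, (mul_one _).symm⟩

variable (h : Three3 X i)
include h

theorem Three3.Vb_le_core {σ : X.Vtx} (hσ : σ.1 = !i) : Vb X σ ≤ core X σ := fun v hv =>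
  ⟨h.main.Vb_le h.near le_rfl hσ hv, fun η hη => h.main.cent' hη hσ (h.main.Vb_le h.near le_rfl hσ hv)
    fun _ hz => h.main.Vb_comm h.near le_rfl hσ hv (mem_Vb hη hz)⟩

theorem Three3.third_mem {γ σ₁ σ₂ σ₃ : X.Vtx} (h1 : X.Adj γ σ₁) (h2 : X.Adj γ σ₂) (h3 : X.Adj γ σ₃)
    (n12 : σ₂ ≠ σ₁) (n13 : σ₃ ≠ σ₁) (n23 : σ₃ ≠ σ₂) (hγ : γ.1 = i) {z : G} (hz : z ∈ X.Zv γ)
    (hz1 : z ∉ X.Zv σ₁) (hz2 : z ∉ X.Zv σ₂) : z ∈ X.Zv σ₃ := by
  obtain ⟨x, hx, y, hy, rfl⟩ := (h.main.structure_A h1 h2 n12 hγ).2.1 z hz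
  exact h.main.A_third h.two h1 h2 h3 n12 n13 n23 hγ hx hy (fun e => hz2 (by rw [e, one_mul]; exact hy))
    (fun e => hz1 (by rw [e, mul_one]; exact hx))

theorem Three3.Vb_cases {σ γ ν : X.Vtx} (hγ : X.Adj σ γ) (hν : X.Adj σ ν) (hne : ν ≠ γ) (hσ : σ.1 = !i)
    {e : G} (he : e ∈ X.Zv ν) (he' : e ∉ X.Zv σ) {v : G} (hv : v ∈ Vb X σ) :
    v ∈ X.Zv γ ∨ v * e ∈ X.Zv γ := by
  have hσγ := h.main.Zv_mono (adj_symm hγ) (typeA hγ hσ)
  have hc := fun {p q : G} => h.main.Vb_comm h.near le_rfl hσ (v := p) (w := q)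
  have heV := mem_Vb hν he
  induction hv using Subgroup.closure_induction with
  | mem z hz =>
    obtain ⟨η, hη, hz⟩ := hz
    obtain ⟨ν₂, hν₂, h21, h22, hall⟩ := third h.main.three hγ hν hne
    by_cases hzσ : z ∈ X.Zv σ
    · exact Or.inl (hσγ hzσ)
    rcases hall η hη with rfl | rfl | rfl
    · exact Or.inl hz
    · refine Or.inr (hσγ ?_)
      have := h.main.A_mul h.two (adj_symm hη) (typeA hη hσ) hz he hzσ he'
      rwa [h.main.Zv_inv hz] at this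
    · exact Or.inr (h.natural σ γ hσ hγ _ ⟨η, ν, hη, hν, h21, hne, h22.symm, z, hz, e, he, hzσ, he', rfl⟩)
  | one => exact Or.inl (one_mem _)
  | mul p q hp' hq' hp hq =>
    rcases hp with hp | hp <;> rcases hq with hq | hq
    · exact Or.inl (mul_mem hp hq)
    · exact Or.inr (by rw [mul_assoc]; exact mul_mem hp hq)
    · exact Or.inr (by rw [mul_assoc, hc hq' heV, ← mul_assoc]; exact mul_mem hp hq)
    · refine Or.inl ?_
      have := mul_mem hp hq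
      rwa [hc hq' heV, ← mul_assoc, mul_assoc p, h.main.Zv_sq he, mul_one] at this
  | inv p hp' hp => rwa [h.main.Vb_inv h.near le_rfl hσ hp']

/-- The commutator of two modules at distance four. -/
theorem Three3.comm_out {α σ₁ γ σ₂ ν : X.Vtx} (h1 : X.Adj α σ₁) (h2 : X.Adj σ₁ γ) (h3 : X.Adj γ σ₂)
    (h4 : X.Adj σ₂ ν) (n1 : α ≠ γ) (n2 : σ₂ ≠ σ₁) (n3 : ν ≠ γ) (hγ : γ.1 = i) {x y : G} (hx : x ∈ X.Zv α)
    (hy : y ∈ X.Zv ν) (hx' : x ∉ X.Zv σ₁) (hy' : y ∉ X.Zv σ₂) :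
    y * x * y⁻¹ * x⁻¹ ∈ X.Zv γ ∧ y * x * y⁻¹ * x⁻¹ ∉ X.Zv σ₁ := by
  have hM := h.main
  have hσ1 : σ₁.1 = !i := typeB (adj_symm h2) hγ
  have hσ2 : σ₂.1 = !i := typeB h3 hγ
  have hν : ν.1 = i := typeA h4 hσ2
  have hyT : y ∈ X.Tv σ₁ γ :=
    ⟨hM.fix h.near (n := 3) le_rfl hν (Reach.step (adj_symm h4) (Reach.two (adj_symm h3) (adj_symm h2))) hy,
     hM.fix h.near (n := 2) (by omega) hν (Reach.two (adj_symm h4) (adj_symm h3)) hy⟩
  have hyQ : y ∉ X.Qv σ₁ := fun hh =>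
    hy' (h.meet ν σ₂ γ σ₁ (adj_symm h4) (adj_symm h3) (adj_symm h2) n3 n2.symm hν y hy hh)
  have hα : α.1 = i := typeA (adj_symm h1) hσ1
  rcases hM.comm_Pair h.near le_rfl h.two h2 hσ1 hyT (mem_Vb (adj_symm h1) hx) with hc | hc
  · refine absurd ?_ hx'
    have h' : y * x * y⁻¹ ∈ X.Zv α := by
      have := mul_mem (hM.Zv_mono h1 hα hc) hx
      rwa [inv_mul_cancel_right] at this
    have h'' : y * x * y⁻¹ ∈ X.Zv σ₁ := hM.inter_A (adj_symm h1) (adj_act_fix (adj_symm h1) hyT.1)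
      (move h2 (adj_symm h1) n1 hyT hyQ) hσ1 h' (by rw [Zv_act]; exact cnj_conj_mem.2 hx)
    have := hM.St_B_conj hσ1 (inv_mem hyT.1) h''
    rw [inv_inv, show y⁻¹ * (y * x * y⁻¹) * y = x by group] at this
    rwa [this]
  · exact ⟨h.natural σ₁ γ hσ1 h2 _ hc, hM.Pair_not_mem hσ1 hc⟩

theorem Three3.comm_out' {α σ₁ γ σ₂ ν : X.Vtx} (h1 : X.Adj α σ₁) (h2 : X.Adj σ₁ γ) (h3 : X.Adj γ σ₂)
    (h4 : X.Adj σ₂ ν) (n1 : α ≠ γ) (n2 : σ₂ ≠ σ₁) (n3 : ν ≠ γ) (hγ : γ.1 = i) {x y : G} (hx : x ∈ X.Zv α)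
    (hy : y ∈ X.Zv ν) (hx' : x ∉ X.Zv σ₁) (hy' : y ∉ X.Zv σ₂) :
    y * x * y⁻¹ * x⁻¹ ∉ X.Zv σ₂ := fun hc => by
  refine (h.comm_out (adj_symm h4) (adj_symm h3) (adj_symm h2) (adj_symm h1) n3 n2.symm n1 hγ hy hx hy' hx').2 ?_
  rw [show x * y * x⁻¹ * y⁻¹ = (y * x * y⁻¹ * x⁻¹)⁻¹ by group]
  exact inv_mem hc

theorem Three3.Vb_core {γ σ₁ σ₂ : X.Vtx} (h1 : X.Adj γ σ₁) (h2 : X.Adj γ σ₂) (hne : σ₂ ≠ σ₁) (hγ : γ.1 = i)
    {v : G} (hv : v ∈ Vb X σ₁) (hv2 : v ∈ X.Qv σ₂) : v ∈ X.Zv γ := by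
  obtain ⟨α, hα, hαne⟩ := exists_other h.main.three (adj_symm h1)
  have hσ1 := typeB h1 hγ
  have hαA := typeA hα hσ1
  obtain ⟨τ, hτ, hτne⟩ := exists_other h.main.three (adj_symm hα)
  obtain ⟨e, he, he1⟩ := h.main.exists_ne (typeB hτ hαA)
  have heA := h.main.Zv_mono hτ hαA he
  have he' : e ∉ X.Zv σ₁ := fun hh => he1 (h.main.inter (adj_symm hα) hτ hτne hαA hh he)
  rcases h.Vb_cases (adj_symm h1) hα hαne hσ1 heA he' hv with hh | hh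
  · exact hh
  · refine absurd (h.meet α σ₁ γ σ₂ (adj_symm hα) (adj_symm h1) h2 hαne hne hαA e heA ?_) he'
    have := mul_mem (inv_mem hv2) (h.near γ σ₂ 1 (by omega) hγ (Reach.one h2) hh)
    rwa [inv_mul_cancel_left] at this

theorem Three3.Zv_le_core {γ σ : X.Vtx} (h1 : X.Adj γ σ) (hγ : γ.1 = i) : X.Zv γ ≤ core X σ := fun _ hz =>
  h.Vb_le_core (typeB h1 hγ) (mem_Vb (adj_symm h1) hz)

omit h in
/-- The elements of the core centralizing every module at distance three. -/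
def Ker (X : Data G) (σ : X.Vtx) : Subgroup G where
  carrier := {x | x ∈ core X σ ∧ ∀ η τ ξ, X.Adj σ η → X.Adj η τ → X.Adj τ ξ → ∀ z ∈ X.Zv ξ, x * z = z * x}
  one_mem' := ⟨one_mem _, fun _ _ _ _ _ _ z _ => by rw [one_mul, mul_one]⟩
  mul_mem' := fun {p q} hp hq => ⟨mul_mem hp.1 hq.1, fun η τ ξ a b c z hz =>
    Commute.mul_left (hp.2 η τ ξ a b c z hz) (hq.2 η τ ξ a b c z hz)⟩
  inv_mem' := fun {p} hp => ⟨inv_mem hp.1, fun η τ ξ a b c z hz => Commute.inv_left (hp.2 η τ ξ a b c z hz)⟩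

omit h in
theorem Ker_conj {σ : X.Vtx} (g : G) {x : G} (hx : x ∈ Ker X σ) : g * x * g⁻¹ ∈ Ker X (X.act g σ) := by
  have hadj : ∀ {p q}, X.Adj p q → X.Adj (X.act g⁻¹ p) (X.act g⁻¹ q) := fun h => adj_act h g⁻¹
  refine ⟨⟨?_, fun w hw => ?_⟩, fun η τ ξ a b c z hz => ?_⟩
  · rw [Qv_act]; exact cnj_conj_mem.2 hx.1.1
  · have h1 := hx.1.2 (X.act g⁻¹ w) (by have := hadj hw; rwa [act_act, inv_mul_cancel, act_one] at this)
    rw [Qv_act, mem_cnj, inv_inv] at h1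
    exact h1
  · have h1 := hx.2 (X.act g⁻¹ η) (X.act g⁻¹ τ) (X.act g⁻¹ ξ)
      (by have := hadj a; rwa [act_act, inv_mul_cancel, act_one] at this) (hadj b) (hadj c) (g⁻¹ * z * g)
      (by rw [Zv_act, mem_cnj, inv_inv]; convert hz using 1; group)
    calc g * x * g⁻¹ * z = g * (x * (g⁻¹ * z * g)) * g⁻¹ := by group
      _ = g * ((g⁻¹ * z * g) * x) * g⁻¹ := by rw [h1]
      _ = _ := by group

omit h in
/-- The elements acting trivially on the core modulo the module and centralizing the kernel. -/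
def Triv (X : Data G) (σ : X.Vtx) : Subgroup G where
  carrier := {g | g ∈ X.St σ ∧ (∀ x ∈ core X σ, g * x * g⁻¹ * x⁻¹ ∈ Vb X σ) ∧ ∀ x ∈ Ker X σ, g * x = x * g}
  one_mem' := ⟨one_mem _, fun x _ => by simp, fun x _ => by rw [one_mul, mul_one]⟩
  mul_mem' := fun {p q} hp hq => ⟨mul_mem hp.1 hq.1, fun x hx => by
    rw [show p * q * x * (p * q)⁻¹ * x⁻¹ = (p * (q * x * q⁻¹) * p⁻¹ * (q * x * q⁻¹)⁻¹) * (q * x * q⁻¹ * x⁻¹)
      by group]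
    exact mul_mem (hp.2.1 _ (core_normal hq.1 hx)) (hq.2.1 x hx), fun x hx =>
      Commute.mul_left (hp.2.2 x hx) (hq.2.2 x hx)⟩
  inv_mem' := fun {p} hp => ⟨inv_mem hp.1, fun x hx => by
    have h1 := hp.2.1 _ (core_normal (inv_mem hp.1) hx)
    rw [show p * (p⁻¹ * x * p⁻¹⁻¹) * p⁻¹ * (p⁻¹ * x * p⁻¹⁻¹)⁻¹ = (p⁻¹ * x * p⁻¹⁻¹ * x⁻¹)⁻¹ by group] at h1
    simpa using inv_mem h1, fun x hx => Commute.inv_left (hp.2.2 x hx)⟩

omit h in
theorem Triv_normal {σ : X.Vtx} {p g : G} (hp : p ∈ X.St σ) (hg : g ∈ Triv X σ) : p * g * p⁻¹ ∈ Triv X σ := by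
  refine ⟨mul_mem (mul_mem hp hg.1) (inv_mem hp), fun x hx => ?_, fun x hx => ?_⟩
  · have h1 := Vb_normal hp (hg.2.1 _ (core_normal (inv_mem hp) hx))
    rw [show p * g * p⁻¹ * x * (p * g * p⁻¹)⁻¹ * x⁻¹ =
      p * (g * (p⁻¹ * x * p⁻¹⁻¹) * g⁻¹ * (p⁻¹ * x * p⁻¹⁻¹)⁻¹) * p⁻¹ by group]
    exact h1
  · have h0 := Ker_conj p⁻¹ hx
    rw [mem_St_iff.1 (inv_mem hp), inv_inv] at h0
    calc p * g * p⁻¹ * x = p * (g * (p⁻¹ * x * p)) * p⁻¹ := by group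
      _ = p * ((p⁻¹ * x * p) * g) * p⁻¹ := by rw [hg.2.2 _ h0]
      _ = _ := by group

theorem Three3.mem_Triv {γ σ σ₁ α : X.Vtx} (h1 : X.Adj γ σ) (h2 : X.Adj γ σ₁) (hne : σ₁ ≠ σ) (h3 : X.Adj σ₁ α)
    (hγ : γ.1 = i) {a : G} (ha : a ∈ X.Zv α) :
    (∀ x ∈ core X σ, a * x * a⁻¹ * x⁻¹ ∈ X.Zv γ) ∧ a ∈ Triv X σ := by
  have hσ1 := typeB h2 hγ
  have hαA := typeA h3 hσ1
  have haσ : a ∈ X.St σ :=
    h.main.fix h.near (n := 3) le_rfl hαA (Reach.step (adj_symm h3) (Reach.two (adj_symm h2) h1)) ha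
  have key : ∀ x ∈ core X σ, a * x * a⁻¹ * x⁻¹ ∈ X.Zv γ := by
    intro x hx
    refine h.Vb_core h2 h1 hne.symm hγ ?_ ?_
    · rw [show a * x * a⁻¹ * x⁻¹ = a * (x * a⁻¹ * x⁻¹) by group]
      exact mul_mem (mem_Vb h3 ha)
        (Vb_normal (Qv_le_St_nbr h2 (hx.2 γ (adj_symm h1))) (inv_mem (mem_Vb h3 ha)))
    · exact mul_mem (Qv_normal haσ hx.1) (inv_mem hx.1)
  exact ⟨key, haσ, fun x hx => mem_Vb (adj_symm h1) (key x hx),
    fun x hx => (hx.2 γ σ₁ α (adj_symm h1) h2 h3 a ha).symm⟩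

/-- An element of the core outside the core of the neighbour acting trivially. -/
theorem Three3.exists_kick {γ σ σ₁ : X.Vtx} (h1 : X.Adj γ σ) (h2 : X.Adj γ σ₁) (hne : σ₁ ≠ σ) (hγ : γ.1 = i) :
    ∃ k ∈ Triv X σ, k ∈ X.Qv σ ∧ k ∉ X.Qv γ := by
  by_contra hcon
  push Not at hcon
  have hM := h.main
  have hσ1 := typeB h2 hγ
  have hσ := typeB h1 hγ
  obtain ⟨α, hα, hαne⟩ := exists_other hM.three (adj_symm h2)
  have hαA := typeA hα hσ1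
  obtain ⟨τ, hτ, hτne⟩ := exists_other hM.three (adj_symm hα)
  obtain ⟨a, ha, ha1⟩ := hM.exists_ne (typeB hτ hαA)
  have haA := hM.Zv_mono hτ hαA ha
  have ha' : a ∉ X.Zv σ₁ := fun hh => ha1 (hM.inter (adj_symm hα) hτ hτne hαA hh ha)
  have haQ : a ∉ X.Qv σ := fun hh =>
    ha' (h.meet α σ₁ γ σ (adj_symm hα) (adj_symm h2) h1 hαne hne.symm hαA a haA hh)
  have haN := (h.mem_Triv h1 h2 hne hα hγ haA).2
  have haT : a ∈ X.Tv σ γ :=
    ⟨haN.1, hM.fix h.near (n := 2) (by omega) hαA (Reach.two (adj_symm hα) (adj_symm h2)) haA⟩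
  obtain ⟨γ', hγ', hγ'ne⟩ := exists_other hM.three (adj_symm h1)
  obtain ⟨g, hg, hgγ⟩ := exists_act_nbr (adj_symm h1) hγ'
  have htT : g * a * g⁻¹ ∈ X.Tv σ γ' := by
    have := cnj_conj_mem (g := g).2 haT
    rwa [← Tv_act, mem_St_iff.1 hg, hgγ] at this
  have htQ : g * a * g⁻¹ ∉ X.Qv σ := fun hh => haQ (by
    have := Qv_normal (inv_mem hg) hh
    rwa [inv_inv, show g⁻¹ * (g * a * g⁻¹) * g = a by group] at this)
  obtain ⟨M, hd3, hdmv⟩ := rot_of_mul hM.three (adj_symm h1) hγ' hγ'ne haT haQ htT htQ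
  set d := (a * (g * a * g⁻¹)) ^ M
  have hdN : d ∈ Triv X σ := pow_mem (mul_mem haN (Triv_normal hg haN)) M
  refine hM.no_rot h.near le_rfl (adj_symm h1) hσ hdN.1 hd3 hdmv fun t ht => ?_
  obtain ⟨e, he, hx⟩ := hM.no_rot_aux (adj_symm h1) hdN.1 hd3 hdmv ht.1
  refine ⟨e, he, hx, fun w hw => ?_⟩
  have heN : e ∈ Triv X σ := by rcases he with rfl | rfl; exacts [hdN, inv_mem hdN]
  obtain ⟨p, hp, rfl⟩ := exists_act_nbr (adj_symm h1) hw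
  rw [Qv_act, mem_cnj]
  refine hcon _ ?_ ?_
  · have := Triv_normal (inv_mem hp) (mul_mem (inv_mem heN) (Triv_normal ht.1 hdN))
    rwa [inv_inv] at this
  · have := Qv_normal (inv_mem hp) hx
    rwa [inv_inv] at this

/-- The kernel lies in the core of each vertex at distance two. -/
theorem Three3.Ker_le {γ σ σ₁ : X.Vtx} (h1 : X.Adj γ σ) (h2 : X.Adj γ σ₁) (hγ : γ.1 = i) :
    Ker X σ ≤ core X σ₁ := by
  intro x hx
  have hσ1 := typeB h2 hγ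
  have hM := h.main
  have hxT : x ∈ X.St σ₁ := Qv_le_St_nbr h2 (hx.1.2 γ (adj_symm h1))
  have hxγ : X.act x γ = γ := mem_St_iff.1 (Qv_le_St γ (hx.1.2 γ (adj_symm h1)))
  have hcomm : ∀ α, X.Adj σ₁ α → ∀ z ∈ X.Zv α, x * z = z * x := fun α hα z hz =>
    hx.2 γ σ₁ α (adj_symm h1) h2 hα z hz
  have hfix : ∀ α, X.Adj σ₁ α → X.act x α = α := by
    intro α hα
    by_contra hmv
    have hαA := typeA hα hσ1
    obtain ⟨τ, hτ, hτne⟩ := exists_other hM.three (adj_symm hα)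
    obtain ⟨a, ha, ha1⟩ := hM.exists_ne (typeB hτ hαA)
    have haA := hM.Zv_mono hτ hαA ha
    refine ha1 (hM.inter (adj_symm hα) hτ hτne hαA ?_ ha)
    refine hM.inter_A hα (adj_act_fix hα hxT) hmv hσ1 haA ?_
    have h' : x * a * x⁻¹ ∈ X.Zv (X.act x α) := by rw [Zv_act]; exact cnj_conj_mem.2 haA
    rwa [hcomm α hα a haA, mul_inv_cancel_right] at h'
  obtain ⟨α, hα, hαne⟩ := exists_other hM.three (adj_symm h2)
  have hxQ : x ∈ X.Qv σ₁ := mem_Qv_of_fix (adj_symm h2) hα hαne hxT hxγ (hfix α hα)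
  exact ⟨hxQ, fun w hw => hM.cent' hw hσ1 hxQ (hcomm w hw)⟩

/-- The intersection of two cores at distance two lies in the third. -/
theorem Three3.core_third {γ σ β β₁ : X.Vtx} (h1 : X.Adj γ σ) (h2 : X.Adj γ β) (h3 : X.Adj γ β₁) (n1 : β ≠ σ)
    (n2 : β₁ ≠ σ) (n3 : β₁ ≠ β) (hγ : γ.1 = i) {p : G} (hp : p ∈ core X σ) (hp' : p ∈ core X β) :
    p ∈ core X β₁ := by
  have hM := h.main
  have hσ := typeB h1 hγ
  have hβ := typeB h2 hγ
  have hβ₁ := typeB h3 hγ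
  have hcore : ∀ {g : G} {v w : X.Vtx}, X.act g v = w → ∀ {x}, x ∈ core X v → g * x * g⁻¹ ∈ core X w := by
    rintro g v w rfl x hx
    refine ⟨by rw [Qv_act]; exact cnj_conj_mem.2 hx.1, fun u hu => ?_⟩
    have := hx.2 (X.act g⁻¹ u) (by have := adj_act hu g⁻¹; rwa [act_act, inv_mul_cancel, act_one] at this)
    rw [Qv_act, mem_cnj, inv_inv] at this
    exact this
  obtain ⟨k, hk, hkσ, hkγ⟩ := h.exists_kick h1 h2 n1 hγ
  obtain ⟨k', hk', hk'β, hk'γ⟩ := h.exists_kick h2 h1 n1.symm hγ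
  have hkT : k ∈ X.Tv γ σ := ⟨Qv_le_St_nbr (adj_symm h1) hkσ, hk.1⟩
  have hk'T : k' ∈ X.Tv γ β := ⟨Qv_le_St_nbr (adj_symm h2) hk'β, hk'.1⟩
  have ekβ : X.act k β = β₁ := swap hM.three h1 h2 h3 n1 n2 n3 hkT hkγ
  have ek'σ : X.act k' σ = β₁ := swap hM.three h2 h1 h3 n1.symm n3 n2 hk'T hk'γ
  have ek'β₁ : X.act k' β₁ = σ := swap hM.three h2 h3 h1 n3 n1.symm n2.symm hk'T hk'γ
  set p₁ := k * p * k⁻¹ with hp₁def
  have hp₁σ : p₁ ∈ core X σ := core_normal hk.1 hp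
  have hp₁β₁ : p₁ ∈ core X β₁ := hcore ekβ hp'
  set v₀ := p₁ * p⁻¹ with hv₀def
  have hv₀ : v₀ ∈ Vb X σ := hk.2.1 p hp
  by_cases hv₀γ : v₀ ∈ X.Zv γ
  · have := mul_mem (inv_mem (h.Zv_le_core h3 hγ hv₀γ)) hp₁β₁
    rwa [hv₀def, show (p₁ * p⁻¹)⁻¹ * p₁ = p by group] at this
  exfalso
  set w := k' * p * k'⁻¹ * p⁻¹ with hwdef
  have hw : w ∈ Vb X β := hk'.2.1 p hp'
  set v₁ := k' * v₀ * k'⁻¹ with hv₁def
  have hv₁ : v₁ ∈ Vb X β₁ := ek'σ ▸ Vb_act k' hv₀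
  have hq : v₁ * w ∈ core X σ := by
    have h2' : k' * p₁ * k'⁻¹ ∈ core X σ := hcore ek'β₁ hp₁β₁
    rw [show v₁ * w = (k' * p₁ * k'⁻¹) * p⁻¹ by rw [hv₁def, hwdef, hv₀def]; group]
    exact mul_mem h2' (inv_mem hp)
  have hv₁γ : v₁ ∉ X.Zv γ := fun hh => hv₀γ (by
    have := Zv_normal (inv_mem hk'T.1) hh
    rwa [inv_inv, hv₁def, show k'⁻¹ * (k' * v₀ * k'⁻¹) * k' = v₀ by group] at this)
  by_cases hwγ : w ∈ X.Zv γ
  · refine hv₁γ (h.Vb_core h3 h1 n2.symm hγ hv₁ ?_)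
    have := mul_mem hq.1 (inv_mem (h.Zv_le_core h1 hγ hwγ).1)
    rwa [mul_inv_cancel_right] at this
  -- neighbours in general position
  have hsel : ∀ τ, X.Adj γ τ → ∃ η e, X.Adj τ η ∧ η ≠ γ ∧ e ∈ X.Zv η ∧ e ∉ X.Zv τ := by
    intro τ hτ
    obtain ⟨η, hη, hηne⟩ := exists_other hM.three (adj_symm hτ)
    have hηA := typeA hη (typeB hτ hγ)
    obtain ⟨ρ, hρ, hρne⟩ := exists_other hM.three (adj_symm hη)
    obtain ⟨e, he, he1⟩ := hM.exists_ne (typeB hρ hηA)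
    exact ⟨η, e, hη, hηne, hM.Zv_mono hρ hηA he, fun hh => he1 (hM.inter (adj_symm hη) hρ hρne hηA hh he)⟩
  obtain ⟨ν, e, hν, hνne, he, heσ⟩ := hsel σ h1
  obtain ⟨α, a, hα, hαne, ha, haβ⟩ := hsel β h2
  obtain ⟨α₁, a₁, hα₁, hα₁ne, ha₁, ha₁β⟩ := hsel β₁ h3
  have hwa := (h.Vb_cases (adj_symm h2) hα hαne hβ ha haβ hw).resolve_left hwγ
  have hva := (h.Vb_cases (adj_symm h3) hα₁ hα₁ne hβ₁ ha₁ ha₁β hv₁).resolve_left hv₁γ
  have hνA := typeA hν hσ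
  have heγ : ∀ z ∈ X.Zv γ, e * z = z * e := fun z hz =>
    hM.comm_near h.near (n := 2) (by omega) hνA (Reach.two (adj_symm hν) (adj_symm h1)) he hz
  obtain ⟨c2γ, c2σ⟩ := h.comm_out (adj_symm hν) (adj_symm h1) h2 hα hνne n1 hαne hγ he ha heσ haβ
  have c2β := h.comm_out' (adj_symm hν) (adj_symm h1) h2 hα hνne n1 hαne hγ he ha heσ haβ
  obtain ⟨c1γ, c1σ⟩ := h.comm_out (adj_symm hν) (adj_symm h1) h3 hα₁ hνne n2 hα₁ne hγ he ha₁ heσ ha₁β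
  have c1β := h.comm_out' (adj_symm hν) (adj_symm h1) h3 hα₁ hνne n2 hα₁ne hγ he ha₁ heσ ha₁β
  set c₂ := a * e * a⁻¹ * e⁻¹ with hc₂
  set c₁ := a₁ * e * a₁⁻¹ * e⁻¹ with hc₁
  refine c1β ?_
  have h2β₁ := h.third_mem h1 h2 h3 n1 n2 n3 hγ c2γ c2σ c2β
  suffices c₁ = c₂ by rw [this]; exact h2β₁
  have hqe : (v₁ * w) * e = e * (v₁ * w) := (mul_inv_eq_iff_eq_mul.1 (hM.core_cent hq (mem_Vb hν he)))
  have hw' : w * e * w⁻¹ = c₂ * e := by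
    obtain ⟨z, hz, hweq⟩ : ∃ z ∈ X.Zv γ, w = z * a := ⟨w * a, hwa, by rw [mul_assoc, hM.Zv_sq ha, mul_one]⟩
    have hzc : z * c₂ = c₂ * z := hM.Zv_comm hz c2γ
    calc w * e * w⁻¹ = z * c₂ * (e * z⁻¹) := by rw [hweq, hc₂]; group
      _ = c₂ * z * (z⁻¹ * e) := by rw [hzc, heγ _ (inv_mem hz)]
      _ = _ := by group
  have hv' : v₁ * e * v₁⁻¹ = c₁ * e := by
    obtain ⟨z, hz, hv₁eq⟩ : ∃ z ∈ X.Zv γ, v₁ = z * a₁ :=
      ⟨v₁ * a₁, hva, by rw [mul_assoc, hM.Zv_sq ha₁, mul_one]⟩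
    have hzc : z * c₁ = c₁ * z := hM.Zv_comm hz c1γ
    calc v₁ * e * v₁⁻¹ = z * c₁ * (e * z⁻¹) := by rw [hv₁eq, hc₁]; group
      _ = c₁ * z * (z⁻¹ * e) := by rw [hzc, heγ _ (inv_mem hz)]
      _ = _ := by group
  have hvc : v₁ * c₂ = c₂ * v₁ := hM.Vb_comm h.near le_rfl hβ₁ hv₁ (mem_Vb (adj_symm h3) c2γ)
  have hall : c₂ * (c₁ * e) = e := by
    calc c₂ * (c₁ * e) = c₂ * (v₁ * e * v₁⁻¹) := by rw [hv']
      _ = (c₂ * v₁) * e * v₁⁻¹ := by group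
      _ = v₁ * (c₂ * e) * v₁⁻¹ := by rw [← hvc]; group
      _ = v₁ * w * e * (v₁ * w)⁻¹ := by rw [← hw']; group
      _ = e := by rw [hqe, mul_inv_cancel_right]
  rw [← mul_assoc, mul_eq_right] at hall
  rw [← hM.Zv_inv c2γ]
  exact eq_inv_of_mul_eq_one_right hall

/-- The two kernels at distance two meet trivially. -/
theorem Three3.Ker_inf {γ σ β : X.Vtx} (h1 : X.Adj γ σ) (h2 : X.Adj γ β) (hne : β ≠ σ) (hγ : γ.1 = i) :
    Ker X σ ⊓ Ker X β = ⊥ := by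
  have hM := h.main
  have hσ := typeB h1 hγ
  set I := Ker X σ ⊓ Ker X β with hI
  have hIQ : I ≤ X.Qv γ := fun x hx => hx.1.1.2 γ (adj_symm h1)
  haveI : Finite I := finite_le_St (hIQ.trans (Qv_le_St γ))
  by_contra hbot
  obtain ⟨k, hk, hkσ, hkγ⟩ := h.exists_kick h1 h2 hne hγ
  obtain ⟨k', hk', hk'β, hk'γ⟩ := h.exists_kick h2 h1 hne.symm hγ
  have hkT : k ∈ X.Tv γ σ := ⟨Qv_le_St_nbr (adj_symm h1) hkσ, hk.1⟩
  have hk'T : k' ∈ X.Tv γ β := ⟨Qv_le_St_nbr (adj_symm h2) hk'β, hk'.1⟩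
  have hQn : X.Qv γ ≤ Subgroup.normalizer (I : Set G) := fun q hq => mem_normalizer_of_finite fun x hx => by
    refine ⟨?_, ?_⟩
    · have := Ker_conj q hx.1; rwa [Qv_fix h1 hq] at this
    · have := Ker_conj q hx.2; rwa [Qv_fix h2 hq] at this
  have t1 : X.Tv γ σ ≤ Subgroup.normalizer (I : Set G) := Tv_le_of_mem h1 hQn hkT hkγ
    (mem_normalizer_of_finite fun x hx => by rw [hk.2.2 x hx.1, mul_inv_cancel_right]; exact hx)
  have t2 : X.Tv γ β ≤ Subgroup.normalizer (I : Set G) := Tv_le_of_mem h2 hQn hk'T hk'γ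
    (mem_normalizer_of_finite fun x hx => by rw [hk'.2.2 x hx.2, mul_inv_cancel_right]; exact hx)
  haveI := Tv_finite γ σ
  obtain ⟨w, hw, hw1, hw2, hwc⟩ := exists_central (Tv_pgroup h1) (hIQ.trans (Qv_le_Tv h1)) hbot
    fun s hs x hx => (Subgroup.mem_normalizer_iff.1 (t1 hs) x).1 hx
  have hwσ := hM.central_mem h1 hγ (Qv_le_Tv h1 (hIQ hw)) hw2 hwc
  have hwβ₁ : w ∈ X.Zv (X.act k' σ) := by
    rw [Zv_act, mem_cnj, mul_assoc, ← hk'.2.2 w hw.2]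
    simpa using hwσ
  exact hw1 (hM.inter h1 (adj_act_fix h1 hk'T.1) (move h2 h1 hne.symm hk'T hk'γ) hγ hwσ hwβ₁)

/-- The intersection of two cores at distance two. -/
theorem Three3.core_inf {γ σ β : X.Vtx} (h1 : X.Adj γ σ) (h2 : X.Adj γ β) (hne : β ≠ σ) (hγ : γ.1 = i)
    {f : G} (hf : f ∈ core X σ) (hf' : f ∈ core X β) : ∃ z ∈ X.Zv β, ∃ c ∈ Ker X σ, f = z * c := by
  have hM := h.main
  have hσ := typeB h1 hγ
  have hβ := typeB h2 hγ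
  obtain ⟨α, hα, hαne⟩ := exists_other hM.three (adj_symm h2)
  have hαA := typeA hα hβ
  obtain ⟨τ, hτ, hτne⟩ := exists_other hM.three (adj_symm hα)
  obtain ⟨a, ha0, ha1⟩ := hM.exists_ne (typeB hτ hαA)
  have ha := hM.Zv_mono hτ hαA ha0
  have haβ : a ∉ X.Zv β := fun hh => ha1 (hM.inter (adj_symm hα) hτ hτne hαA hh ha0)
  obtain ⟨hkey, haN⟩ := h.mem_Triv h1 h2 hne hα hγ ha
  have haQ : a ∉ X.Qv σ := fun hh =>
    haβ (h.meet α β γ σ (adj_symm hα) (adj_symm h2) h1 hαne hne.symm hαA a ha hh)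
  have haT : a ∈ X.Tv σ γ :=
    ⟨haN.1, hM.fix h.near (n := 2) (by omega) hαA (Reach.two (adj_symm hα) (adj_symm h2)) ha⟩
  obtain ⟨γ', hγ', hγ'ne⟩ := exists_other hM.three (adj_symm h1)
  obtain ⟨g, hg, hgγ⟩ := exists_act_nbr (adj_symm h1) hγ'
  have htT : g * a * g⁻¹ ∈ X.Tv σ γ' := by
    have := cnj_conj_mem (g := g).2 haT
    rwa [← Tv_act, mem_St_iff.1 hg, hgγ] at this
  have htQ : g * a * g⁻¹ ∉ X.Qv σ := fun hh => haQ (by
    have := Qv_normal (inv_mem hg) hh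
    rwa [inv_inv, show g⁻¹ * (g * a * g⁻¹) * g = a by group] at this)
  obtain ⟨M, hd3, hdmv⟩ := rot_of_mul hM.three (adj_symm h1) hγ' hγ'ne haT haQ htT htQ
  have hinv := conj_mul_inv (hM.Zv_sq ha)
    (by rw [conj_mul, hM.Zv_sq ha]; group : g * a * g⁻¹ * (g * a * g⁻¹) = 1)
  set d := (a * (g * a * g⁻¹)) ^ M
  have hdN : d ∈ Triv X σ := pow_mem (mul_mem haN (Triv_normal hg haN)) M
  have hda : a * d * a⁻¹ = d⁻¹ := inv_of_conj hinv.1 M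
  obtain ⟨v, hv, hfix⟩ := exists_fix (fun v hv => hM.Vb_sq h.near le_rfl hσ hv) hd3
    (fun v hv => Vb_normal hdN.1 hv) (hdN.2.1 f hf)
  set c := v * f with hc
  have hcσ : c ∈ core X σ := mul_mem (h.Vb_le_core hσ hv) hf
  -- `v` lies in the module of `γ`
  have hvγ : v ∈ X.Zv γ := by
    set u := a * c * a⁻¹ * c⁻¹ with hu
    have huγ : u ∈ X.Zv γ := hkey c hcσ
    have hdu : d * u * d⁻¹ = u := by
      have hda' : a⁻¹ * d * a = d⁻¹ := by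
        have hai : a⁻¹ = a := hM.Zv_inv ha
        calc a⁻¹ * d * a = a * d * a⁻¹ := by rw [hai]
          _ = _ := hda
      have hfix' : d⁻¹ * c * d⁻¹⁻¹ = c := by
        calc d⁻¹ * c * d⁻¹⁻¹ = d⁻¹ * (d * c * d⁻¹) * d⁻¹⁻¹ := by rw [hfix]
          _ = c := by group
      calc d * u * d⁻¹ = a * ((a⁻¹ * d * a) * c * (a⁻¹ * d * a)⁻¹) * a⁻¹ * (d * c * d⁻¹)⁻¹ := by
            rw [hu]; group
        _ = _ := by rw [hda', hfix', hfix, hu]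
    have huσ : u ∈ X.Zv σ := hM.inter_A (adj_symm h1) (adj_act_fix (adj_symm h1) hdN.1) hdmv hσ huγ
      (by rw [Zv_act, ← hdu]; exact cnj_conj_mem.2 huγ)
    obtain ⟨ν, hν, hνne⟩ := exists_other hM.three (adj_symm h1)
    obtain ⟨ρ, hρ, hρne⟩ := exists_other hM.three (adj_symm hν)
    obtain ⟨e, he0, he1⟩ := hM.exists_ne (typeB hρ (typeA hν hσ))
    have he := hM.Zv_mono hρ (typeA hν hσ) he0
    have heσ : e ∉ X.Zv σ := fun hh => he1 (hM.inter (adj_symm hν) hρ hρne (typeA hν hσ) hh he0)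
    refine (h.Vb_cases (adj_symm h1) hν hνne hσ he heσ hv).elim id fun hve => False.elim ?_
    refine (h.comm_out (adj_symm hν) (adj_symm h1) h2 hα hνne hne hαne hγ he ha heσ haβ).2 ?_
    have haf : a * f * a⁻¹ = f := by
      have h' := hM.core_cent hf' (mem_Vb hα ha)
      calc a * f * a⁻¹ = f * a * f⁻¹ * f * a⁻¹ := by rw [h']
        _ = f := by group
    obtain ⟨z, hz, hveq⟩ : ∃ z ∈ X.Zv γ, v = z * e := ⟨v * e, hve, by rw [mul_assoc, hM.Zv_sq he, mul_one]⟩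
    have haz : a * z * a⁻¹ = z := by
      rw [hM.comm_near h.near (n := 2) (by omega) hαA (Reach.two (adj_symm hα) (adj_symm h2)) ha hz,
        mul_inv_cancel_right]
    have huv : u = z * (a * e * a⁻¹ * e⁻¹) * z⁻¹ := by
      calc u = (a * z * a⁻¹) * (a * e * a⁻¹) * (a * f * a⁻¹) * f⁻¹ * e⁻¹ * z⁻¹ := by
            rw [hu, hc, hveq]; group
        _ = _ := by rw [haz, haf]; group
    have hzS : z ∈ X.St σ := Qv_le_St σ (h.Zv_le_core h1 hγ hz).1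
    have h'' := hM.St_B_conj hσ (inv_mem hzS) huσ
    rw [inv_inv, huv] at h''
    rw [show z⁻¹ * (z * (a * e * a⁻¹ * e⁻¹) * z⁻¹) * z = a * e * a⁻¹ * e⁻¹ by group] at h''
    rw [h'', ← huv]
    exact huσ
  have hcβ : c ∈ core X β := mul_mem (h.Zv_le_core h2 hγ hvγ) hf'
  obtain ⟨β₁, hβ₁, n2, n3, hall⟩ := third hM.three h1 h2 hne
  have hcβ₁ := h.core_third h1 h2 hβ₁ hne n2 n3 hγ hcσ hcβ
  have hcK : c ∈ Ker X σ := by
    refine ⟨hcσ, fun η τ ξ hη hτ hξ z hz => ?_⟩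
    have hbase : ∀ τ, X.Adj γ τ → ∀ z ∈ Vb X τ, c * z = z * c := by
      intro τ hτ z hz
      rcases hall τ hτ with rfl | rfl | rfl
      exacts [mul_inv_eq_iff_eq_mul.1 (hM.core_cent hcσ hz), mul_inv_eq_iff_eq_mul.1 (hM.core_cent hcβ hz),
        mul_inv_eq_iff_eq_mul.1 (hM.core_cent hcβ₁ hz)]
    have hdc : d * c = c * d := mul_inv_eq_iff_eq_mul.1 hfix
    obtain ⟨p, hpc, hpη⟩ : ∃ p : G, p * c = c * p ∧ X.act p γ = η := by
      rcases (rot_cover hM.three (adj_symm h1) hdN.1 hd3 hdmv).2.2.2.2 η hη with rfl | rfl | rfl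
      · exact ⟨1, by rw [one_mul, mul_one], act_one _⟩
      · exact ⟨d, hdc, rfl⟩
      · exact ⟨d * d, Commute.mul_left hdc hdc, rfl⟩
    have a1 : X.Adj γ (X.act p⁻¹ τ) := by
      have := adj_act hτ p⁻¹
      rwa [← hpη, act_act, inv_mul_cancel, act_one] at this
    have h2' := hbase _ a1 (p⁻¹ * z * p) (mem_Vb (adj_act hξ p⁻¹)
      (by rw [Zv_act, mem_cnj, inv_inv]; convert hz using 1; group))
    have hpc' : p⁻¹ * c * p = c := by rw [mul_assoc, ← hpc]; group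
    calc c * z = p * ((p⁻¹ * c * p) * (p⁻¹ * z * p)) * p⁻¹ := by group
      _ = p * ((p⁻¹ * z * p) * (p⁻¹ * c * p)) * p⁻¹ := by rw [hpc', h2']
      _ = _ := by group
  obtain ⟨x, hx, y, hy, hxy⟩ := (hM.structure_A h2 h1 hne.symm hγ).2.1 v⁻¹ (inv_mem hvγ)
  have hyK : y ∈ Ker X σ := ⟨h.Zv_le_core h1 hγ (hM.Zv_mono h1 hγ hy), fun η τ ξ hη hτ hξ z hz =>
    hM.comm_near h.near (n := 2) (by omega) (typeA hη hσ) (Reach.two hτ hξ)
      (hM.Zv_mono (adj_symm hη) (typeA hη hσ) hy) hz⟩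
  exact ⟨x, hx, y * c, mul_mem hyK hcK, by rw [← mul_assoc, ← hxy, hc]; group⟩

theorem Three3.bound {γ σ β : X.Vtx} (h1 : X.Adj γ σ) (h2 : X.Adj γ β) (hne : β ≠ σ) (hγ : γ.1 = i) :
    Nat.card X.T ≤ 128 := by
  have hM := h.main
  have hσ := typeB h1 hγ
  have hβ := typeB h2 hγ
  set F := core X σ ⊓ core X β with hF
  haveI : Finite F := finite_le_St ((inf_le_left.trans (core_le σ)).trans (Qv_le_St σ))
  haveI := hM.Zv_finite σ
  haveI := hM.Zv_finite β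
  haveI fK : ∀ v, Finite (Ker X v) := fun v =>
    finite_le_St ((show Ker X v ≤ X.Qv v from fun x hx => hx.1.1).trans (Qv_le_St v))
  have b1 : Nat.card F ≤ 2 * Nat.card (Ker X σ) := by
    have := card_le_of_prod (A := F) fun x hx => h.core_inf h1 h2 hne hγ hx.1 hx.2
    rwa [hM.card_B hβ, h.two] at this
  have b2 : Nat.card F ≤ 2 * Nat.card (Ker X β) := by
    have := card_le_of_prod (A := F) fun x hx => h.core_inf h2 h1 hne.symm hγ hx.2 hx.1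
    rwa [hM.card_B hσ, h.two] at this
  have b3 : Nat.card (Ker X σ) * Nat.card (Ker X β) ≤ Nat.card F := by
    rw [← Nat.card_prod]
    refine Nat.card_le_card_of_injective (fun p : Ker X σ × Ker X β => (⟨(p.1 : G) * p.2,
      mul_mem (⟨p.1.2.1, h.Ker_le h1 h2 hγ p.1.2⟩ : (p.1 : G) ∈ F)
        ⟨h.Ker_le h2 h1 hγ p.2.2, p.2.2.1⟩⟩ : F)) ?_
    rintro ⟨⟨a, ha⟩, ⟨c, hc⟩⟩ ⟨⟨a', ha'⟩, ⟨c', hc'⟩⟩ e
    have e' : a * c = a' * c' := congrArg Subtype.val e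
    have h1' : a'⁻¹ * a = c' * c⁻¹ := by
      calc a'⁻¹ * a = a'⁻¹ * (a * c) * c⁻¹ := by group
        _ = _ := by rw [e']; group
    have h2' : a'⁻¹ * a = 1 := Subgroup.mem_bot.1 (h.Ker_inf h1 h2 hne hγ ▸
      ⟨(Ker X σ).mul_mem ((Ker X σ).inv_mem ha') ha, h1' ▸ (Ker X β).mul_mem hc' ((Ker X β).inv_mem hc)⟩)
    obtain rfl : a' = a := inv_mul_eq_one.1 h2'
    obtain rfl : c = c' := mul_left_cancel e'
    rfl
  have hF4 : Nat.card F ≤ 4 := by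
    have hp : 0 < Nat.card (Ker X β) := Nat.card_pos
    have := Nat.le_of_mul_le_mul_right (b3.trans b2) hp
    omega
  -- down from the core
  obtain ⟨ν, hν, hνne⟩ := exists_other hM.three (adj_symm h1)
  obtain ⟨ρ, hρ, hρne⟩ := exists_other hM.three (adj_symm hν)
  obtain ⟨e, he0, he1⟩ := hM.exists_ne (typeB hρ (typeA hν hσ))
  have he := hM.Zv_mono hρ (typeA hν hσ) he0
  have heσ : e ∉ X.Zv σ := fun hh => he1 (hM.inter (adj_symm hν) hρ hρne (typeA hν hσ) hh he0)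
  obtain ⟨α, hα, hαne⟩ := exists_other hM.three (adj_symm h2)
  obtain ⟨τ, hτ, hτne⟩ := exists_other hM.three (adj_symm hα)
  obtain ⟨a, ha0, ha1⟩ := hM.exists_ne (typeB hτ (typeA hα hβ))
  have ha := hM.Zv_mono hτ (typeA hα hβ) ha0
  have haβ : a ∉ X.Zv β := fun hh => ha1 (hM.inter (adj_symm hα) hτ hτne (typeA hα hβ) hh ha0)
  -- centralizing a module
  have hcentr : ∀ {s t : X.Vtx}, X.Adj γ s → X.Adj s t → t ≠ γ → ∀ {u}, u ∈ X.Zv t → u ∉ X.Zv s →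
      ∀ x ∈ X.Qv s, x ∈ X.Qv γ → x * u = u * x → x ∈ core X s := by
    intro s t hs ht htne u hu hus x hx hxγ hxu
    have hsB := typeB hs hγ
    refine ⟨hx, fun w hw => hM.cent' hw hsB hx fun z hz => ?_⟩
    rcases h.Vb_cases (adj_symm hs) ht htne hsB hu hus (mem_Vb hw hz) with hzγ | hzu
    · exact hM.Zv_central hzγ hxγ
    · have h1 : Commute x (z * u) := hM.Zv_central hzu hxγ
      have := h1.mul_right (Commute.inv_right hxu)
      rwa [mul_inv_cancel_right] at this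
  have hval : ∀ {s t : X.Vtx}, X.Adj γ s → X.Adj s t → ∀ {u}, u ∈ X.Zv t →
      ∀ x ∈ X.Qv s, ∀ y ∈ X.Qv s, (x * u * x⁻¹ = u ↔ y * u * y⁻¹ = u) → x⁻¹ * y * u = u * (x⁻¹ * y) := by
    intro s t hs ht u hu x hx y hy e
    have hsB := typeB hs hγ
    have heq : x * u * x⁻¹ = y * u * y⁻¹ := by
      by_cases h1' : x * u * x⁻¹ = u
      · rw [h1', e.1 h1']
      · have hm : ∀ p ∈ X.Qv s, p * u * p⁻¹ * u⁻¹ ∈ X.Zv s := fun p hp =>
          hM.comm_mem' (adj_symm ht) (typeA ht hsB) hu ((Tv_comm s t) ▸ Qv_le_Tv ht hp)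
        exact mul_right_cancel (hM.B_eq h.two hsB (hm x hx) (hm y hy)
          (fun hh => h1' (mul_inv_eq_one.1 hh)) (fun hh => h1' (e.2 (mul_inv_eq_one.1 hh))))
    calc x⁻¹ * y * u = x⁻¹ * (y * u * y⁻¹) * y := by group
      _ = x⁻¹ * (x * u * x⁻¹) * y := by rw [heq]
      _ = _ := by group
  haveI := Qv_finite σ
  haveI : Finite (core X σ) := finite_le_St ((core_le σ).trans (Qv_le_St σ))
  haveI : Finite ↥(X.Qv σ ⊓ X.Qv γ) := finite_le_St (inf_le_left.trans (Qv_le_St σ))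
  haveI : Finite ↥(core X σ ⊓ X.Qv β) := finite_le_St (inf_le_right.trans (Qv_le_St β))
  have a1 : Nat.card (X.Qv σ) ≤ 2 * Nat.card ↥(X.Qv σ ⊓ X.Qv γ) :=
    card_le_two (· ∈ X.Qv γ) fun x hx y hy e =>
      ⟨(X.Qv σ).mul_mem ((X.Qv σ).inv_mem hx) hy, Qv_two' (adj_symm h1) hx hy e⟩
  have a2 : Nat.card ↥(X.Qv σ ⊓ X.Qv γ) ≤ 2 * Nat.card (core X σ) :=
    card_le_two (fun x => x * e * x⁻¹ = e) fun x hx y hy e' =>
      hcentr h1 hν hνne he heσ _ (mul_mem (inv_mem hx.1) hy.1) (mul_mem (inv_mem hx.2) hy.2)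
        (hval h1 hν he x hx.1 y hy.1 e')
  have a3 : Nat.card (core X σ) ≤ 2 * Nat.card ↥(core X σ ⊓ X.Qv β) :=
    card_le_two (· ∈ X.Qv β) fun x hx y hy e =>
      ⟨(core X σ).mul_mem ((core X σ).inv_mem hx) hy,
        Qv_two' h2 (hx.2 γ (adj_symm h1)) (hy.2 γ (adj_symm h1)) e⟩
  have a4 : Nat.card ↥(core X σ ⊓ X.Qv β) ≤ 2 * Nat.card F :=
    card_le_two (fun x => x * a * x⁻¹ = a) fun x hx y hy e' => by
      refine ⟨(core X σ).mul_mem ((core X σ).inv_mem hx.1) hy.1,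
        hcentr h2 hα hαne ha haβ _ (mul_mem (inv_mem hx.2) hy.2) ?_ (hval h2 hα ha x hx.2 y hy.2 e')⟩
      exact mul_mem (inv_mem (hx.1.2 γ (adj_symm h1))) (hy.1.2 γ (adj_symm h1))
  have hT := card_T_Qv (adj_symm h1)
  omega

omit h in
theorem Main.bound_three (hM : Main X i) (hb : NearA X i 3) {f : ℕ → X.Vtx} (hf : CritA X i 3 f) :
    Nat.card X.T ≤ 128 :=
  (hM.three_data hb hf).bound (adj_symm (hf.1 1 (by omega))) (hf.1 2 (by omega))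
    ((hf.nb hb).2 1 le_rfl).symm (((type_of_even hf.1 (by omega) even_two)).trans hf.2.1)

end Cfsg.Agent.LocalEven.Amalgam33
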