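import Cfsg.Agent.Lib.LocalEven.Amalgam33.One

/-!
# Amalgams of index (3, 3): rotations and fixed points
-/

set_option autoImplicit false
set_option linter.style.haveILetI false

open Cfsg.Agent.Solv.Amalgam
open Cfsg.Agent.Solv.Amalgam.Data

namespace Cfsg.Agent.LocalEven.Amalgam33

universe u

variable {G : Type u} [Group G]

/-- Fixed points of an element of order three above an elementary abelian section. -/
theorem exists_fix {V : Subgroup G} (hsq : ∀ v ∈ V, v * v = 1) {d x : G} (hd : d ^ 3 = 1)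
    (hn : ∀ v ∈ V, d * v * d⁻¹ ∈ V) (hw : d * x * d⁻¹ * x⁻¹ ∈ V) :
    ∃ v ∈ V, d * (v * x) * d⁻¹ = v * x := by
  set w := d * x * d⁻¹ * x⁻¹ with hwdef
  have h1 : d * w * d⁻¹ ∈ V := hn w hw
  have h2 : d * (d * w * d⁻¹) * d⁻¹ ∈ V := hn _ h1
  have hinv : ∀ {v}, v ∈ V → v⁻¹ = v := fun hv => inv_eq_of_mul_eq_one_right (hsq _ hv)
  refine ⟨d * w * d⁻¹, h1, ?_⟩
  have hprod : d * (d * w * d⁻¹) * d⁻¹ * (d * w * d⁻¹) * w = 1 := by
    calc _ = d ^ 3 * x * (d ^ 3)⁻¹ * x⁻¹ := by rw [hwdef, pow_three]; group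
      _ = 1 := by rw [hd]; group
  have hkey : d * (d * w * d⁻¹) * d⁻¹ * w = d * w * d⁻¹ := by
    set p := d * (d * w * d⁻¹) * d⁻¹
    set q := d * w * d⁻¹
    have hqw : q * w = w * q := by
      calc q * w = (q * w)⁻¹ := (hinv (mul_mem h1 hw)).symm
        _ = w * q := by rw [mul_inv_rev, hinv hw, hinv h1]
    calc p * w = p * q * w * (w⁻¹ * q⁻¹ * w) := by group
      _ = w⁻¹ * q⁻¹ * w := by rw [hprod, one_mul]
      _ = w⁻¹ * (q * w) := by rw [hinv h1]; group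
      _ = q := by rw [hqw]; group
  calc d * (d * w * d⁻¹ * x) * d⁻¹ = d * (d * w * d⁻¹) * d⁻¹ * w * x := by rw [hwdef]; group
    _ = _ := by rw [hkey]

/-- A bound from a factorisation. -/
theorem card_le_of_prod {A B C : Subgroup G} [Finite B] [Finite C]
    (h : ∀ a ∈ A, ∃ x ∈ B, ∃ y ∈ C, a = x * y) : Nat.card A ≤ Nat.card B * Nat.card C := by
  choose x hx y hy e using h
  rw [← Nat.card_prod]
  refine Nat.card_le_card_of_injective
    (fun a : A => ((⟨x a a.2, hx a a.2⟩ : B), (⟨y a a.2, hy a a.2⟩ : C))) fun a b h' => ?_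
  have e1 : x a a.2 = x b b.2 := congrArg (fun p : B × C => (p.1 : G)) h'
  have e2 : y a a.2 = y b b.2 := congrArg (fun p : B × C => (p.2 : G)) h'
  exact Subtype.ext ((e a a.2).trans (by rw [e1, e2]; exact (e b b.2).symm))

theorem inv_of_conj {t g : G} (h : t * g * t⁻¹ = g⁻¹) (n : ℕ) : t * g ^ n * t⁻¹ = (g ^ n)⁻¹ := by
  rw [← conj_pow, h, inv_pow]

theorem conj_mul_inv {s t : G} (hs : s * s = 1) (ht : t * t = 1) :
    s * (s * t) * s⁻¹ = (s * t)⁻¹ ∧ t * (s * t) * t⁻¹ = (s * t)⁻¹ := by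
  have hs' : s⁻¹ = s := inv_eq_of_mul_eq_one_right hs
  have ht' : t⁻¹ = t := inv_eq_of_mul_eq_one_right ht
  constructor
  · rw [mul_inv_rev, ← mul_assoc, hs, one_mul, ht']
  · rw [mul_inv_rev, show t * (s * t) * t⁻¹ = t * s by group, ht', hs']

variable {X : Data G}

theorem Qv_pow_eq_one {v : X.Vtx} {q : G} (hq : q ∈ X.Qv v) {N : ℕ} (hN : Odd N) (h : q ^ N = 1) : q = 1 := by
  obtain ⟨w, hw⟩ := exists_nbr v
  obtain ⟨k, hk⟩ := IsPGroup.iff_orderOf.1 ((Tv_pgroup hw).to_le (Qv_le_Tv hw)) ⟨q, hq⟩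
  rw [Subgroup.orderOf_mk] at hk
  have h1 : orderOf q ∣ N := orderOf_dvd_of_pow_eq_one h
  rw [hk] at h1
  rcases k with _ | k
  · rwa [pow_zero, orderOf_eq_one_iff] at hk
  · have h2 : 2 ∣ N := (dvd_pow_self 2 (by omega)).trans h1
    rw [Nat.odd_iff] at hN
    omega

variable (h3 : X.Three)
include h3

/-- An element of order three, a power of the product of two reflections. -/
theorem rot_of_mul {v w w' : X.Vtx} (h : X.Adj v w) (h' : X.Adj v w') (hne : w' ≠ w) {s t : G}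
    (hs : s ∈ X.Tv v w) (hsQ : s ∉ X.Qv v) (ht : t ∈ X.Tv v w') (htQ : t ∉ X.Qv v) :
    ∃ M : ℕ, ((s * t) ^ M) ^ 3 = 1 ∧ X.act ((s * t) ^ M) w ≠ w := by
  haveI := X.St_finite v
  obtain ⟨u, hu, huw, huw', hall⟩ := third h3 h h' hne
  set g := s * t with hg
  have hgS : g ∈ X.St v := mul_mem hs.1 ht.1
  have hsw : X.act s w = w := mem_St_iff.1 hs.2
  have htw : X.act t w' = w' := mem_St_iff.1 ht.2
  have hg1 : X.act g w = w' := by
    rw [hg, ← act_act, swap h3 h' h hu hne.symm huw' huw ht htQ]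
    exact swap h3 h hu h' huw hne huw'.symm hs hsQ
  have hg2 : X.act g w' = u := by
    rw [hg, ← act_act, htw]
    exact swap h3 h h' hu hne huw huw' hs hsQ
  have hg3 : X.act g u = w := by
    rw [hg, ← act_act, swap h3 h' hu h huw' hne.symm huw.symm ht htQ, hsw]
  have hgQ3 : g ^ 3 ∈ X.Qv v := by
    refine mem_Qv_of_fix h h' hne (pow_mem hgS 3) ?_ ?_ <;>
      rw [pow_succ, pow_two, ← act_act, ← act_act]
    · rw [hg1, hg2, hg3]
    · rw [hg2, hg3, hg1]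
  obtain ⟨k, hk⟩ := IsPGroup.iff_orderOf.1 ((Tv_pgroup h).to_le (Qv_le_Tv h)) ⟨_, hgQ3⟩
  rw [Subgroup.orderOf_mk] at hk
  have hgk : g ^ (3 * 2 ^ k) = 1 := by rw [pow_mul, ← hk]; exact pow_orderOf_eq_one _
  refine ⟨4 ^ k, ?_, ?_⟩
  · rw [← pow_mul]
    have : 4 ^ k * 3 = (3 * 2 ^ k) * 2 ^ k := by
      rw [show (4 : ℕ) = 2 * 2 by norm_num, mul_pow]; ring
    rw [this, pow_mul, hgk, one_pow]
  · obtain ⟨c, hc⟩ : ∃ c, 4 ^ k = 3 * c + 1 := by
      refine ⟨4 ^ k / 3, ?_⟩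
      have : 4 ^ k % 3 = 1 := by simp [Nat.pow_mod]
      omega
    rw [hc, pow_succ, pow_mul, ← act_act, hg1, Qv_fix h' (pow_mem hgQ3 c)]
    exact hne

theorem exists_rot (v : X.Vtx) :
    ∃ d ∈ X.St v, d ^ 3 = 1 ∧ ∀ w, X.Adj v w → X.act d w ≠ w := by
  obtain ⟨w, h⟩ := exists_nbr v
  obtain ⟨w', h', hne⟩ := exists_other h3 h
  obtain ⟨s, -, hs, hsQ⟩ := exists_refl h
  obtain ⟨t, -, ht, htQ⟩ := exists_refl h'
  obtain ⟨M, h1, h2⟩ := rot_of_mul h3 h h' hne hs hsQ ht htQ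
  refine ⟨_, pow_mem (mul_mem hs.1 ht.1) M, h1, fun x hx e => ?_⟩
  have hfix : (s * t) ^ M ∈ X.Tv v x := ⟨pow_mem (mul_mem hs.1 ht.1) M, mem_St_iff.2 e⟩
  set d := (s * t) ^ M
  have hd2 : d * d ∈ X.Qv v := sq_mem hx hfix
  have hd : d ∈ X.Qv v := by
    have : d = d ^ 3 * (d * d)⁻¹ := by group
    rw [this, h1, one_mul]
    exact inv_mem hd2
  exact h2 (Qv_fix h hd)

/-- An element of order three moving a neighbour permutes the neighbours cyclically. -/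
theorem rot_cover {v w : X.Vtx} (h : X.Adj v w) {d : G} (hd : d ∈ X.St v) (hd3 : d ^ 3 = 1)
    (hmv : X.act d w ≠ w) :
    X.Adj v (X.act d w) ∧ X.Adj v (X.act (d * d) w) ∧ X.act (d * d) w ≠ w ∧
      X.act (d * d) w ≠ X.act d w ∧
      ∀ x, X.Adj v x → x = w ∨ x = X.act d w ∨ x = X.act (d * d) w := by
  have a1 := adj_act_fix h hd
  have a2 := adj_act_fix h (mul_mem hd hd)
  have n1 : X.act (d * d) w ≠ X.act d w := fun e => hmv (act_inj (by rwa [← act_act] at e))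
  have n2 : X.act (d * d) w ≠ w := fun e => hmv (by
    calc X.act d w = X.act d (X.act (d * d) w) := by rw [e]
      _ = w := by rw [act_act, ← pow_three, hd3, act_one])
  obtain ⟨u, -, -, -, hall⟩ := third h3 h a1 hmv
  have := ((hall _ a2).resolve_left n2).resolve_left n1
  exact ⟨a1, a2, n2, n1, this.symm ▸ hall⟩

omit h3

/-- A rotation fixes no element of the module. -/
theorem Main.A_fixed {i : Bool} (hM : Main X i) (hk : Nat.card (X.V (!i)) = 2) {α β : X.Vtx} (h : X.Adj α β)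
    (hα : α.1 = i) {d : G} (hd : d ∈ X.St α) (hd3 : d ^ 3 = 1) (hmv : X.act d β ≠ β) {z : G}
    (hz : z ∈ X.Zv α) (hc : d * z * d⁻¹ = z) : z = 1 := by
  obtain ⟨h1, h2, n2, n1, hall⟩ := rot_cover hM.three h hd hd3 hmv
  have key : ∀ w, X.Adj α w → X.act d w ≠ w → z ∈ X.Zv w → z = 1 := fun w hw hw' hzw =>
    hM.inter hw (adj_act_fix hw hd) hw' hα hzw (by rw [Zv_act, ← hc]; exact cnj_conj_mem.2 hzw)
  obtain ⟨x, hx, y, hy, rfl⟩ := (hM.structure_A h h1 hmv hα).2.1 z hz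
  by_cases hx1 : x = 1
  · refine key _ h1 (fun e => hmv (act_inj e)) ?_
    rw [hx1, one_mul]; exact hy
  by_cases hy1 : y = 1
  · refine key _ h hmv ?_
    rw [hy1, mul_one]; exact hx
  refine key _ h2 (fun e => n2 ?_) (hM.A_third hk h h1 h2 hmv n2 n1 hα hx hy hx1 hy1)
  rw [act_act, ← pow_three, hd3, act_one] at e
  exact e.symm

end Cfsg.Agent.LocalEven.Amalgam33
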