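import Cfsg.Agent.Lib.LocalEven.Amalgam33.Even
import Cfsg.Agent.Lib.LocalEven.Amalgam33.Rot

/-!
# Amalgams of index (3, 3): critical distance two
-/

set_option autoImplicit false
set_option linter.style.haveILetI false

open Cfsg.Agent.Solv.Amalgam
open Cfsg.Agent.Solv.Amalgam.Data

namespace Cfsg.Agent.LocalEven.Amalgam33

universe u

variable {G : Type u} [Group G] {X : Data G} {i : Bool}

theorem Main.bound_two (hM : Main X i) (hb : NearA X i 2) {f : ℕ → X.Vtx} (hf : CritA X i 2 f) :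
    Nat.card X.T ≤ 128 := by
  obtain ⟨⟨a', ha', ha'T, ha'Q⟩, hk, -⟩ := hM.even_basic hb even_two le_rfl hf
  obtain ⟨hw, hα, hn⟩ := hf
  have hadj : X.Adj (f 0) (f 1) := hw 0 (by omega)
  have hα'β : X.Adj (f 2) (f 1) := adj_symm (hw 1 (by omega))
  set α := f 0
  set β := f 1
  set α' := f 2
  have hβ : β.1 = !i := typeB hadj hα
  have hα' : α'.1 = i := typeA (adj_symm hα'β) hβ
  obtain ⟨β', hβ', hne⟩ := exists_other hM.three hadj
  obtain ⟨g, hg, hgβ⟩ := exists_act_nbr hadj hβ'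
  set a₁ := g * a' * g⁻¹ with ha₁
  have ha₁Z : a₁ ∈ X.Zv (X.act g α') := by rw [Zv_act]; exact cnj_conj_mem.2 ha'
  have hga : X.Adj (X.act g α') β' := hgβ ▸ adj_act hα'β g
  have hga' : (X.act g α').1 = i := hα'
  have ha₁T : a₁ ∈ X.Tv α β' := by
    have := cnj_conj_mem (g := g).2 ha'T
    rwa [← Tv_act, mem_St_iff.1 hg, hgβ] at this
  have ha₁Q : a₁ ∉ X.Qv α := fun h => ha'Q (by
    have := Qv_normal (inv_mem hg) h
    rwa [inv_inv, ha₁, show g⁻¹ * (g * a' * g⁻¹) * g = a' by group] at this)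
  obtain ⟨M, hd3, hdmv⟩ := rot_of_mul hM.three hadj hβ' hne ha'T ha'Q ha₁T ha₁Q
  have hinv := conj_mul_inv (hM.Zv_sq ha') (hM.Zv_sq ha₁Z)
  set d := (a' * a₁) ^ M with hd
  have hdS : d ∈ X.St α := pow_mem (mul_mem ha'T.1 ha₁T.1) M
  have hda : a' * d * a'⁻¹ = d⁻¹ := inv_of_conj hinv.1 M
  have hda₁ : a₁ * d * a₁⁻¹ = d⁻¹ := inv_of_conj hinv.2 M
  -- the intersection of the neighbouring cores
  set E := core X α with hE
  haveI : Finite E := finite_le_St ((core_le α).trans (Qv_le_St α))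
  have hZE : X.Zv α ≤ E := fun z hz =>
    ⟨hM.Zv_le α hz, fun w hw' => hb α w 1 (by omega) hα (Reach.one hw') hz⟩
  have hcomm : ∀ {w ν : X.Vtx}, X.Adj α w → X.Adj ν w → ν.1 = i → ∀ a ∈ X.Zv ν, ∀ e ∈ E,
      a * e * a⁻¹ * e⁻¹ ∈ X.Zv w := fun {w ν} hw' hν hν' a ha e he =>
    hM.comm_mem hν hν' ha ((Tv_comm w ν) ▸ Qv_le_Tv (adj_symm hν) (he.2 w hw'))
  have hmove : ∀ p ∈ X.St α, (∀ e ∈ E, p * e * p⁻¹ * e⁻¹ ∈ X.Zv α) → ∀ n : ℕ, ∀ e ∈ E,
      p ^ n * e * (p ^ n)⁻¹ * e⁻¹ ∈ X.Zv α := by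
    intro p hp h n
    induction n with
    | zero => intro e _; simp
    | succ n ih =>
      intro e he
      rw [pow_succ, show p ^ n * p * e * (p ^ n * p)⁻¹ * e⁻¹ =
        (p ^ n * (p * e * p⁻¹) * (p ^ n)⁻¹ * (p * e * p⁻¹)⁻¹) * (p * e * p⁻¹ * e⁻¹) by group]
      exact mul_mem (ih _ (core_normal hp he)) (h e he)
  have hdE : ∀ e ∈ E, d * e * d⁻¹ * e⁻¹ ∈ X.Zv α := by
    refine hmove _ (mul_mem ha'T.1 ha₁T.1) (fun e he => ?_) M
    rw [show a' * a₁ * e * (a' * a₁)⁻¹ * e⁻¹ =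
      (a' * (a₁ * e * a₁⁻¹) * a'⁻¹ * (a₁ * e * a₁⁻¹)⁻¹) * (a₁ * e * a₁⁻¹ * e⁻¹) by group]
    exact mul_mem (hM.Zv_mono hadj hα (hcomm hadj hα'β hα' a' ha' _ (core_normal ha₁T.1 he)))
      (hM.Zv_mono hβ' hα (hcomm hβ' hga hga' a₁ ha₁Z e he))
  set C := E ⊓ Subgroup.centralizer ({d} : Set G) with hC
  haveI : Finite C := finite_le_St (inf_le_left.trans ((core_le α).trans (Qv_le_St α)))
  haveI := hM.Zv_finite α
  have hEC : Nat.card E ≤ Nat.card (X.Zv α) * Nat.card C := by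
    refine card_le_of_prod fun e he => ?_
    obtain ⟨v, hv, hfix⟩ := exists_fix (fun v hv => hM.Zv_sq hv) hd3 (fun v hv => Zv_normal hdS hv) (hdE e he)
    exact ⟨v⁻¹, inv_mem hv, v * e, ⟨mul_mem (hZE hv) he, Subgroup.mem_centralizer_singleton_iff.2
      (mul_inv_eq_iff_eq_mul.1 hfix).symm⟩, by group⟩
  have hCa : ∀ e ∈ C, a' * e = e * a' := by
    intro e he
    have hde : d * e = e * d := (Subgroup.mem_centralizer_singleton_iff.1 he.2).symm
    have hu := hcomm hadj hα'β hα' a' ha' e he.1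
    set u := a' * e * a'⁻¹ * e⁻¹ with hudef
    have hda' : a'⁻¹ * d * a' = d⁻¹ := by
      rw [inv_eq_of_mul_eq_one_right (hM.Zv_sq ha')]
      conv_lhs => arg 2; rw [← inv_eq_of_mul_eq_one_right (hM.Zv_sq ha')]
      exact hda
    have hde' : d⁻¹ * e * d = e := by
      calc d⁻¹ * e * d = d⁻¹ * (e * d) := by group
        _ = e := by rw [← hde]; group
    have hfix : d * u * d⁻¹ = u := by
      calc d * u * d⁻¹ = a' * ((a'⁻¹ * d * a') * e * (a'⁻¹ * d * a')⁻¹) * a'⁻¹ * (d * e * d⁻¹)⁻¹ := by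
            rw [hudef]; group
        _ = a' * (d⁻¹ * e * d) * a'⁻¹ * (e * d * d⁻¹)⁻¹ := by rw [hda', inv_inv, ← hde]
        _ = _ := by rw [hde', hudef]; group
    have h1 := hM.A_fixed hk hadj hα hdS hd3 hdmv (hM.Zv_mono hadj hα hu) hfix
    calc a' * e = u * e * a' := by rw [hudef]; group
      _ = _ := by rw [h1, one_mul]
  -- the third neighbour of the middle
  have hαα' : α' ≠ α := fun e => hn (e.symm ▸ hM.Zv_le α)
  obtain ⟨α'', hα'', -, -, hall⟩ := third hM.three (adj_symm hadj) (adj_symm hα'β) hαα'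
  have hα''A : α''.1 = i := typeA hα'' hβ
  obtain ⟨β'', hβ'', hne''⟩ := exists_other hM.three (adj_symm hα'')
  obtain ⟨a'', ha'', ha''1⟩ := hM.exists_ne (typeB hβ'' hα''A)
  have ha''Z := hM.Zv_mono hβ'' hα''A ha''
  have ha''β : a'' ∉ X.Zv β := fun h => ha''1 (hM.inter hβ'' (adj_symm hα'') hne''.symm hα''A ha'' h)
  set K := C ⊓ Subgroup.centralizer ({a''} : Set G) with hK
  haveI : Finite K := finite_le_St ((inf_le_left.trans inf_le_left).trans ((core_le α).trans (Qv_le_St α)))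
  have hCK : Nat.card C ≤ 2 * Nat.card K := by
    refine card_le_two (fun e => e * a'' * e⁻¹ = a'') fun x hx y hy e => ?_
    refine ⟨C.mul_mem (C.inv_mem hx) hy, Subgroup.mem_centralizer_singleton_iff.2 ?_⟩
    have heq : x * a'' * x⁻¹ = y * a'' * y⁻¹ := by
      by_cases h1 : x * a'' * x⁻¹ = a''
      · rw [h1, e.1 h1]
      · have h2 : y * a'' * y⁻¹ ≠ a'' := fun h => h1 (e.2 h)
        have hu : ∀ p ∈ C, p * a'' * p⁻¹ ≠ a'' → p * a'' * p⁻¹ * a''⁻¹ ∈ X.Zv β ∧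
            p * a'' * p⁻¹ * a''⁻¹ ≠ 1 := fun p hp hne =>
          ⟨hM.comm_mem' (adj_symm hα'') hα''A ha''Z
            ((Tv_comm β α'') ▸ Qv_le_Tv hα'' (hp.1.2 β hadj)), fun h => hne (mul_inv_eq_one.1 h)⟩
        exact mul_right_cancel (hM.B_eq hk hβ (hu x hx h1).1 (hu y hy h2).1 (hu x hx h1).2 (hu y hy h2).2)
    calc x⁻¹ * y * a'' = x⁻¹ * (y * a'' * y⁻¹) * y := by group
      _ = x⁻¹ * (x * a'' * x⁻¹) * y := by rw [heq]
      _ = _ := by group
  -- the part centralizing everything at distance two is trivial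
  let W : Subgroup G :=
    { carrier := {e | e ∈ E ∧ ∀ σ ν, X.Adj α σ → X.Adj σ ν → ∀ z ∈ X.Zv ν, e * z = z * e}
      one_mem' := ⟨one_mem _, fun _ _ _ _ z _ => by rw [one_mul, mul_one]⟩
      mul_mem' := fun {p q} hp hq => ⟨mul_mem hp.1 hq.1, fun σ ν h1 h2 z hz =>
        Commute.mul_left (hp.2 σ ν h1 h2 z hz) (hq.2 σ ν h1 h2 z hz)⟩
      inv_mem' := fun {p} hp => ⟨inv_mem hp.1, fun σ ν h1 h2 z hz => Commute.inv_left (hp.2 σ ν h1 h2 z hz)⟩ }
  have hKW : K ≤ W := by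
    intro e he
    have heE : e ∈ E := he.1.1
    have hde : d * e = e * d := (Subgroup.mem_centralizer_singleton_iff.1 he.1.2).symm
    have hbase : ∀ ν, X.Adj β ν → ∀ z ∈ X.Zv ν, e * z = z * e := by
      have hB : X.Zv β ≤ Subgroup.centralizer ({e} : Set G) := fun z hz =>
        Subgroup.mem_centralizer_singleton_iff.2 (hM.Zv_central (hM.Zv_mono hadj hα hz) heE.1).symm
      intro ν hν z hz
      refine (Subgroup.mem_centralizer_singleton_iff.1 (?_ : z ∈ Subgroup.centralizer ({e} : Set G))).symm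
      rcases hall ν hν with rfl | rfl | rfl
      · exact Subgroup.mem_centralizer_singleton_iff.2 (hM.Zv_central hz heE.1).symm
      · exact hM.A_le hk hα'β hα' hB ha' (fun h => ha'Q (hM.Zv_le α (hM.Zv_mono hadj hα h)))
          (Subgroup.mem_centralizer_singleton_iff.2 (hCa e he.1)) hz
      · exact hM.A_le hk (adj_symm hν) hα''A hB ha''Z ha''β
          (Subgroup.mem_centralizer_singleton_iff.2 (Subgroup.mem_centralizer_singleton_iff.1 he.2).symm) hz
    refine ⟨heE, fun σ ν hσ hν z hz => ?_⟩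
    obtain ⟨p, hpe, hpσ⟩ : ∃ p : G, p * e = e * p ∧ X.act p β = σ := by
      rcases (rot_cover hM.three hadj hdS hd3 hdmv).2.2.2.2 σ hσ with rfl | rfl | rfl
      · exact ⟨1, by rw [one_mul, mul_one], act_one _⟩
      · exact ⟨d, hde, rfl⟩
      · exact ⟨d * d, Commute.mul_left hde hde, rfl⟩
    have h1 : X.Adj β (X.act p⁻¹ ν) := by
      have := adj_act hν p⁻¹
      rwa [← hpσ, act_act, inv_mul_cancel, act_one] at this
    have h2 := hbase _ h1 (p⁻¹ * z * p) (by rw [Zv_act, mem_cnj, inv_inv]; convert hz using 1; group)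
    have hpe' : p⁻¹ * e * p = e := by rw [mul_assoc, ← hpe]; group
    calc e * z = p * ((p⁻¹ * e * p) * (p⁻¹ * z * p)) * p⁻¹ := by group
      _ = p * ((p⁻¹ * z * p) * (p⁻¹ * e * p)) * p⁻¹ := by rw [hpe', h2]
      _ = _ := by group
  have hWn : ∀ p ∈ X.St α, ∀ e ∈ W, p * e * p⁻¹ ∈ W := by
    intro p hp e he
    refine ⟨core_normal hp he.1, fun σ ν hσ hν z hz => ?_⟩
    have h1 := he.2 (X.act p⁻¹ σ) (X.act p⁻¹ ν) (adj_act_fix hσ (inv_mem hp)) (adj_act hν p⁻¹)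
      (p⁻¹ * z * p) (by rw [Zv_act, mem_cnj, inv_inv]; convert hz using 1; group)
    calc p * e * p⁻¹ * z = p * (e * (p⁻¹ * z * p)) * p⁻¹ := by group
      _ = p * ((p⁻¹ * z * p) * e) * p⁻¹ := by rw [h1]
      _ = _ := by group
  have hWbot : W = ⊥ := by
    by_contra hW
    have hWT : W ≤ X.Tv α β := fun e he => Qv_le_Tv hadj he.1.1
    haveI := Tv_finite α β
    obtain ⟨w, hwW, hw1, hw2, hwc⟩ :=
      exists_central (Tv_pgroup hadj) hWT hW fun s hs e he => hWn s hs.1 e he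
    have hwβ := hM.central_mem hadj hα (hWT hwW) hw2 hwc
    have hle : X.St α ≤ Subgroup.centralizer ({w} : Set G) := by
      refine gen hM.three hadj (fun t ht => Subgroup.mem_centralizer_singleton_iff.2 (hwc t ht)) ha₁T.1
        (move hβ' hadj hne.symm ha₁T ha₁Q) (Subgroup.mem_centralizer_singleton_iff.2 ?_)
      exact (hwW.2 β' (X.act g α') hβ' (adj_symm hga) a₁ ha₁Z).symm
    refine hw1 (hM.inter hadj hβ' hne hα hwβ ?_)
    rw [← hgβ, Zv_act, mem_cnj, mul_assoc, ← Subgroup.mem_centralizer_singleton_iff.1 (hle hg)]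
    simpa using hwβ
  have hK1 : Nat.card K = 1 := by
    rw [Subgroup.card_eq_one]
    exact le_bot_iff.1 (hWbot ▸ hKW)
  have hZ4 := (hM.structure_A hadj hβ' hne hα).1
  rw [hk] at hZ4
  rw [hZ4] at hEC
  have h1 := card_Qv_le hM.three α
  have h2 := card_T_Qv hadj
  rw [← hE] at h1
  omega

end Cfsg.Agent.LocalEven.Amalgam33
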