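import Cfsg.Agent.Lib.LocalEven.Amalgam33.Basic

/-!
# Amalgams of index (3, 3): a central involution outside one of the cores
-/

set_option autoImplicit false
set_option linter.style.haveILetI false

open Cfsg.Agent.Solv.Amalgam
open Cfsg.Agent.Solv.Amalgam.Data

namespace Cfsg.Agent.LocalEven.Amalgam33

universe u

variable {G : Type u} [Group G] {X : Data G}

theorem bound_of_out (h3 : X.Three) {i : Bool} (h : ¬ X.Z ⊆ (X.Q i : Set G)) : Nat.card X.T ≤ 16 := by
  obtain ⟨z, ⟨hzT, -, hzc⟩, hzQ⟩ := Set.not_subset.1 h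
  have hout : ∀ S : Subgroup G, S ≤ X.Q i → (∀ q ∈ X.Q i, ∀ s ∈ S, q * s * q⁻¹ ∈ S) →
      ∀ g ∈ X.P i, ∀ s ∈ S, g * s * g⁻¹ ∈ S := by
    intro S hS hn
    haveI := X.fin
    haveI : Finite S := Finite.of_injective _ (Subgroup.inclusion_injective (hS.trans (X.dih i).Q_le))
    have hQ : X.Q i ≤ Subgroup.normalizer (S : Set G) := fun q hq => mem_normalizer_of_finite (hn q hq)
    have hz : ∀ a, (∀ q ∈ X.Q i, a * q = q * a) → a ∈ Subgroup.normalizer (S : Set G) := fun a ha =>
      mem_normalizer_of_finite fun s hs => by rw [ha s (hS hs), mul_inv_cancel_right]; exact hs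
    obtain ⟨g, hg, hgen⟩ := (X.dih i).gen
    have hle : X.P i ≤ Subgroup.normalizer (S : Set G) := by
      rw [← hgen]
      refine sup_le (fun t ht => ?_) ?_
      · by_cases htQ : t ∈ X.Q i
        · exact hQ htQ
        · have := mul_mem (hz z fun q hq => (hzc q ((X.dih i).Q_le hq)).symm) (hQ ((X.dih i).two z hzT t ht hzQ htQ))
          rwa [mul_inv_cancel_left] at this
      rintro _ ⟨t, ht, rfl⟩
      show g * t * g⁻¹ ∈ Subgroup.normalizer (S : Set G)
      by_cases htQ : t ∈ X.Q i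
      · exact hQ (X.Q_normal i hg htQ)
      · rw [show g * t * g⁻¹ = (g * z * g⁻¹) * (g * (z⁻¹ * t) * g⁻¹) by group]
        refine mul_mem (hz _ fun q hq => ?_) (hQ (X.Q_normal i hg ((X.dih i).two z hzT t ht hzQ htQ)))
        have h1 := hzc _ ((X.dih i).Q_le (X.Q_normal i (inv_mem hg) hq))
        rw [inv_inv] at h1
        calc g * z * g⁻¹ * q = g * (z * (g⁻¹ * q * g)) * g⁻¹ := by group
          _ = g * ((g⁻¹ * q * g) * z) * g⁻¹ := by rw [h1]
          _ = _ := by group
    exact fun g hg s hs => (Subgroup.mem_normalizer_iff.1 (hle hg) s).1 hs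
  set v := X.vtx (!i) 1 with hv
  have hadj : X.Adj v (X.vtx i 1) := ⟨1, !i, rfl, by rw [Bool.not_not]⟩
  have hSt : X.St v = X.P (!i) := by rw [hv, St_vtx, cnj_one]
  have hle : core X v ≤ X.Q i := fun q hq => by
    have := hq.2 _ hadj
    rwa [Qv_vtx, cnj_one] at this
  have hn : ∀ j, ∀ g ∈ X.P j, ∀ s ∈ core X v, g * s * g⁻¹ ∈ core X v := by
    have h1 : ∀ g ∈ X.P (!i), ∀ s ∈ core X v, g * s * g⁻¹ ∈ core X v := fun g hg s hs =>
      core_normal (hSt.symm ▸ hg) hs
    intro j
    by_cases hj : j = i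
    · subst hj
      exact hout _ hle fun q hq => h1 q ((X.dih (!j)).T_le ((X.dih j).Q_le hq))
    · obtain rfl : j = !i := by revert hj; clear * -; cases i <;> cases j <;> simp
      exact h1
  have hbot : core X v = ⊥ := X.faithful _ (hle.trans (X.dih i).Q_le) hn
  have h1 := card_Qv_le h3 v
  rw [hbot, Subgroup.card_bot] at h1
  have h2 := card_T_Qv hadj
  omega

end Cfsg.Agent.LocalEven.Amalgam33
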