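import Cfsg.Agent.Lib.Solv.Amalgam.Final
import Cfsg.Agent.Lib.LocalEven.Amalgam33.BOne
import Cfsg.Agent.Lib.LocalEven.Amalgam33.BTwo
import Cfsg.Agent.Lib.LocalEven.Amalgam33.BThree
import Cfsg.Agent.Lib.LocalEven.Amalgam33.BLong
import Cfsg.Agent.Lib.LocalEven.Amalgam33.ZOut

/-!
# The bound on the common subgroup of an amalgam of index (3, 3)
-/

set_option autoImplicit false
set_option linter.style.haveILetI false

open Cfsg.Agent.Solv.Amalgam
open Cfsg.Agent.Solv.Amalgam.Data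

namespace Cfsg.Agent.LocalEven.Amalgam33

universe u

variable {G : Type u} [Group G] {X : Data G}

theorem Main.bound {i : Bool} (hM : Main X i) : Nat.card X.T ≤ 128 := by
  obtain ⟨b, hb1, hb, f, hf⟩ := hM.exists_crit
  rcases Nat.even_or_odd b with he | ho
  · rcases Nat.lt_or_ge b 4 with h | h
    · obtain rfl : b = 2 := by rw [Nat.even_iff] at he; omega
      exact hM.bound_two hb hf
    · exact (hM.even_le_two hb he h hf).elim
  · rcases Nat.lt_or_ge b 5 with h | h
    · obtain rfl | rfl : b = 1 ∨ b = 3 := by rw [Nat.odd_iff] at ho; omega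
      · exact (hM.bound_one hf).trans (by norm_num)
      · exact hM.bound_three hb hf
    · rcases Nat.lt_or_ge b 7 with h' | h'
      · exact (hM.not_five hb h ho (by rw [Nat.odd_iff] at ho; omega) hf).elim
      · exact (hM.not_seven hb h ho h' hf).elim

theorem bound (h3 : X.Three) : Nat.card X.T ≤ 128 := by
  by_cases hZ : ∀ i, X.Z ⊆ (X.Q i : Set G)
  swap
  · push Not at hZ
    obtain ⟨i, hi⟩ := hZ
    exact (bound_of_out h3 hi).trans (by norm_num)
  by_cases hboth : ∀ i, ∃ g ∈ X.P i, ∃ z ∈ X.Z, g * z ≠ z * g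
  · have hX : X.Noncentral := ⟨hZ, hboth⟩
    rcases Data.card_T hX (Data.edge_noncentral_three h3 hX) with h | h <;> omega
  push Not at hboth
  obtain ⟨j, hj⟩ := hboth
  by_cases hmv : ∃ g ∈ X.P (!j), ∃ z ∈ X.Z, g * z ≠ z * g
  · exact Main.bound ⟨h3, hZ, hmv, by rw [Bool.not_not]; exact hj⟩
  push Not at hmv
  exfalso
  obtain ⟨z, hz, hz1⟩ := X.Z_nontrivial
  have hc : ∀ k, ∀ g ∈ X.P k, g * z = z * g := fun k g hg => by
    rcases Bool.eq_or_eq_not k j with rfl | rfl
    exacts [hj g hg z hz, hmv g hg z hz]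
  refine hz1 (Subgroup.zpowers_eq_bot.1 (X.faithful (Subgroup.zpowers z) (Subgroup.zpowers_le.2 hz.1) ?_))
  intro k g hg n hn
  obtain ⟨m, rfl⟩ := Subgroup.mem_zpowers_iff.1 hn
  rw [((Commute.zpow_right (hc k g hg) m) : g * z ^ m = z ^ m * g), mul_inv_cancel_right]
  exact hn

end Cfsg.Agent.LocalEven.Amalgam33
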