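import Mathlib
import Cfsg.Agent.Lib.Solv.Amalgam.Edge
import Cfsg.Agent.Lib.Solv.Amalgam.Gap

/-!
# Amalgams of index (3, 3): combinatorics of the coset graph and counting
-/

set_option autoImplicit false
set_option linter.style.haveILetI false

open Cfsg.Agent.Solv.Amalgam
open Cfsg.Agent.Solv.Amalgam.Data

namespace Cfsg.Agent.LocalEven.Amalgam33

universe u

variable {G : Type u} [Group G]

/-- A fibre bound. -/
theorem card_le_mul {A B K : Subgroup G} [Finite B] [Finite K] (φ : G → G) (hB : ∀ x ∈ A, φ x ∈ B)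
    (hK : ∀ x ∈ A, ∀ y ∈ A, φ x = φ y → x⁻¹ * y ∈ K) : Nat.card A ≤ Nat.card B * Nat.card K := by
  classical
  have hr : ∀ x ∈ A, Function.invFunOn φ (A : Set G) (φ x) ∈ A ∧
      φ (Function.invFunOn φ (A : Set G) (φ x)) = φ x :=
    fun x hx => Function.invFunOn_pos ⟨x, hx, rfl⟩
  rw [← Nat.card_prod]
  refine Nat.card_le_card_of_injective (fun x : A =>
    ((⟨φ x, hB x x.2⟩ : B), (⟨(Function.invFunOn φ (A : Set G) (φ x))⁻¹ * x,
      hK _ (hr x x.2).1 x x.2 (hr x x.2).2⟩ : K))) ?_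
  intro a b e
  have e1 : φ a = φ b := congrArg (fun p : B × K => (p.1 : G)) e
  have e2 := congrArg (fun p : B × K => (p.2 : G)) e
  simp only [e1] at e2
  exact Subtype.ext (mul_left_cancel e2)

/-- A map to a set with two elements. -/
theorem card_le_two {A K : Subgroup G} [Finite K] (p : G → Prop)
    (hK : ∀ x ∈ A, ∀ y ∈ A, (p x ↔ p y) → x⁻¹ * y ∈ K) : Nat.card A ≤ 2 * Nat.card K := by
  classical
  have hr : ∀ x : A, ∃ r ∈ A, (p r ↔ p x) ∧ ∀ y : A, (p x ↔ p y) → r = Function.invFunOn (fun a => decide (p a)) (A : Set G) (decide (p y)) := by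
    intro x
    obtain ⟨h1, h2⟩ := Function.invFunOn_pos (f := fun a => decide (p a)) (s := (A : Set G))
      ⟨(x : G), x.2, rfl⟩
    refine ⟨_, h1, decide_eq_decide.1 h2, fun y hy => ?_⟩
    simp only [decide_eq_decide.2 hy]
  choose r hrA hrp hreq using hr
  rw [show 2 * Nat.card K = Nat.card (Bool × K) by rw [Nat.card_prod, show Nat.card Bool = 2 by simp]]
  refine Nat.card_le_card_of_injective (fun x : A =>
    (decide (p x), (⟨(r x)⁻¹ * x, hK _ (hrA x) x x.2 (hrp x)⟩ : K))) ?_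
  intro a b e
  have e1 : decide (p (a : G)) = decide (p (b : G)) := congrArg Prod.fst e
  have e2 := congrArg (fun q : Bool × K => (q.2 : G)) e
  simp only [(hreq a b (decide_eq_decide.1 e1)), (hreq b b Iff.rfl)] at e2
  exact Subtype.ext (mul_left_cancel e2)

/-- A `2`-group fixes a nontrivial involution of a subgroup of it that it normalizes. -/
theorem exists_central {S W : Subgroup G} [Finite S] (hS : IsPGroup 2 S) (hWS : W ≤ S) (hW : W ≠ ⊥)
    (hn : ∀ s ∈ S, ∀ w ∈ W, s * w * s⁻¹ ∈ W) :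
    ∃ w ∈ W, w ≠ 1 ∧ w * w = 1 ∧ ∀ s ∈ S, s * w = w * s := by
  haveI : Fact (Nat.Prime 2) := ⟨Nat.prime_two⟩
  let C : Subgroup G := W ⊓ Subgroup.centralizer (S : Set G)
  haveI : Finite W := Finite.of_injective _ (Subgroup.inclusion_injective hWS)
  haveI : Finite C := Finite.of_injective _ (Subgroup.inclusion_injective (inf_le_left : C ≤ W))
  have hne : C ≠ ⊥ := by
    letI : MulAction S W :=
      { smul := fun s w => ⟨s * w * (s : G)⁻¹, hn s s.2 w w.2⟩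
        one_smul := fun w => Subtype.ext (show (1 : G) * w * (1 : G)⁻¹ = w by simp)
        mul_smul := fun s t w => Subtype.ext
          (show (s * t : G) * w * (s * t : G)⁻¹ = s * (t * w * (t : G)⁻¹) * (s : G)⁻¹ by group) }
    obtain ⟨k, hk⟩ := IsPGroup.iff_card.1 (hS.to_le hWS)
    have hk0 : k ≠ 0 := by
      rintro rfl
      exact hW (Subgroup.card_eq_one.1 (hk.trans (pow_zero 2)))
    obtain ⟨w, hw, hne⟩ := hS.exists_fixed_point_of_prime_dvd_card_of_fixed_point W (a := 1)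
      (hk ▸ dvd_pow_self 2 hk0) (fun s => Subtype.ext (show (s : G) * 1 * (s : G)⁻¹ = 1 by simp))
    intro h
    refine hne (Subtype.ext (Eq.symm ?_))
    have : (w : G) ∈ C := ⟨w.2, Subgroup.mem_centralizer_iff.2 fun s hs =>
      mul_inv_eq_iff_eq_mul.1 (congrArg Subtype.val (hw ⟨s, hs⟩))⟩
    rw [h, Subgroup.mem_bot] at this
    exact this
  obtain ⟨k, hk⟩ := IsPGroup.iff_card.1 (hS.to_le (inf_le_left.trans hWS : C ≤ S))
  have hk0 : k ≠ 0 := by
    rintro rfl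
    exact hne (Subgroup.card_eq_one.1 (hk.trans (pow_zero 2)))
  obtain ⟨w, hw⟩ := exists_prime_orderOf_dvd_card' 2 (hk ▸ dvd_pow_self 2 hk0)
  refine ⟨w, w.2.1, fun h => ?_, ?_, fun s hs => Subgroup.mem_centralizer_iff.1 w.2.2 s hs⟩
  · rw [show w = 1 from Subtype.ext h, orderOf_one] at hw
    omega
  · have h := pow_orderOf_eq_one w
    rw [hw, pow_two] at h
    exact congrArg Subtype.val h

variable {X : Data G}

theorem Tv_finite (v w : X.Vtx) : Finite (X.Tv v w) :=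
  haveI := X.St_finite v
  Finite.of_injective _ (Subgroup.inclusion_injective (inf_le_left : X.Tv v w ≤ X.St v))

theorem exists_nbr (v : X.Vtx) : ∃ w, X.Adj v w := by
  obtain ⟨i, g, rfl⟩ := X.exists_vtx v
  exact ⟨X.vtx (!i) g, g, i, rfl, rfl⟩

theorem Qv_fix {v w : X.Vtx} (h : X.Adj v w) {q : G} (hq : q ∈ X.Qv v) : X.act q w = w :=
  mem_St_iff.1 (Qv_le_St_nbr h hq)

theorem Qv_le_St (v : X.Vtx) : X.Qv v ≤ X.St v := by
  obtain ⟨w, hw⟩ := exists_nbr v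
  exact (Qv_le_Tv hw).trans inf_le_left

theorem finite_le_St {v : X.Vtx} {H : Subgroup G} (h : H ≤ X.St v) : Finite H :=
  haveI := X.St_finite v
  Finite.of_injective _ (Subgroup.inclusion_injective h)

theorem Qv_finite (v : X.Vtx) : Finite (X.Qv v) := finite_le_St (Qv_le_St v)

theorem act_inj {a : G} {v w : X.Vtx} (h : X.act a v = X.act a w) : v = w := by
  have := congrArg (X.act a⁻¹) h
  rwa [act_act, act_act, inv_mul_cancel, act_one, act_one] at this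

theorem adj_act_fix {v w : X.Vtx} (h : X.Adj v w) {a : G} (ha : a ∈ X.St v) : X.Adj v (X.act a w) := by
  have := adj_act h a
  rwa [mem_St_iff.1 ha] at this

theorem mem_St_act {a t : G} {v : X.Vtx} : t ∈ X.St (X.act a v) ↔ a⁻¹ * t * a ∈ X.St v := by
  rw [St_act, mem_cnj]

theorem card_cnj (g : G) (H : Subgroup G) : Nat.card (cnj g H) = Nat.card H :=
  (Nat.card_congr (H.equivMapOfInjective _ (MulAut.conj g).injective).toEquiv).symm

theorem card_Tv {v w : X.Vtx} (h : X.Adj v w) : Nat.card (X.Tv v w) = Nat.card X.T := by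
  obtain ⟨g, i, rfl, rfl⟩ := h
  rw [Tv_vtx, card_cnj]

theorem Tv_pgroup {v w : X.Vtx} (h : X.Adj v w) : IsPGroup 2 (X.Tv v w) := by
  obtain ⟨g, i, rfl, rfl⟩ := h
  rw [Tv_vtx]
  exact X.pgroup.map _

theorem card_T_Qv {v w : X.Vtx} (h : X.Adj v w) : Nat.card X.T = 2 * Nat.card (X.Qv v) := by
  haveI := Tv_finite v w
  rw [← card_Tv h]
  exact card_eq_two_mul (Qv_le_Tv h) (Qv_proper h) fun a ha b hb => Qv_two h ha hb

theorem sq_mem {v w : X.Vtx} (h : X.Adj v w) {t : G} (ht : t ∈ X.Tv v w) : t * t ∈ X.Qv v := by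
  by_cases htQ : t ∈ X.Qv v
  · exact mul_mem htQ htQ
  · have := Qv_two h (inv_mem ht) ht (fun e => htQ (by simpa using inv_mem e)) htQ
    rwa [inv_inv] at this

variable (h3 : X.Three)
include h3

theorem nbr_card {v w : X.Vtx} (h : X.Adj v w) : Nat.card {u // X.Adj v u} = 3 := by
  obtain ⟨g, i, rfl, rfl⟩ := h
  have hpi : ∀ p ∈ X.P i, X.Adj (X.vtx i g) (X.vtx (!i) (g * p)) := fun p hp =>
    ⟨g * p, i, by
      have e := (act_vtx_eq_iff (X := X) i g (g * p * g⁻¹)).2 (cnj_conj_mem.2 hp)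
      rw [act_vtx, inv_mul_cancel_right] at e
      exact e.symm, rfl⟩
  have key : ∀ p q : X.P i, (X.vtx (!i) (g * p) = X.vtx (!i) (g * q)) ↔ p⁻¹ * q ∈ X.T.subgroupOf (X.P i) := by
    intro p q
    rw [Subgroup.mem_subgroupOf]
    constructor
    · intro e
      have h1 : ((g * p : G) : G ⧸ X.P (!i)) = ((g * q : G) : G ⧸ X.P (!i)) := eq_of_heq (Sigma.mk.inj_iff.1 e).2
      rw [QuotientGroup.eq, show (g * (p : G))⁻¹ * (g * q) = (p : G)⁻¹ * q by group] at h1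
      have h2 : ((p : G)⁻¹ * q) ∈ X.P i := mul_mem (inv_mem p.2) q.2
      rw [← X.inf_eq]
      cases i
      · exact ⟨h2, h1⟩
      · exact ⟨h1, h2⟩
    · intro e
      refine Sigma.ext rfl (heq_of_eq ?_)
      show ((g * p : G) : G ⧸ X.P (!i)) = ((g * q : G) : G ⧸ X.P (!i))
      rw [QuotientGroup.eq, show (g * (p : G))⁻¹ * (g * q) = (p : G)⁻¹ * q by group]
      exact (X.dih (!i)).T_le e
  rw [← h3 i]
  refine (Nat.card_eq_of_bijective
    (Quotient.lift (fun p : X.P i => (⟨_, hpi p p.2⟩ : {u // X.Adj (X.vtx i g) u}))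
      (fun p q hpq => Subtype.ext ((key p q).2 (QuotientGroup.leftRel_apply.1 hpq)))) ⟨?_, ?_⟩).symm
  · rintro ⟨p⟩ ⟨q⟩ e
    exact QuotientGroup.eq.2 ((key p q).1 (congrArg Subtype.val e))
  · rintro ⟨u, hu⟩
    obtain ⟨a, ha, rfl⟩ := exists_act_nbr (w := X.vtx (!i) g) ⟨g, i, rfl, rfl⟩ hu
    rw [St_vtx, mem_cnj] at ha
    refine ⟨QuotientGroup.mk (⟨_, ha⟩ : X.P i), Subtype.ext ?_⟩
    show X.vtx (!i) (g * (g⁻¹ * a * g)) = X.vtx (!i) (a * g)
    exact congrArg _ (by group)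

theorem exists_other {v w : X.Vtx} (h : X.Adj v w) : ∃ u, X.Adj v u ∧ u ≠ w := by
  by_contra hc
  push Not at hc
  haveI : Subsingleton {u // X.Adj v u} := ⟨fun a b => Subtype.ext ((hc a a.2).trans (hc b b.2).symm)⟩
  have := Nat.card_of_subsingleton (⟨w, h⟩ : {u // X.Adj v u})
  rw [nbr_card h3 h] at this
  omega

theorem third {v w w' : X.Vtx} (h : X.Adj v w) (h' : X.Adj v w') (hne : w' ≠ w) :
    ∃ u, X.Adj v u ∧ u ≠ w ∧ u ≠ w' ∧ ∀ x, X.Adj v x → x = w ∨ x = w' ∨ x = u := by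
  classical
  haveI : Finite {u // X.Adj v u} := Nat.finite_of_card_ne_zero (by rw [nbr_card h3 h]; omega)
  haveI := Fintype.ofFinite {u // X.Adj v u}
  obtain ⟨a, b, c, hab, hac, hbc, he⟩ := Finset.card_eq_three.1
    (show (Finset.univ : Finset {u // X.Adj v u}).card = 3 by
      rw [Finset.card_univ, ← Nat.card_eq_fintype_card, nbr_card h3 h])
  have hall : ∀ x : {u // X.Adj v u}, x = a ∨ x = b ∨ x = c := fun x => by
    have := Finset.mem_univ x
    rw [he] at this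
    simpa using this
  have hw := hall ⟨w, h⟩
  have hw' := hall ⟨w', h'⟩
  have hne' : (⟨w', h'⟩ : {u // X.Adj v u}) ≠ ⟨w, h⟩ := fun e => hne (congrArg Subtype.val e)
  obtain ⟨u, hu1, hu2⟩ : ∃ u : {u // X.Adj v u}, u ≠ ⟨w, h⟩ ∧ u ≠ ⟨w', h'⟩ := by
    rcases hw with e1 | e1 | e1 <;> rcases hw' with e2 | e2 | e2 <;> rw [e1, e2] at hne' ⊢
    exacts [absurd rfl hne', ⟨c, hac.symm, hbc.symm⟩, ⟨b, hab.symm, hbc⟩, ⟨c, hbc.symm, hac.symm⟩,
      absurd rfl hne', ⟨a, hab, hac⟩, ⟨b, hbc, hab.symm⟩, ⟨a, hac, hab⟩, absurd rfl hne']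
  refine ⟨u, u.2, fun e => hu1 (Subtype.ext e), fun e => hu2 (Subtype.ext e), fun x hx => ?_⟩
  have h1 := hall ⟨x, hx⟩
  have h2 := hall u
  have : (⟨x, hx⟩ : {u // X.Adj v u}) = ⟨w, h⟩ ∨ (⟨x, hx⟩ : {u // X.Adj v u}) = ⟨w', h'⟩ ∨
      (⟨x, hx⟩ : {u // X.Adj v u}) = u := by
    rcases hw with e1 | e1 | e1 <;> rcases hw' with e2 | e2 | e2 <;> rcases h2 with e3 | e3 | e3 <;>
      rcases h1 with e4 | e4 | e4 <;> simp_all
  rcases this with e | e | e
  exacts [Or.inl (congrArg Subtype.val e), Or.inr (Or.inl (congrArg Subtype.val e)),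
    Or.inr (Or.inr (congrArg Subtype.val e))]

omit h3 in
/-- A reflection fixing a neighbour moves every other one. -/
theorem move {v w w' : X.Vtx} (h : X.Adj v w) (h' : X.Adj v w') (hne : w' ≠ w) {t : G} (ht : t ∈ X.Tv v w)
    (htQ : t ∉ X.Qv v) : X.act t w' ≠ w' :=
  fun e => hne (eq_of_fix h h' ht htQ ⟨ht.1, mem_St_iff.2 e⟩)

/-- A reflection exchanges the other two neighbours. -/
theorem swap {v w w' w'' : X.Vtx} (h : X.Adj v w) (h' : X.Adj v w') (h'' : X.Adj v w'') (hne : w' ≠ w)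
    (hne' : w'' ≠ w) (hne'' : w'' ≠ w') {t : G} (ht : t ∈ X.Tv v w) (htQ : t ∉ X.Qv v) :
    X.act t w' = w'' := by
  obtain ⟨u, -, -, -, hall⟩ := third h3 h h' hne
  have e2 := ((hall w'' h'').resolve_left hne').resolve_left hne''
  subst e2
  rcases hall _ (adj_act_fix h' ht.1) with e | e | e
  · exact absurd (act_inj (e.trans (mem_St_iff.1 ht.2).symm)) hne
  · exact absurd e (move h h' hne ht htQ)
  · exact e

omit h3 in
/-- Fixing two neighbours puts an element in the core. -/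
theorem mem_Qv_of_fix {v w w' : X.Vtx} (h : X.Adj v w) (h' : X.Adj v w') (hne : w' ≠ w) {t : G}
    (ht : t ∈ X.St v) (e : X.act t w = w) (e' : X.act t w' = w') : t ∈ X.Qv v := by
  by_contra htQ
  exact move h h' hne ⟨ht, mem_St_iff.2 e⟩ htQ e'

/-- An edge group and an element moving the edge generate the stabiliser. -/
theorem gen {v w : X.Vtx} (h : X.Adj v w) {H : Subgroup G} (hT : X.Tv v w ≤ H) {q : G} (hq : q ∈ X.St v)
    (hmv : X.act q w ≠ w) (hqH : q ∈ H) : X.St v ≤ H :=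
  Tv_gen h3 h hq (fun hh => hmv (mem_St_iff.1 hh.2)) hT hqH

omit h3 in
/-- An element of the neighbouring core outside the core. -/
theorem exists_refl {v w : X.Vtx} (h : X.Adj v w) : ∃ t, t ∈ X.Qv w ∧ t ∈ X.Tv v w ∧ t ∉ X.Qv v := by
  obtain ⟨t, ht, htQ⟩ := SetLike.not_le_iff_exists.1 (Qv_not_le (adj_symm h))
  exact ⟨t, ht, by rw [Tv_comm]; exact Qv_le_Tv (adj_symm h) ht, htQ⟩

/-- Two edge groups at a vertex generate the stabiliser. -/
theorem gen_two {v w w' : X.Vtx} (h : X.Adj v w) (h' : X.Adj v w') (hne : w' ≠ w) {H : Subgroup G}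
    (hT : X.Tv v w ≤ H) (hT' : X.Tv v w' ≤ H) : X.St v ≤ H := by
  obtain ⟨t, -, ht, htQ⟩ := exists_refl h'
  exact gen h3 h hT ht.1 (move h' h hne.symm ht htQ) (hT' ht)

/-- A subgroup in an edge group normalized by both edge groups at each end is trivial. -/
theorem bot_of_gen {v w v' w' : X.Vtx} (h : X.Adj v w) (h' : X.Adj v w') (hne : w' ≠ w)
    (hv' : X.Adj w v') (hne' : v' ≠ v) {N : Subgroup G} (hN : N ≤ X.Tv v w)
    (h1 : ∀ t ∈ X.Tv v w, ∀ n ∈ N, t * n * t⁻¹ ∈ N) (h2 : ∀ t ∈ X.Tv v w', ∀ n ∈ N, t * n * t⁻¹ ∈ N)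
    (h3' : ∀ t ∈ X.Tv w v', ∀ n ∈ N, t * n * t⁻¹ ∈ N) : N = ⊥ := by
  haveI : Finite N := finite_le_St (hN.trans inf_le_left)
  have n1 : X.Tv v w ≤ Subgroup.normalizer (N : Set G) := fun t ht => mem_normalizer_of_finite (h1 t ht)
  have a := gen_two h3 h h' hne n1 (fun t ht => mem_normalizer_of_finite (h2 t ht))
  have b := gen_two h3 (adj_symm h) hv' hne' (by rw [Tv_comm]; exact n1)
    (fun t ht => mem_normalizer_of_finite (h3' t ht))
  exact edge_faithful h hN (fun g hg n hn => (Subgroup.mem_normalizer_iff.1 (a hg) n).1 hn)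
    (fun g hg n hn => (Subgroup.mem_normalizer_iff.1 (b hg) n).1 hn)

omit h3 in
/-- The elements of a core lying in all neighbouring cores. -/
def core (X : Data G) (v : X.Vtx) : Subgroup G where
  carrier := {q | q ∈ X.Qv v ∧ ∀ w, X.Adj v w → q ∈ X.Qv w}
  one_mem' := ⟨one_mem _, fun _ _ => one_mem _⟩
  mul_mem' := fun {a b} ha hb => ⟨mul_mem ha.1 hb.1, fun w hw => mul_mem (ha.2 w hw) (hb.2 w hw)⟩
  inv_mem' := fun {a} ha => ⟨inv_mem ha.1, fun w hw => inv_mem (ha.2 w hw)⟩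

omit h3 in
theorem core_le (v : X.Vtx) : core X v ≤ X.Qv v := fun _ h => h.1

omit h3 in
theorem core_normal {v : X.Vtx} {g q : G} (hg : g ∈ X.St v) (hq : q ∈ core X v) :
    g * q * g⁻¹ ∈ core X v := by
  refine ⟨Qv_normal hg hq.1, fun w hw => ?_⟩
  have h1 := hq.2 _ (adj_act_fix hw (inv_mem hg))
  rwa [Qv_act, mem_cnj, inv_inv] at h1

omit h3 in
/-- Two elements of the core on the same side of a neighbouring core. -/
theorem Qv_two' {v w : X.Vtx} (h : X.Adj v w) {a b : G} (ha : a ∈ X.Qv v) (hb : b ∈ X.Qv v)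
    (e : a ∈ X.Qv w ↔ b ∈ X.Qv w) : a⁻¹ * b ∈ X.Qv w := by
  by_cases hbw : b ∈ X.Qv w
  · exact mul_mem (inv_mem (e.2 hbw)) hbw
  · exact Qv_two (adj_symm h) ((Tv_comm v w) ▸ Qv_le_Tv h ha) ((Tv_comm v w) ▸ Qv_le_Tv h hb)
      (fun hh => hbw (e.1 hh)) hbw

theorem card_Qv_le (v : X.Vtx) : Nat.card (X.Qv v) ≤ 8 * Nat.card (core X v) := by
  obtain ⟨w, h⟩ := exists_nbr v
  obtain ⟨w', h', hne⟩ := exists_other h3 h
  obtain ⟨w'', h'', -, -, hall⟩ := third h3 h h' hne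
  haveI := Qv_finite v
  have f1 : Finite ↥(X.Qv v ⊓ X.Qv w) := finite_le_St (inf_le_left.trans (Qv_le_St v))
  have f2 : Finite ↥(X.Qv v ⊓ X.Qv w ⊓ X.Qv w') :=
    finite_le_St ((inf_le_left.trans inf_le_left).trans (Qv_le_St v))
  haveI : Finite (core X v) := finite_le_St ((core_le v).trans (Qv_le_St v))
  have a1 : Nat.card (X.Qv v) ≤ 2 * Nat.card ↥(X.Qv v ⊓ X.Qv w) :=
    card_le_two (· ∈ X.Qv w) fun a ha b hb e =>
      ⟨(X.Qv v).mul_mem ((X.Qv v).inv_mem ha) hb, Qv_two' h ha hb e⟩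
  have a2 : Nat.card ↥(X.Qv v ⊓ X.Qv w) ≤ 2 * Nat.card ↥(X.Qv v ⊓ X.Qv w ⊓ X.Qv w') :=
    card_le_two (· ∈ X.Qv w') fun a ha b hb e =>
      ⟨(X.Qv v ⊓ X.Qv w).mul_mem ((X.Qv v ⊓ X.Qv w).inv_mem ha) hb, Qv_two' h' ha.1 hb.1 e⟩
  have a3 : Nat.card ↥(X.Qv v ⊓ X.Qv w ⊓ X.Qv w') ≤ 2 * Nat.card (core X v) :=
    card_le_two (· ∈ X.Qv w'') fun a ha b hb e => by
      obtain ⟨⟨ha0, ha1⟩, ha2⟩ : (a ∈ X.Qv v ∧ a ∈ X.Qv w) ∧ a ∈ X.Qv w' := ha
      obtain ⟨⟨hb0, hb1⟩, hb2⟩ : (b ∈ X.Qv v ∧ b ∈ X.Qv w) ∧ b ∈ X.Qv w' := hb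
      refine ⟨mul_mem (inv_mem ha0) hb0, fun x hx => ?_⟩
      rcases hall x hx with rfl | rfl | rfl
      · exact mul_mem (inv_mem ha1) hb1
      · exact mul_mem (inv_mem ha2) hb2
      · exact Qv_two' h'' ha0 hb0 e
  omega

end Cfsg.Agent.LocalEven.Amalgam33
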