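import Cfsg.Agent.Lib.LocalEven.Amalgam33.One

/-!
# Amalgams of index (3, 3): even critical distance
-/

set_option autoImplicit false
set_option linter.style.haveILetI false

open Cfsg.Agent.Solv.Amalgam
open Cfsg.Agent.Solv.Amalgam.Data

namespace Cfsg.Agent.LocalEven.Amalgam33

universe u

variable {G : Type u} [Group G] {X : Data G} {i : Bool} {b : ℕ} (hM : Main X i) (hb : NearA X i b)
include hM hb

/-- An even critical walk is symmetric and its second and second last centre coincide. -/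
theorem Main.even_basic {f : ℕ → X.Vtx} (hbe : Even b) (hb2 : 2 ≤ b) (hf : CritA X i b f) :
    (∃ a ∈ X.Zv (f b), a ∈ X.Tv (f 0) (f 1) ∧ a ∉ X.Qv (f 0)) ∧ Nat.card (X.V (!i)) = 2 ∧
      X.Zv (f 1) = X.Zv (f (b - 1)) := by
  obtain ⟨hw, hα, hn⟩ := hf
  have hα' : (f b).1 = i := (type_of_even hw le_rfl hbe).trans hα
  have hadj : X.Adj (f 0) (f 1) := hw 0 (by omega)
  have hlast : X.Adj (f b) (f (b - 1)) := by
    have := hw (b - 1) (by omega)
    rw [show b - 1 + 1 = b by omega] at this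
    exact adj_symm this
  obtain ⟨a, ha, haQ⟩ := SetLike.not_le_iff_exists.1 hn
  have hfw : ∀ j, j ≤ b → ∀ z ∈ X.Zv (f 0), z ∈ X.St (f j) := fun j hj z hz =>
    hM.fix hb hj hα (by simpa using Reach.seg hw (Nat.zero_le j) hj) hz
  have hbw : ∀ j, j ≤ b → ∀ z ∈ X.Zv (f b), z ∈ X.St (f j) := fun j hj z hz =>
    hM.fix hb (n := b - j) (by omega) hα' (Reach.seg hw hj le_rfl).symm hz
  have haT : a ∈ X.Tv (f b) (f (b - 1)) := ⟨hfw b le_rfl a ha, hfw _ (by omega) a ha⟩
  obtain ⟨a', ha', ha'Q⟩ : ∃ a' ∈ X.Zv (f b), a' ∉ X.Qv (f 0) := by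
    refine SetLike.not_le_iff_exists.1 fun hle => haQ ?_
    exact hM.cent hlast hα' haT fun z hz => (hM.Zv_central ha (hle hz)).symm
  have ha'T : a' ∈ X.Tv (f 0) (f 1) := ⟨hbw 0 (by omega) a' ha', hbw 1 (by omega) a' ha'⟩
  have hc1 : a' * a * a'⁻¹ * a⁻¹ ∈ X.Zv (f 1) := hM.comm_mem' hadj hα ha ha'T
  have hcov : ∀ c ∈ X.Zv (f (b - 1)), c = 1 ∨ c = a' * a * a'⁻¹ * a⁻¹ := by
    intro c hc
    obtain ⟨β', hβ', hne⟩ := exists_other hM.three hlast
    obtain ⟨x, hx, rfl⟩ := (hM.structure_A hlast hβ' hne hα').2.2 a haT haQ c hc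
    have hxA := hM.Zv_mono hβ' hα' hx
    by_cases hxQ : x ∈ X.Qv (f 0)
    · exact Or.inl (by rw [hM.Zv_central ha hxQ]; group)
    · have h1 : a'⁻¹ * x ∈ X.Qv (f 0) :=
        Qv_two hadj ha'T ⟨hbw 0 (by omega) x hxA, hbw 1 (by omega) x hxA⟩ ha'Q hxQ
      refine Or.inr ?_
      calc x * a * x⁻¹ * a⁻¹ = a' * ((a'⁻¹ * x) * a) * (a'⁻¹ * x)⁻¹ * a'⁻¹ * a⁻¹ := by group
        _ = a' * (a * (a'⁻¹ * x)) * (a'⁻¹ * x)⁻¹ * a'⁻¹ * a⁻¹ := by rw [hM.Zv_central ha h1]
        _ = _ := by group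
  have hδ : (f (b - 1)).1 = !i := typeB hlast hα'
  haveI := hM.Zv_finite (f (b - 1))
  have hk : Nat.card (X.V (!i)) = 2 := by
    have h1 : Nat.card (X.Zv (f (b - 1))) ≤ 2 * Nat.card (⊥ : Subgroup G) :=
      card_le_two (· = 1) fun x hx y hy e => by
        rw [Subgroup.mem_bot]
        rcases hcov x hx with e1 | e1 <;> rcases hcov y hy with e2 | e2
        · rw [e1, e2]; group
        · rw [e1, e.1 e1]; group
        · rw [e2, e.2 e2]; group
        · rw [e1, e2]; group
    rw [Subgroup.card_bot, hM.card_B hδ] at h1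
    have := hM.one_lt_card
    omega
  refine ⟨⟨a', ha', ha'T, ha'Q⟩, hk, ?_⟩
  obtain ⟨z, hz, hz1⟩ := hM.exists_ne hδ
  rcases hcov z hz with e | e
  · exact absurd e hz1
  exact le_antisymm (hM.B_le hk (typeB hadj hα) (e.symm ▸ hc1) hz1 hz) (hM.B_le hk hδ hz hz1 (e.symm ▸ hc1))

/-- An even critical distance is two. -/
theorem Main.even_le_two {f : ℕ → X.Vtx} (hbe : Even b) (hb4 : 4 ≤ b) (hf : CritA X i b f) : False := by
  obtain ⟨⟨a', ha', ha'T, ha'Q⟩, hk, hz⟩ := hM.even_basic hb hbe (by omega) hf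
  have hnb := hf.nb hb
  obtain ⟨hw, hα, hn⟩ := hf
  have hα' : (f b).1 = i := (type_of_even hw le_rfl hbe).trans hα
  have hadj : X.Adj (f 0) (f 1) := hw 0 (by omega)
  have hlast : X.Adj (f b) (f (b - 1)) := by
    have := hw (b - 1) (by omega)
    rw [show b - 1 + 1 = b by omega] at this
    exact adj_symm this
  have hA2 : (f (b - 2)).1 = i := (type_of_even hw (by omega)
    (by obtain ⟨m, rfl⟩ := hbe; exact ⟨m - 1, by omega⟩)).trans hα
  have h21 : X.Adj (f (b - 2)) (f (b - 1)) := by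
    have := hw (b - 2) (by omega)
    rwa [show b - 2 + 1 = b - 1 by omega] at this
  have h23 : X.Adj (f (b - 2)) (f (b - 3)) := by
    have := hw (b - 3) (by omega)
    rw [show b - 3 + 1 = b - 2 by omega] at this
    exact adj_symm this
  have hne13 : f (b - 1) ≠ f (b - 3) := by
    have := hnb.2 (b - 3) (by omega)
    rw [show b - 3 + 2 = b - 1 by omega] at this
    exact this.symm
  obtain ⟨β', hβ', hβ'ne⟩ := exists_other hM.three hadj
  have hβ'B := typeB hβ' hα
  -- the neighbours of `β'` stay in the core two steps before the end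
  have hii : ∀ ν, X.Adj β' ν → X.Zv ν ≤ X.Qv (f (b - 2)) := by
    intro ν hν
    by_contra hnle
    have hwh : X.Walk (X.cons ν (X.cons β' f)) b :=
      walk_le (walk_cons (adj_symm hν) (walk_cons (adj_symm hβ') hw)) (by omega)
    have hend : ∀ j, X.cons ν (X.cons β' f) (j + 2) = f j := fun j => rfl
    have hcr : CritA X i b (X.cons ν (X.cons β' f)) := ⟨hwh, typeA hν hβ'B, by
      rw [show b = b - 2 + 2 by omega, hend]; exact hnle⟩
    have h1 := (hM.even_basic hb hbe (by omega) hcr).2.2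
    rw [show b - 1 = b - 3 + 2 by omega, hend] at h1
    change X.Zv β' = _ at h1
    refine hn ((hM.Zv_le_of_two hadj hβ' hβ'ne hα ?_ ?_).trans
      (hb (f (b - 2)) (f b) 2 (by omega) hA2 ((Reach.seg hw (Nat.sub_le b 2) le_rfl).cast (by omega))))
    · rw [hz]; exact hM.Zv_mono h21 hA2
    · rw [h1]; exact hM.Zv_mono h23 hA2
  have hfix : ∀ ν, X.Adj β' ν → ∀ z ∈ X.Zv ν, ∀ j ≤ b - 1, z ∈ X.St (f j) := by
    intro ν hν z hz' j hj
    rcases Nat.lt_or_ge j (b - 1) with hj' | hj'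
    · exact hM.fix hb (n := 2 + j) (by omega) (typeA hν hβ'B)
        ((Reach.two (adj_symm hν) (adj_symm hβ')).trans (by simpa using Reach.seg hw (Nat.zero_le j) (by omega))) hz'
    · rw [show j = b - 1 by omega]
      exact Qv_le_St_nbr h21 (hii ν hν hz')
  -- the module spanned around `β'` moves the end
  obtain ⟨ν, hν, x, hx, hxmv⟩ : ∃ ν, X.Adj β' ν ∧ ∃ x ∈ X.Zv ν, X.act x (f b) ≠ f b := by
    by_contra hcon
    push Not at hcon
    set V : Subgroup G := Subgroup.closure {z | ∃ ν, X.Adj β' ν ∧ z ∈ X.Zv ν} with hV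
    have hVQ : V ≤ X.Qv β' := by
      rw [hV, Subgroup.closure_le]
      rintro z ⟨ν, hν, hz'⟩
      exact hb ν β' 1 (by omega) (typeA hν hβ'B) (Reach.one (adj_symm hν)) hz'
    haveI : Finite V := finite_le_St (hVQ.trans (Qv_le_St β'))
    have hconj : ∀ p, (∀ ν, X.Adj β' ν → ∀ z ∈ X.Zv ν, p * z * p⁻¹ ∈ V) → p ∈ Subgroup.normalizer (V : Set G) := by
      intro p hp
      refine mem_normalizer_of_finite fun v hv => ?_
      refine (Subgroup.closure_le (V.comap (MulAut.conj p).toMonoidHom)).2 ?_ hv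
      rintro z ⟨ν, hν, hz'⟩
      exact hp ν hν z hz'
    have hSt : X.St β' ≤ Subgroup.normalizer (V : Set G) := fun p hp => hconj p fun ν hν z hz' =>
      Subgroup.subset_closure ⟨X.act p ν, adj_act_fix hν hp, by rw [Zv_act]; exact cnj_conj_mem.2 hz'⟩
    have ha'n : a' ∈ Subgroup.normalizer (V : Set G) := hconj a' fun ν hν z hz' => by
      have hzT : z ∈ X.Tv (f b) (f (b - 1)) := ⟨mem_St_iff.2 (hcon ν hν z hz'), hfix ν hν z hz' _ le_rfl⟩
      have h1 := hM.comm_mem hlast hα' ha' hzT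
      rw [← hz] at h1
      rw [show a' * z * a'⁻¹ = (a' * z * a'⁻¹ * z⁻¹) * z by group]
      exact mul_mem (Subgroup.subset_closure ⟨f 0, adj_symm hβ', hM.Zv_mono hadj hα h1⟩)
        (Subgroup.subset_closure ⟨ν, hν, hz'⟩)
    have hStα : X.St (f 0) ≤ Subgroup.normalizer (V : Set G) :=
      gen hM.three hβ' ((inf_le_right : X.Tv (f 0) β' ≤ X.St β').trans hSt) ha'T.1
        (move hadj hβ' hβ'ne ha'T ha'Q) ha'n
    have hbot : V = ⊥ := edge_faithful hβ'
      (by rw [Tv_comm]; exact hVQ.trans (Qv_le_Tv (adj_symm hβ')))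
      (fun p hp n hn => (Subgroup.mem_normalizer_iff.1 (hStα hp) n).1 hn)
      (fun p hp n hn => (Subgroup.mem_normalizer_iff.1 (hSt hp) n).1 hn)
    obtain ⟨z, hz', hz1⟩ := hM.exists_ne hβ'B
    have : z ∈ V := Subgroup.subset_closure ⟨f 0, adj_symm hβ', hM.Zv_mono hβ' hα hz'⟩
    rw [hbot, Subgroup.mem_bot] at this
    exact hz1 this
  -- transitivity
  have hg : NB X (X.cons β' f) (b + 1) := hnb.cons (adj_symm hβ') hβ'ne
  have hgt : ∀ k ≤ b + 1, Even k → (X.cons β' f k).1 = !i := fun k hk' he =>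
    (type_of_even hg.1 hk' he).trans hβ'B
  have htr : ∀ m, m ≤ b - 2 → Trans X (!i) m := by
    intro m
    induction m using Nat.strong_induction_on with
    | _ m ih =>
      intro hm
      rcases m with _ | _ | _ | m
      · exact trans_zero _
      · exact trans_one _
      · exact trans_two hM.three _
      have hprev : Trans X (!i) (m + 2) := ih _ (by omega) (by omega)
      rcases Nat.even_or_odd (m + 3) with he | ho
      · refine trans_step_rev hM.three hprev hg 0 (by omega) (hgt _ (by omega) (by simpa using he))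
          (u := a') (fun k hk1 hk2 => ?_) (move hadj hβ' hβ'ne ha'T ha'Q)
        obtain ⟨k, rfl⟩ := Nat.exists_eq_add_of_le' hk1
        exact hM.fix_act hb (n := b - k) (by omega) hα' (Reach.seg hw (by omega) le_rfl).symm ha'
      · refine trans_step hM.three hprev hg (b + 1 - (m + 3)) (by omega) (hgt _ (by omega) ?_)
          (u := x) (fun k _ hk2 => ?_) ?_
        · rw [Nat.even_iff] at hbe ⊢
          rw [Nat.odd_iff] at ho
          omega
        · rcases k with _ | k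
          · exact hM.fix_act hb (n := 1) (by omega) (typeA hν hβ'B) (Reach.one (adj_symm hν)) hx
          · exact mem_St_iff.1 (hfix ν hν x hx k (by omega))
        · rw [show b + 1 - (m + 3) + (m + 1 + 2) = b + 1 by omega]
          exact hxmv
  -- siblings
  obtain ⟨δ', hδ', hd1, hd2, -⟩ := third hM.three h23 h21 hne13
  obtain ⟨m, rfl⟩ : ∃ m, b = m + 4 := ⟨b - 4, by omega⟩
  simp only [show m + 4 - 1 = m + 3 by omega, show m + 4 - 2 = m + 2 by omega,
    show m + 4 - 3 = m + 1 by omega] at hz h21 h23 hδ' hd1 hd2 hA2 htr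
  have hs : NB X (fun k => f (1 + k)) (m + 2) := hnb.shift 1 (m + 2) (by omega)
  have hs' := hs.set_last (x := δ') (n := m) (by rw [show 1 + (m + 1) = m + 2 by omega]; exact hδ')
    (by rw [Nat.add_comm 1 m]; exact hd1)
  have hβ1 : (f (1 + 0)).1 = !i := typeB hadj hα
  obtain ⟨a, ha⟩ := htr (m + 2) le_rfl _ _ hs hs' hβ1 (by rw [if_neg (by omega)]; exact hβ1)
  have e0 : X.act a (f 1) = f 1 := by simpa using ha 0 (by omega)
  have e2 : X.act a (f (m + 3)) = δ' := by
    have := ha (m + 2) le_rfl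
    simp only [if_true, show 1 + (m + 2) = m + 3 by omega] at this
    exact this
  have h1 : X.Zv δ' = X.Zv (f 1) := by rw [← e2, Zv_act, ← hz, ← Zv_act, e0]
  obtain ⟨z, hz', hz1⟩ := hM.exists_ne (typeB hadj hα)
  exact hz1 (hM.inter h21 hδ' hd2 hA2 (hz ▸ hz') (h1.symm ▸ hz'))

end Cfsg.Agent.LocalEven.Amalgam33
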