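import Cfsg.Agent.Lib.LocalEven.Amalgam33.Rot

/-!
# Amalgams of index (3, 3): the module at a vertex of the centralizing side
-/

set_option autoImplicit false
set_option linter.style.haveILetI false

open Cfsg.Agent.Solv.Amalgam
open Cfsg.Agent.Solv.Amalgam.Data

namespace Cfsg.Agent.LocalEven.Amalgam33

universe u

variable {G : Type u} [Group G]

/-- The module spanned by the modules of the neighbours. -/
noncomputable def Vb (X : Data G) (v : X.Vtx) : Subgroup G :=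
  Subgroup.closure {z | ∃ ν, X.Adj v ν ∧ z ∈ X.Zv ν}

/-- Products of noncentral elements of the modules of two neighbours other than the given one. -/
def Pair (X : Data G) (σ η : X.Vtx) : Set G :=
  {p | ∃ η₁ η₂, X.Adj σ η₁ ∧ X.Adj σ η₂ ∧ η₁ ≠ η ∧ η₂ ≠ η ∧ η₂ ≠ η₁ ∧
    ∃ x ∈ X.Zv η₁, ∃ y ∈ X.Zv η₂, x ∉ X.Zv σ ∧ y ∉ X.Zv σ ∧ p = x * y}

/-- The coset of the module of the given neighbour containing the pair products. -/
def Cos (X : Data G) (σ η : X.Vtx) : Set G := {s | ∃ p ∈ Pair X σ η, ∃ w ∈ X.Zv η, s = p * w}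

/-- The modules at the vertices of the centralizing side are natural. -/
def Natural (X : Data G) (i : Bool) : Prop :=
  ∀ σ η, σ.1 = !i → X.Adj σ η → ∀ p ∈ Pair X σ η, p ∈ X.Zv η

variable {X : Data G} {i : Bool}

theorem mem_Vb {v ν : X.Vtx} (h : X.Adj v ν) {z : G} (hz : z ∈ X.Zv ν) : z ∈ Vb X v :=
  Subgroup.subset_closure ⟨ν, h, hz⟩

theorem Vb_normal {v : X.Vtx} {g x : G} (hg : g ∈ X.St v) (hx : x ∈ Vb X v) : g * x * g⁻¹ ∈ Vb X v := by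
  refine (Subgroup.closure_le ((Vb X v).comap (MulAut.conj g).toMonoidHom)).2 ?_ hx
  rintro z ⟨ν, hν, hz⟩
  exact mem_Vb (adj_act_fix hν hg) (by rw [Zv_act]; exact cnj_conj_mem.2 hz)

theorem Pair_sub {σ η : X.Vtx} {p : G} (hp : p ∈ Pair X σ η) : p ∈ Vb X σ := by
  obtain ⟨η₁, η₂, h1, h2, -, -, -, x, hx, y, hy, -, -, rfl⟩ := hp
  exact mul_mem (mem_Vb h1 hx) (mem_Vb h2 hy)

theorem Pair_act {σ η : X.Vtx} (g : G) {p : G} (hp : p ∈ Pair X σ η) :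
    g * p * g⁻¹ ∈ Pair X (X.act g σ) (X.act g η) := by
  obtain ⟨η₁, η₂, h1, h2, n1, n2, n12, x, hx, y, hy, hx', hy', rfl⟩ := hp
  refine ⟨X.act g η₁, X.act g η₂, adj_act h1 g, adj_act h2 g, fun e => n1 (act_inj e), fun e => n2 (act_inj e),
    fun e => n12 (act_inj e), g * x * g⁻¹, ?_, g * y * g⁻¹, ?_, ?_, ?_, by group⟩
  all_goals rw [Zv_act]
  exacts [cnj_conj_mem.2 hx, cnj_conj_mem.2 hy, fun h => hx' (cnj_conj_mem.1 h), fun h => hy' (cnj_conj_mem.1 h)]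

theorem Cos_act {σ η : X.Vtx} (g : G) {s : G} (hs : s ∈ Cos X σ η) :
    g * s * g⁻¹ ∈ Cos X (X.act g σ) (X.act g η) := by
  obtain ⟨p, hp, w, hw, rfl⟩ := hs
  exact ⟨g * p * g⁻¹, Pair_act g hp, g * w * g⁻¹, by rw [Zv_act]; exact cnj_conj_mem.2 hw, by group⟩

variable (hM : Main X i)
include hM

/-- Elements of order three with the same effect on a neighbour agree modulo the core. -/
theorem Main.rot_same {v w : X.Vtx} (h : X.Adj v w) {d e : G} (hd : d ∈ X.St v) (he : e ∈ X.St v)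
    (hd3 : d ^ 3 = 1) (he3 : e ^ 3 = 1) (hmv : X.act d w ≠ w) (heq : X.act e w = X.act d w) :
    d⁻¹ * e ∈ X.Qv v := by
  obtain ⟨a1, a2, n2, n1, hall⟩ := rot_cover hM.three h hd hd3 hmv
  have hy : d⁻¹ * e ∈ X.Tv v w :=
    ⟨(X.St v).mul_mem ((X.St v).inv_mem hd) he, mem_St_iff.2 (by rw [← act_act, heq, act_act, inv_mul_cancel, act_one])⟩
  by_contra hyQ
  have h1 : X.act (d⁻¹ * e) (X.act d w) = X.act (d * d) w := swap hM.three h a1 a2 hmv n2 n1 hy hyQ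
  have h2 : X.act e (X.act d w) = w := by
    have h2' := congrArg (X.act d) h1
    rwa [act_act d (d⁻¹ * e), mul_inv_cancel_left, act_act d (d * d), ← pow_three, hd3, act_one] at h2'
  have hee : X.act (e * e) w = w := by rw [← act_act, heq, h2]
  refine hmv (heq.symm.trans ?_)
  conv_lhs => rw [← hee]
  rw [act_act, ← pow_three, he3, act_one]

theorem Main.no_rot_aux {β α : X.Vtx} (h : X.Adj β α) {d t : G} (hd : d ∈ X.St β)
    (hd3 : d ^ 3 = 1) (hmv : X.act d α ≠ α) (ht : t ∈ X.St β) :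
    ∃ e, (e = d ∨ e = d⁻¹) ∧ e⁻¹ * (t * d * t⁻¹) ∈ X.Qv β := by
  have h3' : (t * d * t⁻¹) ^ 3 = 1 := by rw [conj_pow, hd3]; group
  have he : t * d * t⁻¹ ∈ X.St β := mul_mem (mul_mem ht hd) (inv_mem ht)
  obtain ⟨a1, a2, n2, n1, hall⟩ := rot_cover hM.three h hd hd3 hmv
  have hdi : d⁻¹ = d * d := inv_eq_of_mul_eq_one_right (by rw [← pow_three, hd3])
  have htmv : X.act (t * d * t⁻¹) α ≠ α := by
    intro e'
    have h1 : X.act d (X.act t⁻¹ α) = X.act t⁻¹ α := by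
      have := congrArg (X.act t⁻¹) e'
      rwa [act_act, show t⁻¹ * (t * d * t⁻¹) = d * t⁻¹ by group, ← act_act] at this
    rcases hall _ (adj_act_fix h (inv_mem ht)) with e | e | e <;> rw [e] at h1
    · exact hmv h1
    · exact hmv (act_inj h1)
    · rw [act_act, ← pow_three, hd3, act_one] at h1
      exact n2 h1.symm
  rcases hall _ (adj_act_fix h he) with e | e | e
  · exact absurd e htmv
  · exact ⟨d, Or.inl rfl, hM.rot_same h hd he hd3 h3' hmv e⟩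
  · refine ⟨d⁻¹, Or.inr rfl, hM.rot_same h (inv_mem hd) he (by rw [inv_pow, hd3, inv_one]) h3' ?_ ?_⟩
    · rw [hdi]; exact n2
    · rw [hdi]; exact e

variable {b : ℕ} (hb : NearA X i b) (hb3 : 3 ≤ b)
include hb hb3

theorem Main.Vb_le {β : X.Vtx} (hβ : β.1 = !i) : Vb X β ≤ X.Qv β := by
  rw [Vb, Subgroup.closure_le]
  rintro z ⟨ν, hν, hz⟩
  exact hb ν β 1 (by omega) (typeA hν hβ) (Reach.one (adj_symm hν)) hz

theorem Main.Vb_comm {β : X.Vtx} (hβ : β.1 = !i) {v w : G} (hv : v ∈ Vb X β) (hw : w ∈ Vb X β) :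
    v * w = w * v := by
  have key : ∀ z, (∃ ν, X.Adj β ν ∧ z ∈ X.Zv ν) → ∀ w ∈ Vb X β, z * w = w * z := by
    rintro z ⟨ν, hν, hz⟩ w hw
    induction hw using Subgroup.closure_induction with
    | mem y hy =>
      obtain ⟨ν', hν', hy⟩ := hy
      exact hM.comm_near hb (n := 2) (by omega) (typeA hν hβ) (Reach.two (adj_symm hν) hν') hz hy
    | one => simp
    | mul p q _ _ hp hq => exact (Commute.mul_right hp hq).eq
    | inv p _ hp => exact (Commute.inv_right hp).eq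
  induction hv using Subgroup.closure_induction with
  | mem z hz => exact key z hz w hw
  | one => simp
  | mul p q _ _ hp hq => exact (Commute.mul_left hp hq).eq
  | inv p _ hp => exact (Commute.inv_left hp).eq

theorem Main.Vb_sq {β : X.Vtx} (hβ : β.1 = !i) {v : G} (hv : v ∈ Vb X β) : v * v = 1 := by
  induction hv using Subgroup.closure_induction with
  | mem z hz =>
    obtain ⟨ν, -, hz⟩ := hz
    exact hM.Zv_sq hz
  | one => simp
  | mul p q hp' hq' hp hq =>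
    rw [show p * q * (p * q) = p * (q * p) * q by group, hM.Vb_comm hb hb3 hβ hq' hp',
      show p * (p * q) * q = p * p * (q * q) by group, hp, hq, one_mul]
  | inv p _ hp => rw [← mul_inv_rev, hp, inv_one]

theorem Main.Vb_inv {β : X.Vtx} (hβ : β.1 = !i) {v : G} (hv : v ∈ Vb X β) : v⁻¹ = v :=
  inv_eq_of_mul_eq_one_right (hM.Vb_sq hb hb3 hβ hv)

theorem Main.Vb_Q {β : X.Vtx} (hβ : β.1 = !i) {q v : G} (hq : q ∈ X.Qv β) (hv : v ∈ Vb X β) :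
    q * v * q⁻¹ * v⁻¹ ∈ X.Zv β := by
  have hSt : ∀ {x}, x ∈ Vb X β → x ∈ X.St β := fun hx => Qv_le_St β (hM.Vb_le hb hb3 hβ hx)
  induction hv using Subgroup.closure_induction with
  | mem z hz =>
    obtain ⟨ν, hν, hz⟩ := hz
    exact hM.comm_mem' (adj_symm hν) (typeA hν hβ) hz ((Tv_comm β ν) ▸ Qv_le_Tv hν hq)
  | one => simp
  | mul p r hp' hr' hp hr =>
    rw [show q * (p * r) * q⁻¹ * (p * r)⁻¹ =
      (q * p * q⁻¹ * p⁻¹) * (p * (q * r * q⁻¹ * r⁻¹) * p⁻¹) by group, hM.St_B_conj hβ (hSt hp') hr]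
    exact mul_mem hp hr
  | inv p hp' hp =>
    rw [show q * p⁻¹ * q⁻¹ * p⁻¹⁻¹ = p⁻¹ * (q * p * q⁻¹ * p⁻¹)⁻¹ * p⁻¹⁻¹ by group,
      hM.St_B_conj hβ (hSt (inv_mem hp')) (inv_mem hp)]
    exact inv_mem hp

omit hb hb3 in
theorem Main.core_cent {β : X.Vtx} {x v : G} (hx : x ∈ core X β) (hv : v ∈ Vb X β) : x * v * x⁻¹ = v := by
  induction hv using Subgroup.closure_induction with
  | mem z hz =>
    obtain ⟨ν, hν, hz⟩ := hz
    rw [hM.Zv_central hz (hx.2 ν hν), mul_inv_cancel_right]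
  | one => group
  | mul p q _ _ hp hq => rw [← conj_mul, hp, hq]
  | inv p _ hp => rw [← conj_inv, hp]

/-- No element of order three is normalized modulo the centralizer of the module. -/
theorem Main.no_rot {β α : X.Vtx} (h : X.Adj β α) (hβ : β.1 = !i) {d : G} (hd : d ∈ X.St β)
    (hd3 : d ^ 3 = 1) (hmv : X.act d α ≠ α)
    (hc : ∀ t ∈ X.Tv β α, ∃ e, (e = d ∨ e = d⁻¹) ∧ e⁻¹ * (t * d * t⁻¹) ∈ core X β) : False := by
  have hα := typeA h hβ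
  have hdi : d⁻¹ = d * d := inv_eq_of_mul_eq_one_right (by rw [← pow_three, hd3])
  have hVn : ∀ v ∈ Vb X β, d * v * d⁻¹ ∈ Vb X β := fun v hv => Vb_normal hd hv
  let W : Subgroup G :=
    { carrier := {v | v ∈ Vb X β ∧ v * (d * v * d⁻¹) * (d * (d * v * d⁻¹) * d⁻¹) = 1}
      one_mem' := ⟨one_mem _, by group⟩
      mul_mem' := fun {p q} hp hq => ⟨mul_mem hp.1 hq.1, by
        have c1 := hM.Vb_comm hb hb3 hβ hq.1 (hVn p hp.1)
        have c2 := hM.Vb_comm hb hb3 hβ (mul_mem hq.1 (hVn q hq.1)) (hVn _ (hVn p hp.1))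
        calc p * q * (d * (p * q) * d⁻¹) * (d * (d * (p * q) * d⁻¹) * d⁻¹)
            = p * (q * (d * p * d⁻¹)) * (d * q * d⁻¹) *
                ((d * (d * p * d⁻¹) * d⁻¹) * (d * (d * q * d⁻¹) * d⁻¹)) := by group
          _ = p * (d * p * d⁻¹) * ((q * (d * q * d⁻¹)) * (d * (d * p * d⁻¹) * d⁻¹)) *
                (d * (d * q * d⁻¹) * d⁻¹) := by rw [c1]; group
          _ = (p * (d * p * d⁻¹) * (d * (d * p * d⁻¹) * d⁻¹)) *
                (q * (d * q * d⁻¹) * (d * (d * q * d⁻¹) * d⁻¹)) := by rw [c2]; group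
          _ = 1 := by rw [hp.2, hq.2, one_mul]⟩
      inv_mem' := fun {p} hp => ⟨inv_mem hp.1, by rw [hM.Vb_inv hb hb3 hβ hp.1]; exact hp.2⟩ }
  have hWT : W ≤ X.Tv β α := fun v hv => Qv_le_Tv h (hM.Vb_le hb hb3 hβ hv.1)
  have hWn : ∀ t ∈ X.Tv β α, ∀ v ∈ W, t * v * t⁻¹ ∈ W := by
    intro t ht v hv
    refine ⟨Vb_normal ht.1 hv.1, ?_⟩
    obtain ⟨e, he, hx⟩ := hc t ht
    have key : ∀ u ∈ Vb X β, e * u * e⁻¹ = t * d * t⁻¹ * u * (t * d * t⁻¹)⁻¹ := fun u hu => by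
      conv_lhs => rw [← hM.core_cent hx hu]
      group
    set u := t * v * t⁻¹ with hu
    have hu' : u ∈ Vb X β := Vb_normal ht.1 hv.1
    have e1 : e * u * e⁻¹ = t * (d * v * d⁻¹) * t⁻¹ := by rw [key u hu', hu]; group
    have heS : e ∈ X.St β := by rcases he with rfl | rfl; exacts [hd, inv_mem hd]
    have e2 : e * (e * u * e⁻¹) * e⁻¹ = t * (d * (d * v * d⁻¹) * d⁻¹) * t⁻¹ := by
      rw [key _ (Vb_normal heS hu'), e1]; group
    have hfin : t * (v * (d * v * d⁻¹) * (d * (d * v * d⁻¹) * d⁻¹)) * t⁻¹ = 1 := by rw [hv.2]; group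
    rcases he with rfl | rfl
    · rw [e2, e1, hu, ← hfin]
      group
    · have hdd' : d⁻¹ * d⁻¹ = d := by rw [← mul_inv_rev, ← hdi, inv_inv]
      have f1 : d * u * d⁻¹ = t * (d * (d * v * d⁻¹) * d⁻¹) * t⁻¹ := by
        calc d * u * d⁻¹ = (d⁻¹ * d⁻¹) * u * (d⁻¹ * d⁻¹)⁻¹ := by rw [hdd']
          _ = d⁻¹ * (d⁻¹ * u * d⁻¹⁻¹) * d⁻¹⁻¹ := by simp only [mul_inv_rev, inv_inv, mul_assoc]
          _ = _ := e2
      have f2 : d * (d * u * d⁻¹) * d⁻¹ = t * (d * v * d⁻¹) * t⁻¹ := by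
        calc d * (d * u * d⁻¹) * d⁻¹ = (d * d) * u * (d * d)⁻¹ := by group
          _ = _ := by rw [← hdi]; exact e1
      rw [f2, f1, mul_assoc, ← hM.Vb_comm hb hb3 hβ (Vb_normal ht.1 (hVn v hv.1))
        (Vb_normal ht.1 (hVn _ (hVn v hv.1))), hu, ← hfin]
      group
  obtain ⟨β', hβ', hne⟩ := exists_other hM.three (adj_symm h)
  obtain ⟨z, hz, hz1⟩ := hM.exists_ne (typeB hβ' hα)
  have hzA := hM.Zv_mono hβ' hα hz
  have hzV := mem_Vb h hzA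
  have hW : W ≠ ⊥ := by
    intro hbot
    have hmem : z * (d * z * d⁻¹) ∈ W := by
      refine ⟨mul_mem hzV (hVn z hzV), ?_⟩
      have hz3 : d * (d * (d * z * d⁻¹) * d⁻¹) * d⁻¹ = z := by
        calc _ = d ^ 3 * z * (d ^ 3)⁻¹ := by rw [pow_three]; group
          _ = z := by rw [hd3]; group
      have s1 := hM.Vb_sq hb hb3 hβ (hVn z hzV)
      have s2 := hM.Vb_sq hb hb3 hβ (hVn _ (hVn z hzV))
      calc z * (d * z * d⁻¹) * (d * (z * (d * z * d⁻¹)) * d⁻¹) *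
            (d * (d * (z * (d * z * d⁻¹)) * d⁻¹) * d⁻¹)
          = z * ((d * z * d⁻¹) * (d * z * d⁻¹)) * ((d * (d * z * d⁻¹) * d⁻¹) * (d * (d * z * d⁻¹) * d⁻¹)) *
              (d * (d * (d * z * d⁻¹) * d⁻¹) * d⁻¹) := by group
        _ = 1 := by rw [s1, s2, hz3, mul_one, mul_one, hM.Zv_sq hzA]
    rw [hbot, Subgroup.mem_bot] at hmem
    have h1 : d * z * d⁻¹ = z := by rw [eq_inv_of_mul_eq_one_right hmem, hM.Zv_inv hzA]
    have h2 : z ∈ X.Zv (X.act d α) := by rw [Zv_act, ← h1]; exact cnj_conj_mem.2 hzA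
    exact hz1 (hM.inter (adj_symm h) hβ' hne hα (hM.inter_A h (adj_act_fix h hd) hmv hβ hzA h2) hz)
  haveI := Tv_finite β α
  obtain ⟨w, hwW, hw1, hw2, hwc⟩ := exists_central (Tv_pgroup h) hWT hW hWn
  have hwB := hM.central_mem (adj_symm h) hα ((Tv_comm β α) ▸ hWT hwW) hw2
    (fun t ht => hwc t ((Tv_comm α β) ▸ ht))
  have e := hwW.2
  rw [hM.St_B_conj hβ hd hwB, hM.St_B_conj hβ hd hwB, hw2, one_mul] at e
  exact hw1 e

/-- The cores of two neighbours cut different subgroups out of the core. -/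
theorem Main.not_same {β α γ : X.Vtx} (hα : X.Adj β α) (hγ : X.Adj β γ) (hne : γ ≠ α) (hβ : β.1 = !i) :
    ¬ X.Qv α ⊓ X.Qv β ≤ X.Qv γ := by
  intro hle
  set D := X.Qv α ⊓ X.Qv β with hD
  haveI : Finite D := finite_le_St (inf_le_right.trans (Qv_le_St β))
  haveI : Finite ↥(X.Qv γ ⊓ X.Qv β) := finite_le_St (inf_le_right.trans (Qv_le_St β))
  obtain ⟨g, hg, hgα⟩ := exists_act_nbr hα hγ
  have heq : D = X.Qv γ ⊓ X.Qv β := by
    refine Subgroup.eq_of_le_of_card_ge (le_inf hle inf_le_right) (le_of_eq ?_)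
    rw [← card_cnj g D, hD, cnj_inf, ← Qv_act, ← Qv_act, hgα, mem_St_iff.1 hg]
  have hn : X.St β ≤ Subgroup.normalizer (D : Set G) := gen_two hM.three hα hγ hne
    (fun t ht => mem_normalizer_of_finite fun x hx => ⟨Qv_normal ht.2 hx.1, Qv_normal ht.1 hx.2⟩)
    (fun t ht => mem_normalizer_of_finite fun x hx => by
      rw [heq] at hx ⊢
      exact ⟨Qv_normal ht.2 hx.1, Qv_normal ht.1 hx.2⟩)
  have hcore : ∀ x ∈ D, x ∈ core X β := by
    refine fun x hx => ⟨hx.2, fun ν hν => ?_⟩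
    obtain ⟨p, hp, rfl⟩ := exists_act_nbr hα hν
    have := (Subgroup.mem_normalizer_iff.1 (hn (inv_mem hp)) x).1 hx
    rw [inv_inv] at this
    rw [Qv_act, mem_cnj]
    exact this.1
  have hdiff : ∀ p ∈ X.St β, ∀ x ∈ X.Qv β, x⁻¹ * (p * x * p⁻¹) ∈ D := by
    intro p hp x hx
    refine ⟨Qv_two' hα hx (Qv_normal hp hx) ?_, (X.Qv β).mul_mem ((X.Qv β).inv_mem hx) (Qv_normal hp hx)⟩
    have := Subgroup.mem_normalizer_iff.1 (hn hp) x
    exact ⟨fun h => (this.1 ⟨h, hx⟩).1, fun h => (this.2 ⟨h, Qv_normal hp hx⟩).1⟩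
  obtain ⟨d, hd, hd3, hdmv⟩ := exists_rot hM.three β
  refine hM.no_rot hb hb3 hα hβ hd hd3 (hdmv α hα) fun t ht => ?_
  obtain ⟨e, he, hx⟩ := hM.no_rot_aux hα hd hd3 (hdmv α hα) ht.1
  refine ⟨e, he, hcore _ ?_⟩
  set x := e⁻¹ * (t * d * t⁻¹) with hxdef
  have heS : e ∈ X.St β := by rcases he with rfl | rfl; exacts [hd, inv_mem hd]
  have he3 : e ^ 3 = 1 := by rcases he with rfl | rfl; exacts [hd3, by rw [inv_pow, hd3, inv_one]]
  have hprod : (e * x * e⁻¹) * (e * (e * x * e⁻¹) * e⁻¹) * x = 1 := by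
    calc _ = (e * x) ^ 3 * (x⁻¹ * (e ^ 3)⁻¹ * x) := by rw [pow_three, pow_three]; group
      _ = _ := by rw [hxdef, mul_inv_cancel_left, conj_pow, hd3, he3]; group
  have hx2 : x * x ∈ D :=
    ⟨sq_mem (adj_symm hα) ((Tv_comm β α) ▸ Qv_le_Tv hα hx), mul_mem hx hx⟩
  obtain ⟨u1, hu1, e1⟩ : ∃ u ∈ D, e * x * e⁻¹ = x * u := ⟨_, hdiff e heS x hx, by group⟩
  obtain ⟨u2, hu2, e2⟩ : ∃ u ∈ D, e * (e * x * e⁻¹) * e⁻¹ = x * u :=
    ⟨_, hdiff (e * e) (mul_mem heS heS) x hx, by group⟩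
  rw [e2, e1] at hprod
  have h3x : x * x * ((x⁻¹ * u1 * x) * u2) * x = 1 := by rw [← hprod]; group
  have hu : x⁻¹ * u1 * x * u2 ∈ D := mul_mem (by
    have := (Subgroup.mem_normalizer_iff.1 (hn (inv_mem (Qv_le_St β hx))) u1).1 hu1
    rwa [inv_inv] at this) hu2
  rw [eq_inv_of_mul_eq_one_right h3x]
  exact inv_mem (mul_mem hx2 hu)

variable (hk : Nat.card (X.V (!i)) = 2)
include hk

theorem Main.Pair_diff {σ η : X.Vtx} (hη : X.Adj σ η) (hσ : σ.1 = !i) {p p' : G} (hp : p ∈ Pair X σ η)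
    (hp' : p' ∈ Pair X σ η) : p⁻¹ * p' ∈ X.Zv σ := by
  obtain ⟨η₁, η₂, h1, h2, n1, n2, n12, x, hx, y, hy, hx', hy', rfl⟩ := hp
  obtain ⟨ζ₁, ζ₂, k1, k2, m1, m2, m12, x', hxx, y', hyy, hxx', hyy', rfl⟩ := hp'
  obtain ⟨u, -, -, -, hall⟩ := third hM.three hη h1 n1
  have e := ((hall η₂ h2).resolve_left n2).resolve_left n12
  subst e
  have hc := fun {a b : G} => hM.Vb_comm hb hb3 hσ (v := a) (w := b)
  have hmul : ∀ a b, a ∈ X.Zv η₁ → a ∉ X.Zv σ → b ∈ X.Zv η₂ → b ∉ X.Zv σ →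
      (x * y)⁻¹ * (a * b) ∈ X.Zv σ := by
    intro a b ha ha' hb' hb''
    have e : (x * y)⁻¹ * (a * b) = (x⁻¹ * a) * (y⁻¹ * b) := by
      have := hc (inv_mem (mem_Vb h2 hy)) (mul_mem (inv_mem (mem_Vb h1 hx)) (mem_Vb h1 ha))
      calc (x * y)⁻¹ * (a * b) = y⁻¹ * (x⁻¹ * a) * b := by group
        _ = (x⁻¹ * a) * y⁻¹ * b := by rw [this]
        _ = _ := by group
    rw [e]
    exact mul_mem (hM.A_mul hk (adj_symm h1) (typeA h1 hσ) hx ha hx' ha')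
      (hM.A_mul hk (adj_symm h2) (typeA h2 hσ) hy hb' hy' hb'')
  rcases (hall _ k1).resolve_left m1 with rfl | rfl <;> rcases (hall _ k2).resolve_left m2 with rfl | rfl
  · exact absurd rfl m12
  · exact hmul x' y' hxx hxx' hyy hyy'
  · rw [show x' * y' = y' * x' from hc (mem_Vb k1 hxx) (mem_Vb k2 hyy)]
    exact hmul y' x' hyy hyy' hxx hxx'
  · exact absurd rfl m12

omit hb hb3 hk in
theorem Main.Pair_not_mem {σ η : X.Vtx} (hσ : σ.1 = !i) {p : G} (hp : p ∈ Pair X σ η) : p ∉ X.Zv σ := by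
  obtain ⟨η₁, η₂, h1, h2, -, -, n12, x, hx, y, hy, hx', -, rfl⟩ := hp
  intro h
  refine hx' (hM.inter_A h1 h2 n12 hσ hx ?_)
  have := mul_mem (hM.Zv_mono (adj_symm h2) (typeA h2 hσ) h) (inv_mem hy)
  rwa [mul_inv_cancel_right] at this

omit hb hb3 hk in
theorem Main.Pair_mul {σ η : X.Vtx} (hσ : σ.1 = !i) {p z : G} (hp : p ∈ Pair X σ η) (hz : z ∈ X.Zv σ) :
    p * z ∈ Pair X σ η := by
  obtain ⟨η₁, η₂, h1, h2, n1, n2, n12, x, hx, y, hy, hx', hy', rfl⟩ := hp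
  refine ⟨η₁, η₂, h1, h2, n1, n2, n12, x, hx, y * z, mul_mem hy (hM.Zv_mono (adj_symm h2) (typeA h2 hσ) hz),
    hx', fun h => hy' ?_, mul_assoc _ _ _⟩
  have := mul_mem h (inv_mem hz)
  rwa [mul_inv_cancel_right] at this

/-- The commutator of an element fixing `σ` and `η` with the module at `σ`. -/
theorem Main.comm_Pair {σ η : X.Vtx} (hη : X.Adj σ η) (hσ : σ.1 = !i) {g v : G} (hg : g ∈ X.Tv σ η)
    (hv : v ∈ Vb X σ) : g * v * g⁻¹ * v⁻¹ ∈ X.Zv σ ∨ g * v * g⁻¹ * v⁻¹ ∈ Pair X σ η := by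
  have hZV : ∀ {z}, z ∈ X.Zv σ → z ∈ Vb X σ := fun hz =>
    mem_Vb hη (hM.Zv_mono (adj_symm hη) (typeA hη hσ) hz)
  have hc := fun {a b : G} => hM.Vb_comm hb hb3 hσ (v := a) (w := b)
  induction hv using Subgroup.closure_induction with
  | mem z hz =>
    obtain ⟨ν, hν, hz⟩ := hz
    by_cases hgν : X.act g ν = ν
    · exact Or.inl (hM.comm_mem' (adj_symm hν) (typeA hν hσ) hz ⟨mem_St_iff.2 hgν, hg.1⟩)
    by_cases hzσ : z ∈ X.Zv σ
    · exact Or.inl (by rw [hM.St_B_conj hσ hg.1 hzσ, mul_inv_cancel]; exact one_mem _)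
    refine Or.inr ⟨X.act g ν, ν, adj_act_fix hν hg.1, hν,
      fun e => hgν (by rw [act_inj (e.trans (mem_St_iff.1 hg.2).symm)]; exact mem_St_iff.1 hg.2),
      fun e => hgν (e ▸ mem_St_iff.1 hg.2), fun e => hgν e.symm, g * z * g⁻¹, ?_, z⁻¹, inv_mem hz, ?_,
      fun h => hzσ (by simpa using inv_mem h), rfl⟩
    · rw [Zv_act]; exact cnj_conj_mem.2 hz
    · intro h
      refine hzσ ?_
      have h' := hM.St_B_conj hσ (inv_mem hg.1) h
      rw [inv_inv] at h'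
      rwa [← h', show g⁻¹ * (g * z * g⁻¹) * g = z by group] at h
  | one => exact Or.inl (by simp)
  | mul a c ha' hc' ha hc1 =>
    have ga := Vb_normal hg.1 ha'
    have gc := Vb_normal hg.1 hc'
    have e : g * (a * c) * g⁻¹ * (a * c)⁻¹ = (g * a * g⁻¹ * a⁻¹) * (g * c * g⁻¹ * c⁻¹) := by
      calc g * (a * c) * g⁻¹ * (a * c)⁻¹ = g * a * g⁻¹ * ((g * c * g⁻¹ * c⁻¹) * a⁻¹) := by group
        _ = g * a * g⁻¹ * (a⁻¹ * (g * c * g⁻¹ * c⁻¹)) := by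
          rw [hc (mul_mem gc (inv_mem hc')) (inv_mem ha')]
        _ = _ := by group
    rw [e]
    rcases ha with ha | ha <;> rcases hc1 with hc1 | hc1
    · exact Or.inl (mul_mem ha hc1)
    · exact Or.inr (by rw [hc (hZV ha) (Pair_sub hc1)]; exact hM.Pair_mul hσ hc1 ha)
    · exact Or.inr (hM.Pair_mul hσ ha hc1)
    · refine Or.inl ?_
      have := hM.Pair_diff hb hb3 hk hη hσ ha hc1
      rwa [hM.Vb_inv hb hb3 hσ (Pair_sub ha)] at this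
  | inv a ha' ha => rwa [hM.Vb_inv hb hb3 hσ ha']

theorem Main.Cos_diff {σ η : X.Vtx} (hη : X.Adj σ η) (hσ : σ.1 = !i) {s s' : G} (hs : s ∈ Cos X σ η)
    (hs' : s' ∈ Cos X σ η) : s⁻¹ * s' ∈ X.Zv η := by
  obtain ⟨p, hp, w, hw, rfl⟩ := hs
  obtain ⟨p', hp', w', hw', rfl⟩ := hs'
  rw [show (p * w)⁻¹ * (p' * w') = w⁻¹ * (p⁻¹ * p') * w' by group]
  exact mul_mem (mul_mem (inv_mem hw)
    (hM.Zv_mono (adj_symm hη) (typeA hη hσ) (hM.Pair_diff hb hb3 hk hη hσ hp hp'))) hw'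

omit hM hb hb3 hk in
theorem Cos_mul {σ η : X.Vtx} {s w : G} (hs : s ∈ Cos X σ η) (hw : w ∈ X.Zv η) : s * w ∈ Cos X σ η := by
  obtain ⟨p, hp, w', hw', rfl⟩ := hs
  exact ⟨p, hp, w' * w, mul_mem hw' hw, mul_assoc _ _ _⟩

omit hM hb hb3 hk in
theorem Cos_sub {σ η : X.Vtx} (hη : X.Adj σ η) {s : G} (hs : s ∈ Cos X σ η) : s ∈ Vb X σ := by
  obtain ⟨p, hp, w, hw, rfl⟩ := hs
  exact mul_mem (Pair_sub hp) (mem_Vb hη hw)

theorem Main.natural_of_mem {σ η : X.Vtx} (hη : X.Adj σ η) (hσ : σ.1 = !i) {s : G} (hs : s ∈ Cos X σ η)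
    (hsη : s ∈ X.Zv η) : Natural X i := by
  obtain ⟨p, hp, w, hw, rfl⟩ := hs
  have hpη : p ∈ X.Zv η := by
    have := mul_mem hsη (inv_mem hw)
    rwa [mul_inv_cancel_right] at this
  intro τ ζ hτ hζ q hq
  obtain ⟨g, hgσ, hgη⟩ := exists_act_edge hη hζ (hσ.trans hτ.symm)
  have hq' : g * p * g⁻¹ ∈ Pair X τ ζ := by
    have := Pair_act g hp
    rwa [hgσ, hgη] at this
  have h1 : g * p * g⁻¹ ∈ X.Zv ζ := by rw [← hgη, Zv_act]; exact cnj_conj_mem.2 hpη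
  have := mul_mem h1 (hM.Zv_mono (adj_symm hζ) (typeA hζ hτ) (hM.Pair_diff hb hb3 hk hζ hτ hq' hq))
  rwa [mul_inv_cancel_left] at this

/-- Two equal cosets at a vertex force natural modules. -/
theorem Main.natural_of_eq {γ σ₁ σ₂ : X.Vtx} (h1 : X.Adj σ₁ γ) (h2 : X.Adj σ₂ γ) (hne : σ₂ ≠ σ₁)
    (hγ : γ.1 = i) {s : G} (hs1 : s ∈ Cos X σ₁ γ) (hs2 : s ∈ Cos X σ₂ γ) : Natural X i := by
  have hσ1 : σ₁.1 = !i := typeB (adj_symm h1) hγ
  have hσ2 : σ₂.1 = !i := typeB (adj_symm h2) hγ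
  by_contra hnat
  obtain ⟨d, hd, hd3, hdmv, hdσ⟩ : ∃ d ∈ X.St γ, d ^ 3 = 1 ∧ X.act d σ₁ ≠ σ₁ ∧ X.act d σ₁ = σ₂ := by
    obtain ⟨d, hd, hd3, hmv⟩ := exists_rot hM.three γ
    rcases (rot_cover hM.three (adj_symm h1) hd hd3 (hmv _ (adj_symm h1))).2.2.2.2 σ₂ (adj_symm h2) with e | e | e
    · exact absurd e hne
    · exact ⟨d, hd, hd3, hmv _ (adj_symm h1), e.symm⟩
    · exact ⟨d * d, mul_mem hd hd, by
        rw [← pow_two, ← pow_mul, show 2 * 3 = 3 * 2 by rfl, pow_mul, hd3, one_pow], e ▸ hne, e.symm⟩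
  obtain ⟨a1, a2, n2, n1, -⟩ := rot_cover hM.three (adj_symm h1) hd hd3 hdmv
  rw [hdσ] at a1 n1
  have hγd := mem_St_iff.1 hd
  have hw : d * s * d⁻¹ * s⁻¹ ∈ X.Zv γ := by
    have e1 : d * s * d⁻¹ ∈ Cos X σ₂ γ := by
      have := Cos_act d hs1
      rwa [hdσ, hγd] at this
    have := hM.Cos_diff hb hb3 hk h2 hσ2 hs2 e1
    rw [hM.Vb_inv hb hb3 hσ2 (Cos_sub h2 hs2)] at this
    rwa [hM.Vb_inv hb hb3 hσ2 (Cos_sub h2 hs2),
      hM.Vb_comm hb hb3 hσ2 (Cos_sub h2 e1) (Cos_sub h2 hs2)]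
  obtain ⟨v, hv, hfix⟩ := exists_fix (fun v hv => hM.Zv_sq hv) hd3 (fun v hv => Zv_normal hd hv) hw
  set c := v * s with hc
  have hcc : ∀ σ, X.Adj σ γ → σ.1 = !i → s ∈ Cos X σ γ → c ∈ Cos X σ γ := fun σ hσ hσB hs => by
    rw [hc, hM.Vb_comm hb hb3 hσB (mem_Vb hσ hv) (Cos_sub hσ hs)]
    exact Cos_mul hs hv
  have hc1 := hcc σ₁ h1 hσ1 hs1
  have hc2 := hcc σ₂ h2 hσ2 hs2
  have hcγ : c ∉ X.Zv γ := fun h => hnat (hM.natural_of_mem hb hb3 hk h1 hσ1 hc1 h)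
  have hQ : ∀ q ∈ X.Qv γ, q * c * q⁻¹ = c := by
    intro q hq
    have key : ∀ σ, X.Adj σ γ → σ.1 = !i → c ∈ Cos X σ γ → c⁻¹ * (q * c * q⁻¹) ∈ X.Zv σ := by
      intro σ hσ hσB hcσ
      obtain ⟨p, hp, w, hw, e⟩ := hcσ
      have hp' : q * p * q⁻¹ ∈ Pair X σ γ := by
        have := Pair_act q hp
        rwa [Qv_fix (adj_symm hσ) hq, mem_St_iff.1 (Qv_le_St γ hq)] at this
      have hd' := hM.Pair_diff hb hb3 hk hσ hσB hp hp'
      have hqw : q * w * q⁻¹ = w := by rw [hM.Zv_central hw hq, mul_inv_cancel_right]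
      rw [e, show (p * w)⁻¹ * (q * (p * w) * q⁻¹) = w⁻¹ * (p⁻¹ * (q * p * q⁻¹)) * (q * w * q⁻¹) by group,
        hqw, hM.Zv_comm (inv_mem hw) (hM.Zv_mono (adj_symm hσ) (typeA hσ hσB) hd'), inv_mul_cancel_right]
      exact hd'
    exact (inv_mul_eq_one.1 (hM.inter (adj_symm h1) (adj_symm h2) hne hγ
      (key σ₁ h1 hσ1 hc1) (key σ₂ h2 hσ2 hc2))).symm
  have hcT : ∀ t ∈ X.Tv γ σ₁, t * c = c * t := by
    intro t ht
    obtain ⟨e, he, hx⟩ := hM.no_rot_aux (adj_symm h1) hd hd3 hdmv (t := t⁻¹) (inv_mem ht.1)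
    have hec : e * c * e⁻¹ = c := by
      rcases he with rfl | rfl
      · exact hfix
      · calc d⁻¹ * c * d⁻¹⁻¹ = d⁻¹ * (d * c * d⁻¹) * d⁻¹⁻¹ := by rw [hfix]
          _ = c := by group
    set u := c⁻¹ * (t * c * t⁻¹) with hu
    have huZ : u ∈ X.Zv γ := by
      have := Cos_act t hc1
      rw [mem_St_iff.1 ht.2, mem_St_iff.1 ht.1] at this
      exact hM.Cos_diff hb hb3 hk h1 hσ1 hc1 this
    have h' : (t⁻¹ * d * t) * c * (t⁻¹ * d * t)⁻¹ = c := by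
      have hxc := hQ _ hx
      rw [inv_inv] at hxc
      calc (t⁻¹ * d * t) * c * (t⁻¹ * d * t)⁻¹
          = e * ((e⁻¹ * (t⁻¹ * d * t)) * c * (e⁻¹ * (t⁻¹ * d * t))⁻¹) * e⁻¹ := by group
        _ = c := by rw [hxc, hec]
    have hdu : d * u * d⁻¹ = u := by
      calc d * u * d⁻¹ = (d * c * d⁻¹)⁻¹ * (t * ((t⁻¹ * d * t) * c * (t⁻¹ * d * t)⁻¹) * t⁻¹) := by
            rw [hu]; group
        _ = _ := by rw [hfix, h', hu]
    have := hM.A_fixed hk (adj_symm h1) hγ hd hd3 hdmv huZ hdu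
    exact mul_inv_eq_iff_eq_mul.1 (inv_mul_eq_one.1 this).symm
  have hcV := Cos_sub h1 hc1
  have hmem := hM.central_mem (adj_symm h1) hγ ((Tv_comm σ₁ γ) ▸ Qv_le_Tv h1 (hM.Vb_le hb hb3 hσ1 hcV))
    (hM.Vb_sq hb hb3 hσ1 hcV) hcT
  exact hcγ (hM.Zv_mono (adj_symm h1) hγ hmem)

end Cfsg.Agent.LocalEven.Amalgam33
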