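import Cfsg.Agent.Lib.LocalEven.Amalgam33.Odd

/-!
# Amalgams of index (3, 3): odd critical pairs
-/

set_option autoImplicit false
set_option linter.style.haveILetI false

open Cfsg.Agent.Solv.Amalgam
open Cfsg.Agent.Solv.Amalgam.Data

namespace Cfsg.Agent.LocalEven.Amalgam33

universe u

variable {G : Type u} [Group G] {X : Data G} {i : Bool}

/-- A vertex appended to a walk. -/
noncomputable def snoc (f : ℕ → X.Vtx) (n : ℕ) (x : X.Vtx) : ℕ → X.Vtx := fun k => if k ≤ n then f k else x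

theorem snoc_le {f : ℕ → X.Vtx} {n k : ℕ} {x : X.Vtx} (hk : k ≤ n) : snoc f n x k = f k := if_pos hk

theorem snoc_last {f : ℕ → X.Vtx} {n : ℕ} {x : X.Vtx} : snoc f n x (n + 1) = x := if_neg (by omega)

theorem NB.snoc {f : ℕ → X.Vtx} {n : ℕ} (h : NB X f (n + 1)) {x : X.Vtx} (hx : X.Adj (f (n + 1)) x)
    (hne : x ≠ f n) : NB X (Amalgam33.snoc f (n + 1) x) (n + 2) := by
  refine ⟨fun k hk => ?_, fun k hk => ?_⟩
  · rw [snoc_le (by omega)]
    by_cases e : k = n + 1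
    · subst e; rw [snoc_last]; exact hx
    · rw [snoc_le (by omega)]; exact h.1 k (by omega)
  · rw [snoc_le (by omega)]
    by_cases e : k = n
    · subst e; rw [snoc_last]; exact hne.symm
    · rw [snoc_le (by omega)]; exact h.2 k (by omega)

/-- A walk with a movable end. -/
def Witness (X : Data G) (j : Bool) (m : ℕ) : Prop :=
  ∃ F, NB X F m ∧ (F 0).1 = j ∧ ∃ u : G, (∀ k < m, X.act u (F k) = F k) ∧ X.act u (F m) ≠ F m

theorem witness_end {F : ℕ → X.Vtx} {N : ℕ} (hF : NB X F N) {u : G} (hfix : ∀ k < N, X.act u (F k) = F k)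
    (hmv : X.act u (F N) ≠ F N) {m : ℕ} (hm : m ≤ N) {j : Bool} (hj : (F (N - m)).1 = j) : Witness X j m := by
  refine ⟨fun k => F (N - m + k), hF.shift (N - m) m (by omega), hj, u, fun k hk => hfix _ (by omega), ?_⟩
  show X.act u (F (N - m + m)) ≠ F (N - m + m)
  rwa [show N - m + m = N by omega]

theorem witness_start {F : ℕ → X.Vtx} {N : ℕ} (hF : NB X F N) {u : G}
    (hfix : ∀ k, 1 ≤ k → k ≤ N → X.act u (F k) = F k) (hmv : X.act u (F 0) ≠ F 0) {m : ℕ} (hm : m ≤ N)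
    {j : Bool} (hj : (F m).1 = j) : Witness X j m := by
  refine ⟨fun k => F (m - k), (hF.le hm).rev, hj, u, fun k hk => hfix _ (by omega) (by omega), ?_⟩
  show X.act u (F (m - m)) ≠ F (m - m)
  rwa [Nat.sub_self]

theorem trans_le (h3 : X.Three) {n : ℕ} (hw : ∀ j m, 3 ≤ m → m ≤ n → Witness X j m) :
    ∀ m, m ≤ n → ∀ j, Trans X j m := by
  intro m
  induction m with
  | zero => exact fun _ j => trans_zero j
  | succ m ih =>
    intro hm j
    rcases m with _ | _ | m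
    · exact trans_one j
    · exact trans_two h3 j
    · obtain ⟨F, hF, hj, u, hfix, hmv⟩ := hw j (m + 3) (by omega) hm
      exact trans_succ h3 (ih (by omega) j) hF hj (fun k hk => hfix k (by omega)) hmv

variable {b : ℕ}

/-- Transitive lengths make every walk critical. -/
theorem crit_of_trans {f g : ℕ → X.Vtx} (hb : NearA X i b) (hf : CritA X i b f) (ht : Trans X i b)
    (hg : NB X g b) (hg0 : (g 0).1 = i) : CritA X i b g := by
  obtain ⟨a, ha⟩ := ht f g (hf.nb hb) hg hf.2.1 hg0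
  refine ⟨hg.1, hg0, ?_⟩
  rw [← ha 0 (Nat.zero_le b), ← ha b le_rfl, Zv_act, Qv_act, cnj_le_cnj]
  exact hf.2.2

variable (hM : Main X i) (hb : NearA X i b) (hb3 : 3 ≤ b) (hbo : Odd b)
include hM hb hb3 hbo

omit hb hb3 hbo in
theorem Main.inter_walk {s : ℕ → X.Vtx} {m : ℕ} (hs : NB X s (m + 2)) (hm : Even m) (hs0 : (s 0).1 = !i)
    (ht : Trans X (!i) (m + 2)) {y : G} (hy : y ∈ X.Zv (s 0)) (hy' : y ∈ X.Zv (s (m + 2))) : y = 1 := by
  have hA : (s (m + 1)).1 = i := by rw [type_of_odd hs.1 (by omega) hm.add_one, hs0, Bool.not_not]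
  have h1 : X.Adj (s (m + 1)) (s m) := adj_symm (hs.1 m (by omega))
  have h2 : X.Adj (s (m + 1)) (s (m + 2)) := hs.1 (m + 1) (by omega)
  obtain ⟨δ, hδ, hd1, hd2, -⟩ := third hM.three h1 h2 (hs.2 m le_rfl).symm
  obtain ⟨g, hg⟩ := ht s _ hs (hs.set_last hδ hd1) hs0 (by rw [if_neg (by omega)]; exact hs0)
  have e0 : X.act g (s 0) = s 0 := by have := hg 0 (by omega); rwa [if_neg (by omega)] at this
  have e2 : X.act g (s (m + 2)) = δ := by have := hg (m + 2) le_rfl; rwa [if_pos rfl] at this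
  refine hM.inter h2 hδ hd2 hA hy' ?_
  rw [← e2, Zv_act, mem_cnj]
  have := hM.St_B_conj hs0 (inv_mem (mem_St_iff.2 e0)) hy
  rw [inv_inv] at this
  rw [this]
  exact hy'

omit hb hb3 in
theorem Main.end_type {f : ℕ → X.Vtx} (hf : CritA X i b f) :
    (f b).1 = !i ∧ (f (b - 1)).1 = i ∧ X.Adj (f b) (f (b - 1)) := by
  have hlast : X.Adj (f b) (f (b - 1)) := by
    have := hf.1 (b - 1) (by obtain ⟨k, rfl⟩ := hbo; omega)
    rw [show b - 1 + 1 = b by obtain ⟨k, rfl⟩ := hbo; omega] at this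
    exact adj_symm this
  have h1 : (f b).1 = !i := by rw [type_of_odd hf.1 le_rfl hbo, hf.2.1]
  exact ⟨h1, typeA hlast h1, hlast⟩

omit hb3 hbo in
theorem Main.fix_walk {f : ℕ → X.Vtx} (hf : CritA X i b f) {z : G} (hz : z ∈ X.Zv (f 0)) {k : ℕ}
    (hk : k ≤ b) : z ∈ X.St (f k) :=
  hM.fix hb hk hf.2.1 (by simpa using Reach.seg hf.1 (Nat.zero_le k) hk) hz

theorem Main.Vb_fix {f : ℕ → X.Vtx} (hf : CritA X i b f) {u : G} (hu : u ∈ Vb X (f b)) {k : ℕ} (hk1 : 1 ≤ k)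
    (hk : k ≤ b) : u ∈ X.St (f k) := by
  have hB := (hM.end_type hbo hf).1
  refine (show Vb X (f b) ≤ X.St (f k) from (Subgroup.closure_le _).2 ?_) hu
  rintro z ⟨ν, hν, hz⟩
  exact hM.fix hb (n := 1 + (b - k)) (by omega) (typeA hν hB)
    ((Reach.one (adj_symm hν)).trans (Reach.seg hf.1 hk le_rfl).symm) hz

/-- No element of the far module is in the near core outside the first core. -/
theorem Main.no_u {f : ℕ → X.Vtx} (hf : CritA X i b f) {u : G} (hu : u ∈ Vb X (f b)) (huβ : u ∈ X.Qv (f 1)) :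
    u ∈ X.Qv (f 0) := by
  by_contra huα
  obtain ⟨hB, hμA, hlast⟩ := hM.end_type hbo hf
  have hnb := hf.nb hb
  obtain ⟨hw, hα, hn⟩ := hf
  have hf' : CritA X i b f := ⟨hw, hα, hn⟩
  have hadj : X.Adj (f 0) (f 1) := hw 0 (by omega)
  obtain ⟨a, ha, haQ⟩ := SetLike.not_le_iff_exists.1 hn
  have haT : a ∈ X.Tv (f b) (f (b - 1)) := ⟨hM.fix_walk hb hf' ha le_rfl, hM.fix_walk hb hf' ha (by omega)⟩
  have huT : u ∈ X.Tv (f 0) (f 1) := ⟨Qv_le_St_nbr (adj_symm hadj) huβ, Qv_le_St _ huβ⟩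
  obtain ⟨β', hβ', hβ'ne⟩ := exists_other hM.three hadj
  obtain ⟨ν₁, hν₁, hν₁ne⟩ := exists_other hM.three hlast
  obtain ⟨n, rfl⟩ : ∃ n, b = n + 1 := ⟨b - 1, by omega⟩
  simp only [Nat.add_sub_cancel] at hμA hlast haT hν₁ne
  have hg : NB X (X.cons β' f) (n + 2) := hnb.cons (adj_symm hβ') hβ'ne
  have hF : NB X (snoc f (n + 1) ν₁) (n + 2) := hnb.snoc hν₁ hν₁ne
  have hufix : ∀ k, 1 ≤ k → k ≤ n + 2 → X.act u (X.cons β' f k) = X.cons β' f k := by
    rintro (_ | _ | k) hk1 hk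
    · omega
    · exact mem_St_iff.1 huT.1
    · exact mem_St_iff.1 (hM.Vb_fix hb hb3 hbo hf' hu (k := k + 1) (by omega) (by omega))
  have hafix : ∀ k < n + 2, X.act a (snoc f (n + 1) ν₁ k) = snoc f (n + 1) ν₁ k := fun k hk => by
    rw [snoc_le (by omega)]; exact mem_St_iff.1 (hM.fix_walk hb hf' ha (by omega))
  have hamv : X.act a (snoc f (n + 1) ν₁ (n + 2)) ≠ snoc f (n + 1) ν₁ (n + 2) := by
    rw [snoc_last]; exact move hlast hν₁ hν₁ne haT haQ
  have htr : ∀ m, m ≤ n + 1 → ∀ j, Trans X j m := by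
    refine trans_le hM.three fun j m _ hm => ?_
    have hev : ∀ {j : Bool}, j = i ∧ Even m ∨ j = (!i) ∧ Odd m → Witness X j m := by
      intro j hjm
      refine witness_end hF hafix hamv (by omega) ?_
      rw [snoc_le (by omega)]
      rcases hjm with ⟨rfl, he⟩ | ⟨rfl, ho⟩
      · refine (type_of_even hw (by omega) ?_).trans hα
        rw [Nat.odd_iff] at hbo; rw [Nat.even_iff] at he ⊢; omega
      · rw [type_of_odd hw (by omega) (by rw [Nat.odd_iff] at hbo ho ⊢; omega), hα]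
    have hod : ∀ {j : Bool}, j = i ∧ Odd m ∨ j = (!i) ∧ Even m → Witness X j m := by
      intro j hjm
      refine witness_start hg hufix (move hadj hβ' hβ'ne huT huα) (m := m) (by omega) ?_
      have h0 : (X.cons β' f 0).1 = !i := typeB hβ' hα
      rcases hjm with ⟨rfl, ho⟩ | ⟨rfl, he⟩
      · rw [type_of_odd hg.1 (by omega) ho, h0, Bool.not_not]
      · rw [type_of_even hg.1 (by omega) he, h0]
    rcases Bool.eq_or_eq_not j i with hj | hj <;> rcases Nat.even_or_odd m with he | ho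
    exacts [hev (Or.inl ⟨hj, he⟩), hod (Or.inl ⟨hj, ho⟩), hod (Or.inr ⟨hj, he⟩), hev (Or.inr ⟨hj, ho⟩)]
  have hn2 : Even n := by rw [Nat.odd_iff] at hbo; rw [Nat.even_iff]; omega
  -- distinct centres
  have hs : NB X (fun k => f (1 + k)) n := hnb.shift 1 n (by omega)
  have hzz : ∀ y ∈ X.Zv (f 1), y ∈ X.Zv (f (n + 1)) → y = 1 := by
    intro y hy hy'
    obtain ⟨m, rfl⟩ : ∃ m, n = m + 2 := ⟨n - 2, by omega⟩
    exact hM.inter_walk hs ((Nat.even_add.1 hn2).2 even_two) (typeB hadj hα) (htr _ (by omega) _) hy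
      (by rwa [show 1 + (m + 2) = m + 2 + 1 by omega])
  -- the centres have order two
  have hY : X.Zv (f 0) ⊓ X.Qv (f (n + 1)) ≤ X.Zv (f 1) := by
    rintro y ⟨hy, hyQ⟩
    refine hM.fixed_mem hadj hα hy huT huα (mul_inv_eq_iff_eq_mul.1 (mul_inv_eq_one.1 (hzz _
      (hM.comm_mem' hadj hα hy huT) ?_)))
    have := inv_mem (hM.Vb_Q hb hb3 hB hyQ hu)
    rwa [show (y * u * y⁻¹ * u⁻¹)⁻¹ = u * y * u⁻¹ * y⁻¹ by group] at this
  haveI := hM.Zv_finite (f 0)
  haveI := hM.Zv_finite (f 1)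
  haveI : Finite ↥(X.Zv (f 0) ⊓ X.Qv (f (n + 1))) := finite_le_St (inf_le_right.trans (Qv_le_St _))
  have hk : Nat.card (X.V (!i)) = 2 := hM.two_of_le hadj hα <| by
    refine (card_le_two (· ∈ X.Qv (f (n + 1))) fun x hx y hy e => ?_).trans
      (Nat.mul_le_mul_left 2 (Nat.le_of_dvd Nat.card_pos (Subgroup.card_dvd_of_le hY)))
    refine ⟨(X.Zv (f 0)).mul_mem ((X.Zv (f 0)).inv_mem hx) hy, ?_⟩
    by_cases hyQ : y ∈ X.Qv (f (n + 1))
    · exact (X.Qv (f (n + 1))).mul_mem ((X.Qv (f (n + 1))).inv_mem (e.2 hyQ)) hyQ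
    · exact Qv_two hlast ⟨hM.fix_walk hb hf' hx le_rfl, hM.fix_walk hb hf' hx (by omega)⟩
        ⟨hM.fix_walk hb hf' hy le_rfl, hM.fix_walk hb hf' hy (by omega)⟩ (fun h => hyQ (e.1 h)) hyQ
  -- the centre as a pair product
  set c := a * u * a⁻¹ * u⁻¹ with hc
  have hcβ : c ∈ X.Zv (f 1) := hM.comm_mem hadj hα ha huT
  have hc1 : c ≠ 1 := by
    intro e
    have h1 : a ∈ X.Zv (f 1) := hM.fixed_mem hadj hα ha huT huα
      (mul_inv_eq_iff_eq_mul.1 (mul_inv_eq_one.1 (e ▸ rfl : a * u * a⁻¹ * u⁻¹ = 1))).symm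
    exact haQ (hb (f 2) (f (n + 1)) (n + 1 - 2) (by omega)
      ((type_of_even hw (by omega) even_two).trans hα) (Reach.seg hw (by omega) le_rfl)
      (hM.Zv_mono (adj_symm (hw 1 (by omega))) ((type_of_even hw (by omega) even_two).trans hα) h1))
  have hcP : c ∈ Pair X (f (n + 1)) (f n) :=
    (hM.comm_Pair hb hb3 hk hlast hB haT hu).resolve_left fun h => hc1 (hzz c hcβ h)
  rcases Nat.lt_or_ge n 4 with hlt | hge
  · -- length three
    obtain rfl : n = 2 := by rw [Nat.even_iff] at hn2; omega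
    have hγ : X.Adj (f 2) (f 1) := adj_symm (hw 1 (by omega))
    have hnat : Natural X i := hM.natural_of_mem hb hb3 hk hlast hB
      ⟨c, hcP, 1, one_mem _, (mul_one _).symm⟩ (hM.Zv_mono hγ hμA hcβ)
    set H := X.Zv (f 2) ⊔ X.Zv ν₁ with hH
    have hVH : Vb X (f 3) ≤ H := by
      rw [Vb, Subgroup.closure_le]
      rintro z ⟨η, hη, hz⟩
      obtain ⟨ν₂, hν₂, h21, h22, hall⟩ := third hM.three hlast hν₁ hν₁ne
      rcases hall η hη with rfl | rfl | rfl
      · exact Subgroup.mem_sup_left hz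
      · exact Subgroup.mem_sup_right hz
      · have hσ2 : X.Zv (f 3) ≤ H := (hM.Zv_mono (adj_symm hlast) hμA).trans le_sup_left
        by_cases hzσ : z ∈ X.Zv (f 3)
        · exact hσ2 hzσ
        obtain ⟨y, hy, hyσ⟩ : ∃ y ∈ X.Zv ν₁, y ∉ X.Zv (f 3) := by
          refine SetLike.not_le_iff_exists.1 fun hle => ?_
          obtain ⟨τ, hτ, hτne⟩ := exists_other hM.three (adj_symm hν₁)
          obtain ⟨t, ht, ht1⟩ := hM.exists_ne (typeB hτ (typeA hν₁ hB))
          exact ht1 (hM.inter (adj_symm hν₁) hτ hτne (typeA hν₁ hB)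
            (hle (hM.Zv_mono hτ (typeA hν₁ hB) ht)) ht)
        have hp : z * y ∈ X.Zv (f 2) := hnat (f 3) (f 2) hB hlast _
          ⟨η, ν₁, hη, hν₁, h21, hν₁ne, h22.symm, z, hz, y, hy, hzσ, hyσ, rfl⟩
        have := mul_mem (Subgroup.mem_sup_left (T := X.Zv ν₁) hp) (Subgroup.mem_sup_right (inv_mem hy))
        rwa [mul_inv_cancel_right] at this
    have hle : X.Zv ν₁ ≤ Subgroup.normalizer (X.Zv (f 2) : Set G) := fun x hx => by
      haveI := hM.Zv_finite (f 2)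
      refine mem_normalizer_of_finite fun y hy => ?_
      rw [hM.comm_near hb (n := 2) (by omega) (typeA hν₁ hB) (Reach.two (adj_symm hν₁) hlast) hx hy,
        mul_inv_cancel_right]
      exact hy
    have hu' := hVH hu
    rw [hH, ← SetLike.mem_coe, Subgroup.coe_mul_of_right_le_normalizer_left _ _ hle] at hu'
    obtain ⟨y, hy, x, hx, rfl⟩ := hu'
    have hyβ : y ∈ X.Qv (f 1) := hb (f 2) (f 1) 1 (by omega) hμA (Reach.one hγ) hy
    have hyα : y ∈ X.Qv (f 0) := hb (f 2) (f 0) 2 (by omega) hμA (Reach.two hγ (adj_symm hadj)) hy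
    have hxβ : x ∈ X.Qv (f 1) := by
      have := mul_mem (inv_mem hyβ) huβ
      rwa [inv_mul_cancel_left] at this
    have hσβ : X.Zv (f 3) ≤ X.Qv (f 1) :=
      (hM.Zv_mono (adj_symm hlast) hμA).trans (hb (f 2) (f 1) 1 (by omega) hμA (Reach.one hγ))
    by_cases hxσ : x ∈ X.Zv (f 3)
    · exact huα (mul_mem hyα (hb (f 2) (f 0) 2 (by omega) hμA (Reach.two hγ (adj_symm hadj))
        (hM.Zv_mono (adj_symm hlast) hμA hxσ)))
    · have hg3 : NB X (fun k => snoc f 3 ν₁ (4 - k)) 3 := hF.rev.le (by omega)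
      have hcr := crit_of_trans hb hf' (htr 3 le_rfl _) hg3 (by
        show (snoc f 3 ν₁ (3 + 1)).1 = i
        rw [snoc_last]; exact typeA hν₁ hB)
      refine hcr.2.2 ?_
      show X.Zv (snoc f 3 ν₁ (3 + 1)) ≤ X.Qv (snoc f 3 ν₁ 1)
      rw [snoc_last, snoc_le (by omega)]
      exact hM.A_le hk (adj_symm hν₁) (typeA hν₁ hB) hσβ hx hxσ hxβ
  · -- length at least five
    have h21 : X.Adj (f 2) (f 1) := adj_symm (hw 1 (by omega))
    have h23 : X.Adj (f 2) (f 3) := hw 2 (by omega)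
    have hA2 : (f 2).1 = i := (type_of_even hw (by omega) even_two).trans hα
    have hne13 : f 3 ≠ f 1 := (hnb.2 1 (by omega)).symm
    obtain ⟨δ, hδ, hd1, hd3, -⟩ := third hM.three h21 h23 hne13
    obtain ⟨m, rfl⟩ : ∃ m, n = m + 4 := ⟨n - 4, by omega⟩
    have hr : NB X (fun k => f (m + 5 - k)) (m + 4) := hnb.rev.le (by omega)
    have hr' := hr.set_last (x := δ) (n := m + 2)
      (by show X.Adj (f (m + 5 - (m + 2 + 1))) δ; rw [show m + 5 - (m + 2 + 1) = 2 by omega]; exact hδ)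
      (by show δ ≠ f (m + 5 - (m + 2)); rw [show m + 5 - (m + 2) = 3 by omega]; exact hd3)
    obtain ⟨g, hg⟩ := htr (m + 4) (by omega) (!i) _ _ hr hr' hB (by rw [if_neg (by omega)]; exact hB)
    have e0 : X.act g (f (m + 5)) = f (m + 5) := by
      have := hg 0 (by omega); rw [if_neg (by omega)] at this; exact this
    have e1 : X.act g (f (m + 4)) = f (m + 4) := by
      have := hg 1 (by omega); rw [if_neg (by omega)] at this; exact this
    have e2 : X.act g (f 1) = δ := by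
      have := hg (m + 4) le_rfl
      rw [if_pos (by omega)] at this
      rwa [show m + 5 - (m + 4) = 1 by omega] at this
    have hcδ : g * c * g⁻¹ ∈ X.Zv δ := by rw [← e2, Zv_act]; exact cnj_conj_mem.2 hcβ
    have hP' := Pair_act g hcP
    rw [e0, e1] at hP'
    have hd := hM.Pair_diff hb hb3 hk hlast hB hcP hP'
    have hc' : g * c * g⁻¹ ≠ 1 := fun e => hc1 (conj_eq_one_iff.1 e)
    rw [hM.Zv_inv hcβ] at hd
    have hd3' : c * (g * c * g⁻¹) ∈ X.Zv (f 3) := hM.A_third hk h21 hδ h23 hd1 hne13 hd3.symm hA2 hcβ hcδ hc1 hc'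
    have hs3 : NB X (fun k => f (3 + k)) (m + 2) := hnb.shift 3 (m + 2) (by omega)
    have h1 := hM.inter_walk hs3 ((Nat.even_add.1 hn2).2 ⟨2, rfl⟩) (typeB h23 hA2) (htr _ (by omega) _) hd3'
      (by rwa [show 3 + (m + 2) = m + 4 + 1 by omega])
    refine hc1 (hM.inter h21 hδ hd1 hA2 hcβ ?_)
    rwa [eq_inv_of_mul_eq_one_right h1, hM.Zv_inv hcβ] at hcδ

/-- The far neighbours start critical walks back. -/
theorem Main.exists_v {f : ℕ → X.Vtx} (hf : CritA X i b f) {ν : X.Vtx} (hν : X.Adj (f b) ν)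
    (hne : ν ≠ f (b - 1)) : ∃ v ∈ X.Zv ν, v ∉ X.Qv (f 1) := by
  obtain ⟨hB, hμA, hlast⟩ := hM.end_type hbo hf
  obtain ⟨a, ha, haQ⟩ := SetLike.not_le_iff_exists.1 hf.2.2
  have haT : a ∈ X.Tv (f b) (f (b - 1)) := ⟨hM.fix_walk hb hf ha le_rfl, hM.fix_walk hb hf ha (by omega)⟩
  by_contra hcon
  push Not at hcon
  have ha1 : a ∈ X.St (f 1) := hM.fix_walk hb hf ha (by omega)
  have hall : ∀ η, X.Adj (f b) η → ∀ z ∈ X.Zv η, z ∈ X.Qv (f 1) := by
    intro η hη z hz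
    obtain ⟨ν', hν', -, -, hcov⟩ := third hM.three hlast hν hne
    rcases hcov η hη with rfl | rfl | rfl
    · exact hb (f (b - 1)) (f 1) (b - 1 - 1) (by omega) hμA (Reach.seg hf.1 (by omega) (by omega)).symm hz
    · exact hcon z hz
    · by_cases he : η = ν
      · subst he; exact hcon z hz
      have hsw : X.act a ν = η ∨ η = f (b - 1) := by
        by_cases h' : η = f (b - 1)
        · exact Or.inr h'
        · exact Or.inl (swap hM.three hlast hν hη hne h' he haT haQ)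
      rcases hsw with e | e
      · rw [← e, Zv_act, mem_cnj] at hz
        have := Qv_normal ha1 (hcon _ hz)
        rwa [show a * (a⁻¹ * z * a) * a⁻¹ = z by group] at this
      · subst e
        exact hb (f (b - 1)) (f 1) (b - 1 - 1) (by omega) hμA (Reach.seg hf.1 (by omega) (by omega)).symm hz
  have hνA := typeA hν hB
  obtain ⟨τ, hτ, hτne⟩ := exists_other hM.three (adj_symm hν)
  obtain ⟨z, hz, hz1⟩ := hM.exists_ne (typeB hτ hνA)
  have hzν := hM.Zv_mono hτ hνA hz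
  have hzα : z ∈ X.Qv (f 0) := hM.no_u hb hb3 hbo hf (mem_Vb hν hzν) (hall ν hν z hzν)
  have h1 : a * z * a⁻¹ ∈ X.Zv (X.act a ν) := by rw [Zv_act]; exact cnj_conj_mem.2 hzν
  rw [← hM.Zv_central ha hzα, mul_inv_cancel_right] at h1
  exact hz1 (hM.inter (adj_symm hν) hτ hτne hνA
    (hM.inter_A hν (adj_act_fix hν haT.1) (move hlast hν hne haT haQ) hB hzν h1) hz)

/-- The reversed walk through a far neighbour. -/
theorem Main.rev_crit {f : ℕ → X.Vtx} (hf : CritA X i b f) {ν : X.Vtx} (hν : X.Adj (f b) ν)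
    (hne : ν ≠ f (b - 1)) : CritA X i b (X.cons ν fun k => f (b - k)) := by
  obtain ⟨v, hv, hvQ⟩ := hM.exists_v hb hb3 hbo hf hν hne
  refine ⟨walk_le (walk_cons (by simpa using adj_symm hν) (walk_rev hf.1)) (by omega),
    typeA hν (hM.end_type hbo hf).1, fun hle => hvQ ?_⟩
  obtain ⟨n, rfl⟩ : ∃ n, b = n + 1 := ⟨b - 1, by omega⟩
  have := hle hv
  change v ∈ X.Qv (f (n + 1 - n)) at this
  rwa [show n + 1 - n = 1 by omega] at this

/-- Odd critical distance: the centres have order two and the first module meets the last core in the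
second centre. -/
theorem Main.odd_two {f : ℕ → X.Vtx} (hf : CritA X i b f) :
    Nat.card (X.V (!i)) = 2 ∧ ∀ y ∈ X.Zv (f 0), y ∈ X.Qv (f b) → y ∈ X.Zv (f 1) := by
  obtain ⟨hB, hμA, hlast⟩ := hM.end_type hbo hf
  have hnb := hf.nb hb
  have hadj : X.Adj (f 0) (f 1) := hf.1 0 (by omega)
  have h12 : X.Adj (f 1) (f 2) := hf.1 1 (by omega)
  have hα := hf.2.1
  obtain ⟨ν, hν, hne⟩ := exists_other hM.three hlast
  have hh := hM.rev_crit hb hb3 hbo hf hν hne
  obtain ⟨v, hv, hvQ⟩ := hM.exists_v hb hb3 hbo hf hν hne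
  have hfixv : ∀ k, 1 ≤ k → k ≤ b → v ∈ X.St (f k) := fun k h1 h2 =>
    hM.fix hb (n := 1 + (b - k)) (by omega) (typeA hν hB)
      ((Reach.one (adj_symm hν)).trans (Reach.seg hf.1 h2 le_rfl).symm) hv
  have hvT : v ∈ X.Tv (f 1) (f 2) := ⟨hfixv 1 le_rfl (by omega), hfixv 2 (by omega) (by omega)⟩
  have hne02 : f 0 ≠ f 2 := hnb.2 0 (by omega)
  have hY : ∀ y ∈ X.Zv (f 0), y ∈ X.Qv (f b) → y ∈ X.Zv (f 1) := by
    intro y hy hyQ
    obtain ⟨n, rfl⟩ : ∃ n, b = n + 1 := ⟨b - 1, by omega⟩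
    have h1 := hM.no_u hb hb3 hbo hh (u := y)
      (by show y ∈ Vb X (f (n + 1 - n)); rw [show n + 1 - n = 1 by omega]; exact mem_Vb (adj_symm hadj) hy)
      (by show y ∈ X.Qv (f (n + 1 - 0)); exact hyQ)
    change y ∈ X.Qv ν at h1
    refine hM.inter_A (adj_symm hadj) (adj_act_fix (adj_symm hadj) hvT.1)
      (move h12 (adj_symm hadj) hne02 hvT hvQ) (typeB hadj hα) hy ?_
    have h2 : v * y * v⁻¹ ∈ X.Zv (X.act v (f 0)) := by rw [Zv_act]; exact cnj_conj_mem.2 hy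
    rwa [← hM.Zv_central hv h1, mul_inv_cancel_right] at h2
  refine ⟨?_, hY⟩
  haveI := hM.Zv_finite (f 0)
  haveI := hM.Zv_finite (f 1)
  haveI : Finite ↥(X.Zv (f 0) ⊓ X.Qv (f b)) := finite_le_St (inf_le_right.trans (Qv_le_St _))
  refine hM.two_of_le hadj hα ((card_le_two (· ∈ X.Qv (f b)) fun x hx y hy e => ?_).trans
    (Nat.mul_le_mul_left 2 (Nat.le_of_dvd Nat.card_pos
      (Subgroup.card_dvd_of_le (fun y hy => hY y hy.1 hy.2 : X.Zv (f 0) ⊓ X.Qv (f b) ≤ X.Zv (f 1))))))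
  refine ⟨(X.Zv (f 0)).mul_mem ((X.Zv (f 0)).inv_mem hx) hy, ?_⟩
  by_cases hyQ : y ∈ X.Qv (f b)
  · exact (X.Qv (f b)).mul_mem ((X.Qv (f b)).inv_mem (e.2 hyQ)) hyQ
  · exact Qv_two hlast ⟨hM.fix_walk hb hf hx le_rfl, hM.fix_walk hb hf hx (by omega)⟩
      ⟨hM.fix_walk hb hf hy le_rfl, hM.fix_walk hb hf hy (by omega)⟩ (fun h => hyQ (e.1 h)) hyQ

end Cfsg.Agent.LocalEven.Amalgam33
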