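import Cfsg.Agent.Lib.LocalEven.Amalgam33.Walks

/-!
# Amalgams of index (3, 3): centres of order two
-/

set_option autoImplicit false
set_option linter.style.haveILetI false

open Cfsg.Agent.Solv.Amalgam
open Cfsg.Agent.Solv.Amalgam.Data

namespace Cfsg.Agent.LocalEven.Amalgam33

universe u

variable {G : Type u} [Group G] {X : Data G} {i : Bool} (hM : Main X i)
include hM

/-- A sufficient condition for centres of order two. -/
theorem Main.two_of_le {α β : X.Vtx} (h : X.Adj α β) (hα : α.1 = i)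
    (hle : Nat.card (X.Zv α) ≤ 2 * Nat.card (X.Zv β)) : Nat.card (X.V (!i)) = 2 := by
  obtain ⟨β', hβ', hne⟩ := exists_other hM.three h
  rw [(hM.structure_A h hβ' hne hα).1, hM.card_B (typeB h hα)] at hle
  have h1 := hM.one_lt_card
  have := Nat.le_of_mul_le_mul_right hle (by omega)
  omega

theorem Main.Zv_le_of_two {α β β' : X.Vtx} (h : X.Adj α β) (h' : X.Adj α β') (hne : β' ≠ β) (hα : α.1 = i)
    {H : Subgroup G} (h1 : X.Zv β ≤ H) (h2 : X.Zv β' ≤ H) : X.Zv α ≤ H := by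
  intro z hz
  obtain ⟨x, hx, y, hy, rfl⟩ := (hM.structure_A h h' hne hα).2.1 z hz
  exact mul_mem (h1 hx) (h2 hy)

theorem Main.exists_ne {β : X.Vtx} (hβ : β.1 = !i) : ∃ z ∈ X.Zv β, z ≠ 1 := by
  by_contra h
  push Not at h
  have h1 := hM.card_B hβ
  rw [(Subgroup.eq_bot_iff_forall _).2 h, Subgroup.card_bot] at h1
  have := hM.one_lt_card
  omega

variable (hk : Nat.card (X.V (!i)) = 2)
include hk

theorem Main.B_eq {β : X.Vtx} (hβ : β.1 = !i) {x y : G} (hx : x ∈ X.Zv β) (hy : y ∈ X.Zv β) (hx1 : x ≠ 1)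
    (hy1 : y ≠ 1) : x = y := by
  classical
  haveI := hM.Zv_finite β
  by_contra hne
  have h1 : Nat.card (Fin 3) ≤ Nat.card (X.Zv β) := Nat.card_le_card_of_injective
    ![⟨1, one_mem _⟩, ⟨x, hx⟩, ⟨y, hy⟩] (by
      intro a b hab
      fin_cases a <;> fin_cases b <;>
        first
        | rfl
        | simp [Subtype.ext_iff, hx1, hy1, hne, Ne.symm hx1, Ne.symm hy1, Ne.symm hne] at hab)
  rw [hM.card_B hβ, hk, Nat.card_fin] at h1
  omega

theorem Main.B_le {β : X.Vtx} (hβ : β.1 = !i) {H : Subgroup G} {z : G} (hz : z ∈ X.Zv β) (hz1 : z ≠ 1)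
    (hzH : z ∈ H) : X.Zv β ≤ H := fun x hx => by
  by_cases hx1 : x = 1
  · exact hx1 ▸ one_mem H
  · rwa [hM.B_eq hk hβ hx hz hx1 hz1]

/-- The module of a vertex modulo the centre of a neighbour has order two. -/
theorem Main.A_mul {α β : X.Vtx} (h : X.Adj α β) (hα : α.1 = i) {x y : G} (hx : x ∈ X.Zv α) (hy : y ∈ X.Zv α)
    (hxβ : x ∉ X.Zv β) (hyβ : y ∉ X.Zv β) : x⁻¹ * y ∈ X.Zv β := by
  obtain ⟨β', hβ', hne⟩ := exists_other hM.three h
  obtain ⟨a, ha, b, hb, rfl⟩ := (hM.structure_A h hβ' hne hα).2.1 x hx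
  obtain ⟨c, hc, d, hd, rfl⟩ := (hM.structure_A h hβ' hne hα).2.1 y hy
  have hb1 : b ≠ 1 := fun e => hxβ (by rw [e, mul_one]; exact ha)
  have hd1 : d ≠ 1 := fun e => hyβ (by rw [e, mul_one]; exact hc)
  obtain rfl : b = d := hM.B_eq hk (typeB hβ' hα) hb hd hb1 hd1
  have e : (a * b)⁻¹ * (c * b) = a⁻¹ * c := by
    have hbc : b * (a⁻¹ * c) = a⁻¹ * c * b :=
      hM.Zv_comm (hM.Zv_mono hβ' hα hb) (hM.Zv_mono h hα (mul_mem (inv_mem ha) hc))
    calc (a * b)⁻¹ * (c * b) = b⁻¹ * (a⁻¹ * c * b) := by group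
      _ = b⁻¹ * (b * (a⁻¹ * c)) := by rw [hbc]
      _ = _ := by group
  rw [e]
  exact mul_mem (inv_mem ha) hc

/-- The three centres around a vertex. -/
theorem Main.A_third {α β β' β'' : X.Vtx} (h : X.Adj α β) (h' : X.Adj α β') (h'' : X.Adj α β'') (hne : β' ≠ β)
    (hne' : β'' ≠ β) (hne'' : β'' ≠ β') (hα : α.1 = i) {x y : G} (hx : x ∈ X.Zv β) (hy : y ∈ X.Zv β')
    (hx1 : x ≠ 1) (hy1 : y ≠ 1) : x * y ∈ X.Zv β'' := by
  obtain ⟨z, hz, hz1⟩ := hM.exists_ne (typeB h'' hα)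
  obtain ⟨a, ha, b, hb, rfl⟩ := (hM.structure_A h h' hne hα).2.1 z (hM.Zv_mono h'' hα hz)
  have ha1 : a ≠ 1 := by
    rintro rfl
    rw [one_mul] at hz hz1
    exact hz1 (hM.inter h' h'' hne'' hα hb hz)
  have hb1 : b ≠ 1 := by
    rintro rfl
    rw [mul_one] at hz hz1
    exact hz1 (hM.inter h h'' hne' hα ha hz)
  rw [hM.B_eq hk (typeB h hα) hx ha hx1 ha1, hM.B_eq hk (typeB h' hα) hy hb hy1 hb1]
  exact hz

theorem Main.A_le {α β : X.Vtx} (h : X.Adj α β) (hα : α.1 = i) {H : Subgroup G} (hB : X.Zv β ≤ H) {x : G}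
    (hx : x ∈ X.Zv α) (hxβ : x ∉ X.Zv β) (hxH : x ∈ H) : X.Zv α ≤ H := fun y hy => by
  by_cases hyβ : y ∈ X.Zv β
  · exact hB hyβ
  · have := mul_mem hxH (hB (hM.A_mul hk h hα hx hy hxβ hyβ))
    rwa [mul_inv_cancel_left] at this

end Cfsg.Agent.LocalEven.Amalgam33
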