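import Cfsg.Agent.Lib.LocalEven.Amalgam33.Basic

/-!
# Amalgams of index (3, 3): one side moves the central involutions
-/

set_option autoImplicit false
set_option linter.style.haveILetI false

open Cfsg.Agent.Solv.Amalgam
open Cfsg.Agent.Solv.Amalgam.Data

namespace Cfsg.Agent.LocalEven.Amalgam33

universe u

variable {G : Type u} [Group G]

/-- The side `i` moves the central involutions, the other side centralizes them. -/
structure Main (X : Data G) (i : Bool) : Prop where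
  three : X.Three
  Z_le : ∀ j, X.Z ⊆ (X.Q j : Set G)
  moves : ∃ g ∈ X.P i, ∃ z ∈ X.Z, g * z ≠ z * g
  fixes : ∀ g ∈ X.P (!i), ∀ z ∈ X.Z, g * z = z * g

variable {X : Data G} {i : Bool} (hM : Main X i)
include hM

theorem Main.V_gen {j : Bool} {a : G} (ha : ∃ g ∈ X.P j, ∃ z ∈ X.Z, a = g * z * g⁻¹) :
    a ∈ X.Q j ∧ a * a = 1 ∧ ∀ q ∈ X.Q j, q * a = a * q := by
  obtain ⟨g, hg, z, hz, rfl⟩ := ha
  refine ⟨X.Q_normal j hg (hM.Z_le j hz), by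
    rw [show g * z * g⁻¹ * (g * z * g⁻¹) = g * (z * z) * g⁻¹ by group, hz.2.1, mul_one, mul_inv_cancel],
    fun q hq => ?_⟩
  have h1 := hz.2.2 _ ((X.dih j).Q_le (X.Q_normal j (inv_mem hg) hq))
  rw [inv_inv] at h1
  calc q * (g * z * g⁻¹) = g * (g⁻¹ * q * g * z) * g⁻¹ := by group
    _ = g * (z * (g⁻¹ * q * g)) * g⁻¹ := by rw [h1]
    _ = _ := by group

theorem Main.V_le (j : Bool) : X.V j ≤ X.Q j :=
  (Subgroup.closure_le _).2 fun _ ha => (hM.V_gen ha).1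

theorem Main.V_central {j : Bool} {v : G} (hv : v ∈ X.V j) {q : G} (hq : q ∈ X.Q j) : q * v = v * q := by
  induction hv using Subgroup.closure_induction with
  | mem a ha => exact (hM.V_gen ha).2.2 q hq
  | one => simp
  | mul a b _ _ ha hb => rw [← mul_assoc, ha, mul_assoc, hb, ← mul_assoc]
  | inv a _ ha => exact (Commute.inv_right ha).eq

theorem Main.V_sq {j : Bool} {v : G} (hv : v ∈ X.V j) : v * v = 1 := by
  induction hv using Subgroup.closure_induction with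
  | mem a ha => exact (hM.V_gen ha).2.1
  | one => simp
  | mul a b ha' hb' ha hb =>
    rw [show a * b * (a * b) = a * (b * a) * b by group, hM.V_central ha' (hM.V_le j hb'),
      show a * (a * b) * b = a * a * (b * b) by group, ha, hb, one_mul]
  | inv a _ ha => rw [← mul_inv_rev, ha, inv_one]

theorem Main.V_cent {t : G} (ht : t ∈ X.T) (h : ∀ v ∈ X.V i, t * v = v * t) : t ∈ X.Q i := by
  by_contra htQ
  obtain ⟨g, hg, z, hz, hne⟩ := hM.moves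
  refine hne ?_
  have hle : X.P i ≤ Subgroup.centralizer (X.V i : Set G) := by
    refine (X.dih i).le_of_mem (fun g hg a ha => ?_) (fun q hq => Subgroup.mem_centralizer_iff.2
      fun v hv => (hM.V_central hv hq).symm) ht htQ (Subgroup.mem_centralizer_iff.2 fun v hv => (h v hv).symm)
    refine Subgroup.mem_centralizer_iff.2 fun v hv => ?_
    have h1 := Subgroup.mem_centralizer_iff.1 ha _ (V_conj (inv_mem hg) hv)
    rw [inv_inv] at h1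
    calc v * (g * a * g⁻¹) = g * (g⁻¹ * v * g * a) * g⁻¹ := by group
      _ = g * (a * (g⁻¹ * v * g)) * g⁻¹ := by rw [h1]
      _ = _ := by group
  exact (Subgroup.mem_centralizer_iff.1 (hle hg) z (Z_le_V i hz)).symm

theorem Main.V_comm_Z {v t : G} (hv : v ∈ X.V i) (ht : t ∈ X.T) : v * t * v⁻¹ * t⁻¹ ∈ X.Z := by
  have hV : v * t * v⁻¹ * t⁻¹ ∈ X.V i := by
    rw [show v * t * v⁻¹ * t⁻¹ = v * (t * v⁻¹ * t⁻¹) by group]
    exact mul_mem hv (V_conj ((X.dih i).T_le ht) (inv_mem hv))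
  refine ⟨(X.dih i).Q_le (hM.V_le i hV), hM.V_sq hV, ?_⟩
  intro s hs
  by_cases hsQ : s ∈ X.Q i
  · exact hM.V_central hV hsQ
  by_cases htQ : t ∈ X.Q i
  · rw [show v * t * v⁻¹ * t⁻¹ = 1 by rw [← hM.V_central hv htQ]; group, mul_one, one_mul]
  have hst := (X.dih i).two t ht s hs htQ hsQ
  have htt : t * t ∈ X.Q i := by
    have h2 := (X.dih i).two _ (inv_mem ht) t ht (fun h => htQ (by simpa using inv_mem h)) htQ
    rwa [inv_inv] at h2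
  have key : t * (v * t * v⁻¹ * t⁻¹) = v * t * v⁻¹ * t⁻¹ * t := by
    calc t * (v * t * v⁻¹ * t⁻¹) = t * v * t⁻¹ * ((t * t) * v⁻¹) * t⁻¹ := by group
      _ = t * v * t⁻¹ * (v⁻¹ * (t * t)) * t⁻¹ := by rw [hM.V_central (inv_mem hv) htt]
      _ = (v * t * v⁻¹ * t⁻¹)⁻¹ * t := by group
      _ = _ := by rw [inv_eq_of_mul_eq_one_right (hM.V_sq hV)]
  calc s * (v * t * v⁻¹ * t⁻¹) = t * ((t⁻¹ * s) * (v * t * v⁻¹ * t⁻¹)) := by group
    _ = t * ((v * t * v⁻¹ * t⁻¹) * (t⁻¹ * s)) := by rw [hM.V_central hV hst]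
    _ = (t * (v * t * v⁻¹ * t⁻¹)) * (t⁻¹ * s) := by group
    _ = _ := by rw [key]; group

/-! ### The modules at the vertices -/

theorem Main.Zv_le (v : X.Vtx) : X.Zv v ≤ X.Qv v := cnj_mono _ (hM.V_le v.1)

theorem Main.Zv_central {v : X.Vtx} {z q : G} (hz : z ∈ X.Zv v) (hq : q ∈ X.Qv v) : q * z = z * q := by
  obtain ⟨j, g, rfl⟩ := X.exists_vtx v
  rw [Zv_vtx, mem_cnj] at hz
  rw [Qv_vtx, mem_cnj] at hq
  calc q * z = g * ((g⁻¹ * q * g) * (g⁻¹ * z * g)) * g⁻¹ := by group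
    _ = g * ((g⁻¹ * z * g) * (g⁻¹ * q * g)) * g⁻¹ := by rw [hM.V_central hz hq]
    _ = _ := by group

theorem Main.Zv_sq {v : X.Vtx} {z : G} (hz : z ∈ X.Zv v) : z * z = 1 := by
  obtain ⟨j, g, rfl⟩ := X.exists_vtx v
  rw [Zv_vtx, mem_cnj] at hz
  calc z * z = g * ((g⁻¹ * z * g) * (g⁻¹ * z * g)) * g⁻¹ := by group
    _ = 1 := by rw [hM.V_sq hz, mul_one, mul_inv_cancel]

theorem Main.Zv_inv {v : X.Vtx} {z : G} (hz : z ∈ X.Zv v) : z⁻¹ = z :=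
  inv_eq_of_mul_eq_one_right (hM.Zv_sq hz)

theorem Main.Zv_comm {v : X.Vtx} {z z' : G} (hz : z ∈ X.Zv v) (hz' : z' ∈ X.Zv v) : z * z' = z' * z :=
  hM.Zv_central hz' (hM.Zv_le v hz)

omit hM in
theorem typeB {α β : X.Vtx} (h : X.Adj α β) (hα : α.1 = i) : β.1 = !i := by rw [adj_type h, hα]

omit hM in
theorem typeA {β α : X.Vtx} (h : X.Adj β α) (hβ : β.1 = !i) : α.1 = i := by
  rw [adj_type h, hβ, Bool.not_not]

theorem Main.Zv_mono {α β : X.Vtx} (h : X.Adj α β) (hα : α.1 = i) : X.Zv β ≤ X.Zv α := by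
  obtain ⟨g, j, rfl, rfl⟩ := h
  obtain rfl : j = i := hα
  rw [Zv_vtx, Zv_vtx]
  refine cnj_mono g ((Subgroup.closure_le _).2 ?_)
  rintro _ ⟨p, hp, z, hz, rfl⟩
  show p * z * p⁻¹ ∈ X.V j
  rw [hM.fixes p hp z hz, mul_inv_cancel_right]
  exact Z_le_V j hz

theorem Main.St_B {β : X.Vtx} (hβ : β.1 = !i) {g z : G} (hg : g ∈ X.St β) (hz : z ∈ X.Zv β) :
    g * z = z * g := by
  obtain ⟨j, a, rfl⟩ := X.exists_vtx β
  obtain rfl : j = !i := hβ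
  rw [Zv_vtx, mem_cnj] at hz
  rw [St_vtx, mem_cnj] at hg
  have key : ∀ p ∈ X.P (!i), ∀ v ∈ X.V (!i), p * v = v * p := by
    intro p hp v hv
    induction hv using Subgroup.closure_induction with
    | mem b hb =>
      obtain ⟨q, hq, w, hw, rfl⟩ := hb
      rw [hM.fixes q hq w hw, mul_inv_cancel_right]
      exact hM.fixes p hp w hw
    | one => simp
    | mul b c _ _ hb hc => exact (Commute.mul_right hb hc).eq
    | inv b _ hb => exact (Commute.inv_right hb).eq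
  calc g * z = a * ((a⁻¹ * g * a) * (a⁻¹ * z * a)) * a⁻¹ := by group
    _ = a * ((a⁻¹ * z * a) * (a⁻¹ * g * a)) * a⁻¹ := by rw [key _ hg _ hz]
    _ = _ := by group

theorem Main.St_B_conj {β : X.Vtx} (hβ : β.1 = !i) {g z : G} (hg : g ∈ X.St β) (hz : z ∈ X.Zv β) :
    g * z * g⁻¹ = z := by
  rw [hM.St_B hβ hg hz, mul_inv_cancel_right]

theorem Main.cent {α β : X.Vtx} (h : X.Adj α β) (hα : α.1 = i) {t : G} (ht : t ∈ X.Tv α β)
    (hc : ∀ z ∈ X.Zv α, t * z = z * t) : t ∈ X.Qv α := by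
  obtain ⟨g, j, rfl, rfl⟩ := h
  obtain rfl : j = i := hα
  rw [Tv_vtx, mem_cnj] at ht
  rw [Qv_vtx, mem_cnj]
  refine hM.V_cent ht fun z hz => ?_
  calc g⁻¹ * t * g * z = g⁻¹ * (t * (g * z * g⁻¹)) * g := by group
    _ = g⁻¹ * ((g * z * g⁻¹) * t) * g := by rw [hc _ (by rw [Zv_vtx]; exact cnj_conj_mem.2 hz)]
    _ = _ := by group

/-- A centralizer of the module of a neighbour lies in its core. -/
theorem Main.cent' {α β : X.Vtx} (h : X.Adj β α) (hβ : β.1 = !i) {t : G} (ht : t ∈ X.Qv β)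
    (hc : ∀ z ∈ X.Zv α, t * z = z * t) : t ∈ X.Qv α :=
  hM.cent (adj_symm h) (typeA h hβ) ((Tv_comm β α) ▸ Qv_le_Tv h ht) hc

theorem Main.comm_mem {α β : X.Vtx} (h : X.Adj α β) (hα : α.1 = i) {z t : G} (hz : z ∈ X.Zv α)
    (ht : t ∈ X.Tv α β) : z * t * z⁻¹ * t⁻¹ ∈ X.Zv β := by
  obtain ⟨g, j, rfl, rfl⟩ := h
  obtain rfl : j = i := hα
  rw [Zv_vtx, mem_cnj] at hz ⊢
  rw [Tv_vtx, mem_cnj] at ht
  rw [show g⁻¹ * (z * t * z⁻¹ * t⁻¹) * g =
    (g⁻¹ * z * g) * (g⁻¹ * t * g) * (g⁻¹ * z * g)⁻¹ * (g⁻¹ * t * g)⁻¹ by group]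
  exact Z_le_V (!j) (hM.V_comm_Z hz ht)

theorem Main.comm_mem' {α β : X.Vtx} (h : X.Adj α β) (hα : α.1 = i) {z t : G} (hz : z ∈ X.Zv α)
    (ht : t ∈ X.Tv α β) : t * z * t⁻¹ * z⁻¹ ∈ X.Zv β := by
  rw [show t * z * t⁻¹ * z⁻¹ = (z * t * z⁻¹ * t⁻¹)⁻¹ by group]
  exact inv_mem (hM.comm_mem h hα hz ht)

/-- Central involutions of an edge group. -/
theorem Main.central_mem {α β : X.Vtx} (h : X.Adj α β) (hα : α.1 = i) {w : G} (hw : w ∈ X.Tv α β)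
    (hw2 : w * w = 1) (hc : ∀ t ∈ X.Tv α β, t * w = w * t) : w ∈ X.Zv β := by
  obtain ⟨g, j, rfl, rfl⟩ := h
  obtain rfl : j = i := hα
  rw [Tv_vtx, mem_cnj] at hw
  rw [Zv_vtx, mem_cnj]
  refine Z_le_V (!j) ⟨hw, ?_, fun t ht => ?_⟩
  · rw [show g⁻¹ * w * g * (g⁻¹ * w * g) = g⁻¹ * (w * w) * g by group, hw2]; group
  · have := hc (g * t * g⁻¹) (by rw [Tv_vtx]; exact cnj_conj_mem.2 ht)
    calc t * (g⁻¹ * w * g) = g⁻¹ * (g * t * g⁻¹ * w) * g := by group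
      _ = g⁻¹ * (w * (g * t * g⁻¹)) * g := by rw [this]
      _ = _ := by group

omit hM in
theorem Zv_le_Tv' {α β : X.Vtx} (h : X.Adj α β) (hle : X.Zv α ≤ X.Qv α) : X.Zv α ≤ X.Tv α β :=
  hle.trans (Qv_le_Tv h)

theorem Main.fixed_mem {α β : X.Vtx} (h : X.Adj α β) (hα : α.1 = i) {z t : G} (hz : z ∈ X.Zv α)
    (ht : t ∈ X.Tv α β) (htQ : t ∉ X.Qv α) (hc : t * z = z * t) : z ∈ X.Zv β := by
  refine hM.central_mem h hα (Zv_le_Tv' h (hM.Zv_le α) hz) (hM.Zv_sq hz) fun s hs => ?_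
  have : X.Tv α β ≤ Subgroup.centralizer ({z} : Set G) :=
    Tv_le_of_mem h (fun q hq => Subgroup.mem_centralizer_singleton_iff.2 (hM.Zv_central hz hq)) ht htQ
      (Subgroup.mem_centralizer_singleton_iff.2 hc)
  exact Subgroup.mem_centralizer_singleton_iff.1 (this hs)

theorem Main.inter {α β β' : X.Vtx} (h : X.Adj α β) (h' : X.Adj α β') (hne : β' ≠ β) (hα : α.1 = i) {y : G}
    (hy : y ∈ X.Zv β) (hy' : y ∈ X.Zv β') : y = 1 := by
  have hle : X.St α ≤ Subgroup.centralizer ({y} : Set G) := gen_two hM.three h h' hne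
    (fun t ht => Subgroup.mem_centralizer_singleton_iff.2 (hM.St_B (typeB h hα) ht.2 hy))
    (fun t ht => Subgroup.mem_centralizer_singleton_iff.2 (hM.St_B (typeB h' hα) ht.2 hy'))
  have hyT : y ∈ X.Tv α β := Zv_le_Tv' h (hM.Zv_le α) (hM.Zv_mono h hα hy)
  have := edge_faithful h (N := Subgroup.zpowers y) (Subgroup.zpowers_le.2 hyT)
    (fun a ha n hn => by
      obtain ⟨k, rfl⟩ := Subgroup.mem_zpowers_iff.1 hn
      rw [((Commute.zpow_right (Subgroup.mem_centralizer_singleton_iff.1 (hle ha)) k) : a * y ^ k = y ^ k * a),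
        mul_inv_cancel_right]
      exact hn)
    (fun a ha n hn => by
      obtain ⟨k, rfl⟩ := Subgroup.mem_zpowers_iff.1 hn
      rw [((Commute.zpow_right (hM.St_B (typeB h hα) ha hy) k) : a * y ^ k = y ^ k * a), mul_inv_cancel_right]
      exact hn)
  exact Subgroup.zpowers_eq_bot.1 this

theorem Main.card_B {β : X.Vtx} (hβ : β.1 = !i) : Nat.card (X.Zv β) = Nat.card (X.V (!i)) := by
  obtain ⟨j, a, rfl⟩ := X.exists_vtx β
  obtain rfl : j = !i := hβ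
  rw [Zv_vtx, card_cnj]

theorem Main.Zv_finite (v : X.Vtx) : Finite (X.Zv v) := finite_le_St ((hM.Zv_le v).trans (Qv_le_St v))

/-- The module of a vertex is the product of two neighbouring centres, exchanged by a reflection. -/
theorem Main.structure_A {α β β' : X.Vtx} (h : X.Adj α β) (h' : X.Adj α β') (hne : β' ≠ β) (hα : α.1 = i) :
    Nat.card (X.Zv α) = Nat.card (X.V (!i)) * Nat.card (X.V (!i)) ∧
    (∀ z ∈ X.Zv α, ∃ x ∈ X.Zv β, ∃ y ∈ X.Zv β', z = x * y) ∧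
    (∀ t ∈ X.Tv α β, t ∉ X.Qv α → ∀ c ∈ X.Zv β, ∃ y ∈ X.Zv β', y * t * y⁻¹ * t⁻¹ = c) := by
  haveI := hM.Zv_finite α
  haveI := hM.Zv_finite β
  haveI := hM.Zv_finite β'
  have hker : ∀ t ∈ X.Tv α β, t ∉ X.Qv α → ∀ x ∈ X.Zv α, ∀ y ∈ X.Zv α,
      x * t * x⁻¹ * t⁻¹ = y * t * y⁻¹ * t⁻¹ → x⁻¹ * y ∈ X.Zv β := by
    intro t ht htQ x hx y hy e
    refine hM.fixed_mem h hα (mul_mem (inv_mem hx) hy) ht htQ ?_
    have e' : x * t * x⁻¹ = y * t * y⁻¹ := mul_right_cancel e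
    calc t * (x⁻¹ * y) = x⁻¹ * (x * t * x⁻¹) * y := by group
      _ = x⁻¹ * (y * t * y⁻¹) * y := by rw [e']
      _ = _ := by group
  obtain ⟨t₀, -, ht₀, ht₀Q⟩ := exists_refl h
  have hle : Nat.card (X.Zv α) ≤ Nat.card (X.Zv β) * Nat.card (X.Zv β) :=
    card_le_mul (fun z => z * t₀ * z⁻¹ * t₀⁻¹) (fun z hz => hM.comm_mem h hα hz ht₀) (hker t₀ ht₀ ht₀Q)
  have hinj : Function.Injective (fun p : X.Zv β × X.Zv β' =>
      (⟨(p.1 : G) * p.2, mul_mem (hM.Zv_mono h hα p.1.2) (hM.Zv_mono h' hα p.2.2)⟩ : X.Zv α)) := by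
    rintro ⟨⟨a, ha⟩, ⟨b, hb⟩⟩ ⟨⟨a', ha'⟩, ⟨b', hb'⟩⟩ e
    have e' : a * b = a' * b' := congrArg Subtype.val e
    have h1 : a'⁻¹ * a = b' * b⁻¹ := by
      calc a'⁻¹ * a = a'⁻¹ * (a * b) * b⁻¹ := by group
        _ = _ := by rw [e']; group
    have h2 : a'⁻¹ * a = 1 :=
      hM.inter h h' hne hα (mul_mem (inv_mem ha') ha) (h1 ▸ mul_mem hb' (inv_mem hb))
    obtain rfl : a' = a := inv_mul_eq_one.1 h2
    obtain rfl : b = b' := mul_left_cancel e'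
    rfl
  have hcB := hM.card_B (typeB h hα)
  have hcB' := hM.card_B (typeB h' hα)
  have hge := Nat.card_le_card_of_injective _ hinj
  rw [Nat.card_prod, hcB, hcB'] at hge
  rw [hcB] at hle
  have hcard := le_antisymm hle hge
  refine ⟨hcard, fun z hz => ?_, fun t ht htQ c hc => ?_⟩
  · have hs := (Function.Injective.bijective_of_nat_card_le hinj (by
      rw [Nat.card_prod, hcB, hcB', hcard])).2
    obtain ⟨⟨⟨a, ha⟩, ⟨b, hb⟩⟩, e⟩ := hs ⟨z, hz⟩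
    exact ⟨a, ha, b, hb, (congrArg Subtype.val e).symm⟩
  · have hf : Function.Injective (fun y : X.Zv β' =>
        (⟨(y : G) * t * (y : G)⁻¹ * t⁻¹, hM.comm_mem h hα (hM.Zv_mono h' hα y.2) ht⟩ : X.Zv β)) := by
      intro y y' e
      refine Subtype.ext (inv_mul_eq_one.1 (hM.inter h h' hne hα ?_ (mul_mem (inv_mem y.2) y'.2)))
      exact hker t ht htQ y (hM.Zv_mono h' hα y.2) y' (hM.Zv_mono h' hα y'.2) (congrArg Subtype.val e)
    obtain ⟨y, e⟩ := (Function.Injective.bijective_of_nat_card_le hf (by rw [hcB, hcB'])).2 ⟨c, hc⟩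
    exact ⟨y, y.2, congrArg Subtype.val e⟩

theorem Main.one_lt_card : 1 < Nat.card (X.V (!i)) := by
  obtain ⟨z, hz, hz1⟩ := X.Z_nontrivial
  haveI := X.V_finite (!i)
  exact Finite.one_lt_card_iff_nontrivial.2 ⟨⟨z, Z_le_V _ hz⟩, 1, fun e => hz1 (congrArg Subtype.val e)⟩

/-- The modules of two neighbours of a vertex of the second kind meet in its centre. -/
theorem Main.inter_A {β α ε : X.Vtx} (hα : X.Adj β α) (hε : X.Adj β ε) (hne : ε ≠ α) (hβ : β.1 = !i) {u : G}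
    (hu : u ∈ X.Zv α) (hu' : u ∈ X.Zv ε) : u ∈ X.Zv β := by
  have ha := typeA hα hβ
  have he := typeA hε hβ
  obtain ⟨γ, hγ, hγα, hγε, -⟩ := third hM.three hα hε hne
  obtain ⟨β', hβ', hβ'ne⟩ := exists_other hM.three (adj_symm hα)
  obtain ⟨x, hx, y, hy, rfl⟩ := (hM.structure_A (adj_symm hα) hβ' hβ'ne ha).2.1 u hu
  suffices y = 1 by rw [this, mul_one]; exact hx
  by_contra hy1
  have hyA := hM.Zv_mono hβ' ha hy
  have hye : y ∈ X.Zv ε := by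
    have := mul_mem (inv_mem (hM.Zv_mono (adj_symm hε) he hx)) hu'
    rwa [inv_mul_cancel_left] at this
  -- the third neighbour
  obtain ⟨q, hqe, hq, hqβ⟩ := exists_refl hε
  have hqα : X.act q α = γ := swap hM.three hε hα hγ hne.symm hγε hγα hq hqβ
  have hyg : y ∈ X.Zv γ := by
    have h1 : q * y * q⁻¹ ∈ X.Zv (X.act q α) := by rw [Zv_act]; exact cnj_conj_mem.2 hyA
    rwa [hqα, hM.Zv_central hye hqe, mul_inv_cancel_right] at h1
  -- the three conjugates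
  obtain ⟨g, hg, hgβ⟩ := exists_act_nbr hβ' (adj_symm hα)
  obtain ⟨q₁, -, hq₁, hq₁Q⟩ := exists_refl (adj_symm hα)
  obtain ⟨β'', hβ'', hb1, hb2, -⟩ := third hM.three hβ' (adj_symm hα) hβ'ne.symm
  obtain ⟨g', hg', hg'β⟩ := exists_act_nbr hβ' hβ''
  have huniq : ∀ a b, a ∈ X.St α → b ∈ X.St α → X.act a β' = X.act b β' → a * y * a⁻¹ = b * y * b⁻¹ := by
    intro a b ha' hb' e
    have h1 : b⁻¹ * a ∈ X.St β' := by
      rw [mem_St_iff, ← act_act, e, act_act, inv_mul_cancel, act_one]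
    calc a * y * a⁻¹ = b * ((b⁻¹ * a) * y * (b⁻¹ * a)⁻¹) * b⁻¹ := by group
      _ = _ := by rw [hM.St_B_conj (typeB hβ' ha) h1 hy]
  set y₁ := g' * y * g'⁻¹ with hy₁def
  set y₂ := g * y * g⁻¹ with hy₂def
  have hy₁ : y₁ ∈ X.Zv β'' := by rw [← hg'β, Zv_act]; exact cnj_conj_mem.2 hy
  have hy₂ : y₂ ∈ X.Zv β := by rw [← hgβ, Zv_act]; exact cnj_conj_mem.2 hy
  have hq₁y : q₁ * y * q₁⁻¹ = y₁ := huniq _ _ hq₁.1 hg' (by
    rw [hg'β]; exact swap hM.three (adj_symm hα) hβ' hβ'' hβ'ne hb2 hb1 hq₁ hq₁Q)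
  have hy₁A := hM.Zv_mono hβ'' ha hy₁
  have hy₂A := hM.Zv_mono (adj_symm hα) ha hy₂
  have hy₂e : y₂ * y₂ = 1 := hM.Zv_sq hy₂
  -- the product of the three is trivial
  obtain ⟨q₂, -, hq₂, hq₂Q⟩ := exists_refl hβ'
  have hq₂y₂ : q₂ * y₂ * q₂⁻¹ = y₁ := by
    rw [hy₂def, show q₂ * (g * y * g⁻¹) * q₂⁻¹ = (q₂ * g) * y * (q₂ * g)⁻¹ by group]
    refine huniq _ _ (mul_mem hq₂.1 hg) hg' ?_
    rw [← act_act, hgβ, hg'β]
    exact swap hM.three hβ' (adj_symm hα) hβ'' hβ'ne.symm hb1 hb2 hq₂ hq₂Q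
  have hc12 : ∀ {a b}, a ∈ X.Zv α → b ∈ X.Zv α → a * b = b * a := fun {a b} => hM.Zv_comm
  set p := y * y₁ * y₂ with hp
  have hpA : p ∈ X.Zv α := mul_mem (mul_mem hyA hy₁A) hy₂A
  have hp1 : p = 1 := by
    have hq₁p : q₁ * p = p * q₁ := by
      have e1 : q₁ * y₁ * q₁⁻¹ = y := by
        rw [← hq₁y, show q₁ * (q₁ * y * q₁⁻¹) * q₁⁻¹ = (q₁ * q₁) * y * (q₁ * q₁)⁻¹ by group,
          hM.Zv_central hyA (sq_mem (adj_symm hα) hq₁), mul_inv_cancel_right]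
      rw [← mul_inv_eq_iff_eq_mul, hp, show q₁ * (y * y₁ * y₂) * q₁⁻¹ =
        (q₁ * y * q₁⁻¹) * (q₁ * y₁ * q₁⁻¹) * (q₁ * y₂ * q₁⁻¹) by group, hq₁y, e1,
        hM.St_B_conj hβ hq₁.2 hy₂, hc12 hy₁A hyA]
    have hq₂p : q₂ * p = p * q₂ := by
      have e1 : q₂ * y₁ * q₂⁻¹ = y₂ := by
        rw [← hq₂y₂, show q₂ * (q₂ * y₂ * q₂⁻¹) * q₂⁻¹ = (q₂ * q₂) * y₂ * (q₂ * q₂)⁻¹ by group,
          hM.Zv_central hy₂A (sq_mem hβ' hq₂), mul_inv_cancel_right]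
      rw [← mul_inv_eq_iff_eq_mul, hp, show q₂ * (y * y₁ * y₂) * q₂⁻¹ =
        (q₂ * y * q₂⁻¹) * (q₂ * y₁ * q₂⁻¹) * (q₂ * y₂ * q₂⁻¹) by group, hq₂y₂, e1,
        hM.St_B_conj (typeB hβ' ha) hq₂.2 hy, mul_assoc y y₂, mul_assoc y y₁, hc12 hy₂A hy₁A]
    exact hM.inter (adj_symm hα) hβ' hβ'ne ha (hM.fixed_mem (adj_symm hα) ha hpA hq₁ hq₁Q hq₁p)
      (hM.fixed_mem hβ' ha hpA hq₂ hq₂Q hq₂p)
  have hy₁eq : y₁ = y * y₂ := by
    calc y₁ = y⁻¹ * (y * y₁ * y₂) * y₂⁻¹ := by group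
      _ = y⁻¹ * y₂⁻¹ := by rw [← hp, hp1, mul_one]
      _ = _ := by rw [hM.Zv_inv hy, hM.Zv_inv hy₂]
  -- a subgroup normalized by both stabilisers
  set N := Subgroup.closure ({y, y₂} : Set G) with hN
  have hyN : y ∈ N := Subgroup.subset_closure (by simp)
  have hy₂N : y₂ ∈ N := Subgroup.subset_closure (by simp)
  have hNA : N ≤ X.Zv α := by
    rw [hN, Subgroup.closure_le]
    rintro a (rfl | rfl)
    exacts [hyA, hy₂A]
  haveI : Finite N := finite_le_St (hNA.trans ((hM.Zv_le α).trans (Qv_le_St α)))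
  have hnorm : ∀ t, t * y * t⁻¹ ∈ N → t * y₂ * t⁻¹ ∈ N → t ∈ Subgroup.normalizer (N : Set G) := by
    intro t h1 h2
    refine mem_normalizer_of_finite fun a ha => ?_
    refine (Subgroup.closure_le (N.comap (MulAut.conj t).toMonoidHom)).2 ?_ ha
    rintro b (rfl | rfl)
    exacts [h1, h2]
  have hTαβ : X.Tv α β ≤ Subgroup.normalizer (N : Set G) := by
    refine Tv_le_of_mem (adj_symm hα) (fun t ht => hnorm t ?_ ?_) hq₁ hq₁Q (hnorm q₁ ?_ ?_)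
    · rwa [hM.Zv_central hyA ht, mul_inv_cancel_right]
    · rwa [hM.Zv_central hy₂A ht, mul_inv_cancel_right]
    · rw [hq₁y, hy₁eq]; exact mul_mem hyN hy₂N
    · rwa [hM.St_B_conj hβ hq₁.2 hy₂]
  have hTαβ' : X.Tv α β' ≤ Subgroup.normalizer (N : Set G) := by
    refine Tv_le_of_mem hβ' (fun t ht => hnorm t ?_ ?_) hq₂ hq₂Q (hnorm q₂ ?_ ?_)
    · rwa [hM.Zv_central hyA ht, mul_inv_cancel_right]
    · rwa [hM.Zv_central hy₂A ht, mul_inv_cancel_right]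
    · rwa [hM.St_B_conj (typeB hβ' ha) hq₂.2 hy]
    · rw [hq₂y₂, hy₁eq]; exact mul_mem hyN hy₂N
  have hSα := gen_two hM.three (adj_symm hα) hβ' hβ'ne hTαβ hTαβ'
  have hSβ : X.St β ≤ Subgroup.normalizer (N : Set G) := by
    refine gen hM.three hα (by rw [Tv_comm]; exact hTαβ) hq.1 (by rw [hqα]; exact hγα) (hnorm q ?_ ?_)
    · rwa [hM.Zv_central hye hqe, mul_inv_cancel_right]
    · rwa [hM.St_B_conj hβ hq.1 hy₂]
  have hbot := edge_faithful (adj_symm hα) (hNA.trans (Zv_le_Tv' (adj_symm hα) (hM.Zv_le α)))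
    (fun a ha n hn => (Subgroup.mem_normalizer_iff.1 (hSα ha) n).1 hn)
    (fun a ha n hn => (Subgroup.mem_normalizer_iff.1 (hSβ ha) n).1 hn)
  rw [hbot, Subgroup.mem_bot] at hyN
  exact hy1 hyN

end Cfsg.Agent.LocalEven.Amalgam33
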