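import Cfsg.Agent.Lib.LocalEven.Amalgam33.Setup

/-!
# Amalgams of index (3, 3): critical distance and transitivity on walks
-/

set_option autoImplicit false
set_option linter.style.haveILetI false

open Cfsg.Agent.Solv.Amalgam
open Cfsg.Agent.Solv.Amalgam.Data

namespace Cfsg.Agent.LocalEven.Amalgam33

universe u

variable {G : Type u} [Group G]

/-- Being joined by a walk of the given length. -/
inductive Reach (X : Data G) : X.Vtx → X.Vtx → ℕ → Prop
  | refl (v : X.Vtx) : Reach X v v 0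
  | step {u v w : X.Vtx} {n : ℕ} : X.Adj u v → Reach X v w n → Reach X u w (n + 1)

variable {X : Data G} {i : Bool}

theorem Reach.one {u v : X.Vtx} (h : X.Adj u v) : Reach X u v 1 := Reach.step h (Reach.refl v)

theorem Reach.two {u v w : X.Vtx} (h : X.Adj u v) (h' : X.Adj v w) : Reach X u w 2 := Reach.step h (Reach.one h')

theorem Reach.trans {u v w : X.Vtx} {m n : ℕ} (h : Reach X u v m) (h' : Reach X v w n) :
    Reach X u w (m + n) := by
  induction h with
  | refl v => rwa [Nat.zero_add]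
  | @step a b c k hab hr ih => rw [Nat.add_right_comm]; exact Reach.step hab (ih h')

theorem Reach.symm {u v : X.Vtx} {n : ℕ} (h : Reach X u v n) : Reach X v u n := by
  induction h with
  | refl v => exact Reach.refl v
  | @step a b c k hab hr ih => exact ih.trans (Reach.one (adj_symm hab))

theorem Reach.cast {u v : X.Vtx} {m n : ℕ} (h : Reach X u v m) (e : m = n) : Reach X u v n := e ▸ h

theorem Reach.of_walk {f : ℕ → X.Vtx} {n : ℕ} (h : X.Walk f n) (j k : ℕ) (hjk : j + k ≤ n) :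
    Reach X (f j) (f (j + k)) k := by
  induction k generalizing j with
  | zero => exact Reach.refl _
  | succ k ih =>
    refine Reach.step (h j (by omega)) ?_
    rw [show j + (k + 1) = j + 1 + k by omega]
    exact ih (j + 1) (by omega)

/-- The segment between two indices of a walk. -/
theorem Reach.seg {f : ℕ → X.Vtx} {n : ℕ} (h : X.Walk f n) {j k : ℕ} (hjk : j ≤ k) (hk : k ≤ n) :
    Reach X (f j) (f k) (k - j) := by
  have := Reach.of_walk h j (k - j) (by omega)
  rwa [show j + (k - j) = k by omega] at this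

theorem Reach.exists_walk {u v : X.Vtx} {n : ℕ} (h : Reach X u v n) :
    ∃ f, X.Walk f n ∧ f 0 = u ∧ f n = v := by
  induction h with
  | refl v => exact ⟨fun _ => v, fun k hk => absurd hk (Nat.not_lt_zero k), rfl, rfl⟩
  | @step a b c k hab hr ih =>
    obtain ⟨f, hf, h0, hn⟩ := ih
    exact ⟨X.cons a f, walk_cons (h0.symm ▸ hab) hf, rfl, hn⟩

/-- Walks without backtracking. -/
def NB (X : Data G) (f : ℕ → X.Vtx) (n : ℕ) : Prop := X.Walk f n ∧ ∀ k, k + 2 ≤ n → f k ≠ f (k + 2)

theorem type_step {f : ℕ → X.Vtx} {n k : ℕ} (h : X.Walk f n) (hk : k < n) : (f (k + 1)).1 = !(f k).1 :=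
  adj_type (h k hk)

theorem type_even {f : ℕ → X.Vtx} {n : ℕ} (h : X.Walk f n) (k : ℕ) (hk : 2 * k ≤ n) :
    (f (2 * k)).1 = (f 0).1 := by
  induction k with
  | zero => rfl
  | succ k ih =>
    rw [show 2 * (k + 1) = 2 * k + 1 + 1 by omega, type_step h (by omega), type_step h (by omega),
      ih (by omega), Bool.not_not]

theorem type_of_even {f : ℕ → X.Vtx} {n k : ℕ} (h : X.Walk f n) (hk : k ≤ n) (he : Even k) :
    (f k).1 = (f 0).1 := by
  obtain ⟨m, rfl⟩ := even_iff_two_dvd.1 he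
  exact type_even h m hk

theorem type_of_odd {f : ℕ → X.Vtx} {n k : ℕ} (h : X.Walk f n) (hk : k ≤ n) (he : Odd k) :
    (f k).1 = !(f 0).1 := by
  obtain ⟨m, rfl⟩ := he
  rw [type_step h (by omega), type_even h m (by omega)]

theorem NB.shift {f : ℕ → X.Vtx} {n : ℕ} (h : NB X f n) (p m : ℕ) (hp : p + m ≤ n) :
    NB X (fun k => f (p + k)) m :=
  ⟨fun k hk => by
    show X.Adj (f (p + k)) (f (p + (k + 1)))
    exact h.1 (p + k) (by omega), fun k hk => by
    show f (p + k) ≠ f (p + (k + 2))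
    exact h.2 (p + k) (by omega)⟩

theorem NB.rev {f : ℕ → X.Vtx} {n : ℕ} (h : NB X f n) : NB X (fun k => f (n - k)) n :=
  ⟨walk_rev h.1, fun k hk => by
    show f (n - k) ≠ f (n - (k + 2))
    rw [show n - k = n - (k + 2) + 2 by omega]
    exact (h.2 _ (by omega)).symm⟩

theorem NB.le {f : ℕ → X.Vtx} {m n : ℕ} (h : NB X f n) (hm : m ≤ n) : NB X f m :=
  ⟨walk_le h.1 hm, fun k hk => h.2 k (by omega)⟩

theorem NB.cons {a : X.Vtx} {f : ℕ → X.Vtx} {n : ℕ} (ha : X.Adj a (f 0)) (hne : a ≠ f 1) (h : NB X f n) :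
    NB X (X.cons a f) (n + 1) := by
  refine ⟨walk_cons ha h.1, fun k hk => ?_⟩
  rcases k with _ | k
  · exact hne
  · exact h.2 k (by omega)

theorem NB.act {f : ℕ → X.Vtx} {n : ℕ} (h : NB X f n) (a : G) : NB X (fun k => X.act a (f k)) n :=
  ⟨fun k hk => adj_act (h.1 k hk) a, fun k hk e => h.2 k hk (act_inj e)⟩

/-- The walk with another last vertex. -/
theorem NB.set_last {f : ℕ → X.Vtx} {n : ℕ} (h : NB X f (n + 2)) {x : X.Vtx} (hx : X.Adj (f (n + 1)) x)
    (hne : x ≠ f n) : NB X (fun k => if k = n + 2 then x else f k) (n + 2) := by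
  refine ⟨fun k hk => ?_, fun k hk => ?_⟩
  · show X.Adj (if k = n + 2 then x else f k) (if k + 1 = n + 2 then x else f (k + 1))
    rw [if_neg (by omega)]
    by_cases e : k + 1 = n + 2
    · rw [if_pos e, show k = n + 1 by omega]; exact hx
    · rw [if_neg e]; exact h.1 k hk
  · show (if k = n + 2 then x else f k) ≠ (if k + 2 = n + 2 then x else f (k + 2))
    rw [if_neg (by omega)]
    by_cases e : k + 2 = n + 2
    · rw [if_pos e, show k = n by omega]; exact hne.symm
    · rw [if_neg e]; exact h.2 k hk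

/-- Transitivity on walks without backtracking of the given length starting at the given side. -/
def Trans (X : Data G) (j : Bool) (n : ℕ) : Prop :=
  ∀ f g, NB X f n → NB X g n → (f 0).1 = j → (g 0).1 = j → ∃ a, ∀ k ≤ n, X.act a (f k) = g k

theorem trans_zero (j : Bool) : Trans X j 0 := by
  intro f g _ _ hf hg
  obtain ⟨j1, a, ha⟩ := X.exists_vtx (f 0)
  obtain ⟨j2, c, hc⟩ := X.exists_vtx (g 0)
  refine ⟨c * a⁻¹, fun k hk => ?_⟩
  obtain rfl : k = 0 := by omega
  rw [ha] at hf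
  rw [hc] at hg
  obtain rfl : j1 = j := hf
  obtain rfl : j2 = j1 := hg
  rw [ha, hc, act_vtx, inv_mul_cancel_right]

theorem trans_one (j : Bool) : Trans X j 1 := by
  intro f g hf hg h0 h0'
  obtain ⟨a, e0, e1⟩ := exists_act_edge (hf.1 0 (by omega)) (hg.1 0 (by omega)) (h0.trans h0'.symm)
  refine ⟨a, fun k hk => ?_⟩
  rcases Nat.le_one_iff_eq_zero_or_eq_one.1 hk with rfl | rfl
  exacts [e0, e1]

variable (h3 : X.Three)
include h3

theorem trans_succ {j : Bool} {m : ℕ} (h : Trans X j (m + 1)) {s : ℕ → X.Vtx} (hs : NB X s (m + 2))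
    (hj : (s 0).1 = j) {u : G} (hfix : ∀ k ≤ m + 1, X.act u (s k) = s k)
    (hmv : X.act u (s (m + 2)) ≠ s (m + 2)) : Trans X j (m + 2) := by
  intro f g hf hg h0 h0'
  obtain ⟨a, ha⟩ := h f s (hf.le (by omega)) (hs.le (by omega)) h0 hj
  obtain ⟨c, hc⟩ := h g s (hg.le (by omega)) (hs.le (by omega)) h0' hj
  have hadj : X.Adj (s (m + 1)) (s m) := adj_symm (hs.1 m (by omega))
  have hlast : X.Adj (s (m + 1)) (s (m + 2)) := hs.1 (m + 1) (by omega)
  have hne : s (m + 2) ≠ s m := (hs.2 m le_rfl).symm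
  have hu : X.Adj (s (m + 1)) (X.act u (s (m + 2))) := by
    have := adj_act hlast u
    rwa [hfix _ le_rfl] at this
  have hune : X.act u (s (m + 2)) ≠ s m := fun e =>
    hne (act_inj (e.trans (hfix m (by omega)).symm))
  obtain ⟨x, -, -, -, hall⟩ := third h3 hadj hlast hne
  have hx : X.act u (s (m + 2)) = x := ((hall _ hu).resolve_left hune).resolve_left hmv
  subst hx
  have key : ∀ (f' : ℕ → X.Vtx), NB X f' (m + 2) → (∀ k ≤ m + 1, f' k = s k) →
      ∃ d, ∀ k ≤ m + 2, X.act d (s k) = f' k := by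
    intro f' hf' he
    have h1 : X.Adj (s (m + 1)) (f' (m + 2)) := by
      have := hf'.1 (m + 1) (by omega)
      rwa [he _ le_rfl] at this
    have h2 : f' (m + 2) ≠ s m := fun e => hf'.2 m le_rfl (by rw [e, he m (by omega)])
    rcases (hall _ h1).resolve_left h2 with e | e
    · refine ⟨1, fun k hk => ?_⟩
      rw [act_one]
      rcases Nat.lt_or_eq_of_le hk with hk' | rfl
      exacts [(he k (by omega)).symm, e.symm]
    · refine ⟨u, fun k hk => ?_⟩
      rcases Nat.lt_or_eq_of_le hk with hk' | rfl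
      exacts [(hfix k (by omega)).trans (he k (by omega)).symm, e.symm]
  obtain ⟨d, hd⟩ := key _ (hf.act a) ha
  obtain ⟨e, he⟩ := key _ (hg.act c) hc
  refine ⟨c⁻¹ * e * d⁻¹ * a, fun k hk => ?_⟩
  rw [← act_act, ← hd k hk, act_act, inv_mul_cancel_right, ← act_act, he k hk, act_act, inv_mul_cancel, act_one]

theorem trans_two (j : Bool) : Trans X j 2 := by
  intro f g hf hg h0 h0'
  have hadj : X.Adj (f 1) (f 0) := adj_symm (hf.1 0 (by omega))
  obtain ⟨t, ht0, ht, htQ⟩ := exists_refl hadj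
  refine trans_succ h3 (m := 0) (trans_one j) hf h0 (u := t) (fun k hk => ?_) ?_ f g hf hg h0 h0'
  · rcases Nat.le_one_iff_eq_zero_or_eq_one.1 hk with rfl | rfl
    exacts [mem_St_iff.1 ht.2, mem_St_iff.1 ht.1]
  · exact move hadj (hf.1 1 (by omega)) (hf.2 0 le_rfl).symm ht htQ

/-- A step of transitivity from a walk whose last vertex can be moved. -/
theorem trans_step {j : Bool} {m : ℕ} (h : Trans X j (m + 1)) {F : ℕ → X.Vtx} {N : ℕ} (hF : NB X F N)
    (p : ℕ) (hp : p + (m + 2) ≤ N) (hj : (F p).1 = j) {u : G}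
    (hfix : ∀ k, p ≤ k → k ≤ p + (m + 1) → X.act u (F k) = F k)
    (hmv : X.act u (F (p + (m + 2))) ≠ F (p + (m + 2))) : Trans X j (m + 2) :=
  trans_succ h3 h (hF.shift p (m + 2) hp) hj (fun k hk => hfix (p + k) (by omega) (by omega)) hmv

/-- A step of transitivity from a walk whose first vertex can be moved. -/
theorem trans_step_rev {j : Bool} {m : ℕ} (h : Trans X j (m + 1)) {F : ℕ → X.Vtx} {N : ℕ} (hF : NB X F N)
    (p : ℕ) (hp : p + (m + 2) ≤ N) (hj : (F (p + (m + 2))).1 = j) {u : G}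
    (hfix : ∀ k, p + 1 ≤ k → k ≤ p + (m + 2) → X.act u (F k) = F k)
    (hmv : X.act u (F p) ≠ F p) : Trans X j (m + 2) := by
  refine trans_succ h3 h (hF.shift p (m + 2) hp).rev hj (u := u)
    (fun k hk => hfix (p + (m + 2 - k)) (by omega) (by omega)) ?_
  show X.act u (F (p + (m + 2 - (m + 2)))) ≠ F (p + (m + 2 - (m + 2)))
  rwa [Nat.sub_self]

omit h3 in
/-- Transitivity for the reversed walks. -/
theorem trans_rev_odd {j : Bool} {n : ℕ} (hn : Odd n) (h : Trans X j n) : Trans X (!j) n := by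
  intro f g hf hg h0 h0'
  obtain ⟨a, ha⟩ := h (fun k => f (n - k)) (fun k => g (n - k)) hf.rev hg.rev
    (by show (f (n - 0)).1 = j; rw [Nat.sub_zero, type_of_odd hf.1 le_rfl hn, h0, Bool.not_not])
    (by show (g (n - 0)).1 = j; rw [Nat.sub_zero, type_of_odd hg.1 le_rfl hn, h0', Bool.not_not])
  refine ⟨a, fun k hk => ?_⟩
  have := ha (n - k) (Nat.sub_le _ _)
  simp only [show n - (n - k) = k by omega] at this
  exact this

omit h3

/-! ### The critical distance -/

/-- Modules of the moving side lie in the cores at distance less than `b`. -/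
def NearA (X : Data G) (i : Bool) (b : ℕ) : Prop :=
  ∀ v w n, n < b → v.1 = i → Reach X v w n → X.Zv v ≤ X.Qv w

/-- A critical walk of the moving side. -/
def CritA (X : Data G) (i : Bool) (b : ℕ) (f : ℕ → X.Vtx) : Prop :=
  X.Walk f b ∧ (f 0).1 = i ∧ ¬ X.Zv (f 0) ≤ X.Qv (f b)

theorem Main.exists_crit (hM : Main X i) : ∃ b, 1 ≤ b ∧ NearA X i b ∧ ∃ f, CritA X i b f := by
  classical
  have hex : ∃ n, ∃ f, CritA X i n f := by
    by_contra hcon
    push Not at hcon
    have hall : ∀ f n, X.Walk f n → (f 0).1 = i → X.Zv (f 0) ≤ X.Qv (f n) := fun f n hf h0 => by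
      by_contra h
      exact hcon n f ⟨hf, h0, h⟩
    set N : Subgroup G := Subgroup.closure
      {a | ∃ v n, Reach X (X.vtx i 1) v n ∧ v.1 = i ∧ a ∈ X.Zv v} with hN
    have hNT : N ≤ X.T := by
      rw [hN, Subgroup.closure_le]
      rintro a ⟨v, n, hr, hv, ha⟩
      obtain ⟨f, hf, f0, fn⟩ := hr.symm.exists_walk
      have h2 := hall f n hf (by rw [f0]; exact hv) (by rw [f0]; exact ha)
      rw [fn, Qv_vtx, cnj_one] at h2
      exact (X.dih i).Q_le h2
    have hinv : ∀ j, ∀ g ∈ X.P j, ∀ n ∈ N, g * n * g⁻¹ ∈ N := by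
      intro j g hg n hn
      refine (Subgroup.closure_le (N.comap (MulAut.conj g).toMonoidHom)).2 ?_ hn
      rintro a ⟨v, m, hr, hv, ha⟩
      obtain ⟨k, hk⟩ : ∃ k, Reach X (X.vtx i 1) (X.act g (X.vtx i 1)) k := by
        by_cases hji : j = i
        · subst hji
          refine ⟨0, ?_⟩
          rw [(act_vtx_eq_iff (X := X) j 1 g).2 (by rwa [cnj_one])]
          exact Reach.refl _
        · obtain rfl : j = !i := by cases i <;> cases j <;> simp_all
          have he : X.act g (X.vtx (!i) 1) = X.vtx (!i) 1 := by rw [act_vtx_eq_iff, cnj_one]; exact hg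
          have a1 : X.Adj (X.vtx i 1) (X.vtx (!i) 1) := ⟨1, i, rfl, rfl⟩
          have a2 := adj_act (adj_symm a1) g
          rw [he] at a2
          exact ⟨2, Reach.two a1 a2⟩
      have hr' : ∀ {u w : X.Vtx} {l : ℕ}, Reach X u w l → Reach X (X.act g u) (X.act g w) l := by
        intro u w l h
        induction h with
        | refl v => exact Reach.refl _
        | @step p q r l' hpq _ ih => exact Reach.step (adj_act hpq g) ih
      refine Subgroup.subset_closure ⟨X.act g v, k + m, hk.trans (hr' hr), hv, ?_⟩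
      show g * a * g⁻¹ ∈ X.Zv (X.act g v)
      rw [Zv_act]
      exact cnj_conj_mem.2 ha
    obtain ⟨z, hz, hz1⟩ := X.Z_nontrivial
    have hzN : z ∈ N := Subgroup.subset_closure ⟨X.vtx i 1, 0, Reach.refl _, rfl, by
      rw [Zv_vtx, cnj_one]; exact Z_le_V i hz⟩
    rw [X.faithful N hNT hinv, Subgroup.mem_bot] at hzN
    exact hz1 hzN
  obtain ⟨f, hf⟩ := Nat.find_spec hex
  refine ⟨Nat.find hex, Nat.one_le_iff_ne_zero.2 fun h => hf.2.2 ?_, fun v w n hn hv hr => ?_, f, hf⟩
  · rw [h]; exact hM.Zv_le _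
  · by_contra hle
    obtain ⟨g, hg, g0, gn⟩ := hr.exists_walk
    exact Nat.find_min hex hn ⟨g, hg, by rw [g0]; exact hv, by rw [g0, gn]; exact hle⟩

variable {b : ℕ} (hM : Main X i) (hb : NearA X i b)
include hM hb

/-- Modules of the other side. -/
theorem Main.nearB {v w : X.Vtx} {n : ℕ} (hn : n + 1 < b) (hv : v.1 = !i) (h : Reach X v w n) :
    X.Zv v ≤ X.Qv w := by
  obtain ⟨α, hα⟩ := exists_nbr v
  exact (hM.Zv_mono (adj_symm hα) (typeA hα hv)).trans
    (hb α w (n + 1) hn (typeA hα hv) (Reach.step (adj_symm hα) h))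

theorem Main.fix {v w : X.Vtx} {n : ℕ} (hn : n ≤ b) (hv : v.1 = i) (h : Reach X v w n) :
    X.Zv v ≤ X.St w := by
  rcases n with _ | n
  · cases h
    exact (hM.Zv_le v).trans (Qv_le_St v)
  · obtain ⟨f, hf, f0, fn⟩ := h.exists_walk
    have h1 := hb v (f n) n (by omega) hv (f0 ▸ by simpa using Reach.seg hf (Nat.zero_le n) (by omega))
    rw [← fn]
    exact h1.trans (Qv_le_St_nbr (hf n (by omega)))

theorem Main.fix_act {v w : X.Vtx} {n : ℕ} (hn : n ≤ b) (hv : v.1 = i) (h : Reach X v w n) {z : G}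
    (hz : z ∈ X.Zv v) : X.act z w = w :=
  mem_St_iff.1 (hM.fix hb hn hv h hz)

theorem Main.comm_near {v w : X.Vtx} {n : ℕ} (hn : n < b) (hv : v.1 = i) (h : Reach X v w n) {z z' : G}
    (hz : z ∈ X.Zv v) (hz' : z' ∈ X.Zv w) : z * z' = z' * z :=
  hM.Zv_central hz' (hb v w n hn hv h hz)

omit hM in
theorem CritA.nb {f : ℕ → X.Vtx} (hf : CritA X i b f) : NB X f b := by
  refine ⟨hf.1, fun k hk e => hf.2.2 (hb _ _ (k + (b - (k + 2))) (by omega) hf.2.1 ?_)⟩
  have h1 : Reach X (f 0) (f k) k := by simpa using Reach.seg hf.1 (Nat.zero_le k) (by omega)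
  exact h1.trans (e ▸ Reach.seg hf.1 hk le_rfl)

end Cfsg.Agent.LocalEven.Amalgam33
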